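import Groth.Agent.L29.DCoh.QCohOps
import Groth.Agent.L29.DCoh.TildeD
import Groth.Agent.L29.DCoh.FiveRight
import Groth.Agent.L29.DCoh.QCohLocal
import Mathlib.CategoryTheory.Triangulated.Subcategory

/-!
Objects with quasi-coherent cohomology form a triangulated subcategory.
-/

set_option autoImplicit false
set_option backward.defeqAttrib.useBackward true
set_option backward.isDefEq.respectTransparency false
set_option backward.isDefEq.respectTransparency.types false

universe u

open CategoryTheory CategoryTheory.Limits CategoryTheory.Pretriangulated AlgebraicGeometry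

attribute [local instance] HasDerivedCategory.standard

namespace Groth.L29.DC.Gen

variable {X : Scheme.{u}}

theorem isQCohD_shift {K : DCoh.D X} (h : DCoh.IsQCohD K) (n : ℤ) : DCoh.IsQCohD (K⟦n⟧) :=
  haveI := QRlim.enoughKInj X
  FiveRight.PD_shift (fun N : X.Modules => Coh.IsQCoh N) (fun e h => isQCoh_of_iso' e h) h n

/-- quasi-coherence passes to cones -/
theorem isQCohD_third (T : Triangle (DCoh.D X)) (hT : T ∈ distTriang _) (h₁ : DCoh.IsQCohD T.obj₁)
    (h₂ : DCoh.IsQCohD T.obj₂) : DCoh.IsQCohD T.obj₃ := by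
  refine isQCohD_of_charts fun x => ?_
  obtain ⟨_, ⟨V, hV, rfl⟩, hxV, -⟩ := X.isBasis_affineOpens.exists_subset_of_mem_open (Set.mem_univ x) isOpen_univ
  let R : CommRingCat.{u} := Γ(X, V)
  let j : Spec R ⟶ X := hV.fromSpec
  haveI := Groth.L18.TildeF.tilde_preservesFiniteLimits (R := R)
  refine ⟨R, j, inferInstance, ?_, ?_⟩
  · rw [IsAffineOpen.opensRange_fromSpec]; exact hxV
  · haveI := (TildeD.fullyFaithful (R := R)).1
    obtain ⟨M₁, ⟨e₁⟩⟩ := (TildeD.isQCohD_iff _).1 (isQCohD_restrictD j h₁)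
    obtain ⟨M₂, ⟨e₂⟩⟩ := (TildeD.isQCohD_iff _).1 (isQCohD_restrictD j h₂)
    let T' := DCoh.tildeD R
    obtain ⟨M₃, a, d, hM⟩ := distinguished_cocone_triangle
      (T'.preimage (e₁.hom ≫ (DCoh.restrictD j).map T.mor₁ ≫ e₂.inv))
    let φ := isoTriangleOfIso₁₂ _ _ (T'.map_distinguished _ hM) ((DCoh.restrictD j).map_distinguished _ hT) e₁ e₂
      (by
        change T'.map (T'.preimage _) ≫ e₂.hom = e₁.hom ≫ (DCoh.restrictD j).map T.mor₁
        rw [Functor.map_preimage]; simp)
    exact isQCohD_of_iso (Triangle.π₃.mapIso φ) (isQCohD_tildeD M₃)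

/-- quasi-coherence passes to fibres -/
theorem isQCohD_first (T : Triangle (DCoh.D X)) (hT : T ∈ distTriang _) (h₂ : DCoh.IsQCohD T.obj₂)
    (h₃ : DCoh.IsQCohD T.obj₃) : DCoh.IsQCohD T.obj₁ :=
  isQCohD_third T.invRotate.invRotate (inv_rot_of_distTriang _ (inv_rot_of_distTriang _ hT))
    (isQCohD_shift h₂ (-1)) (isQCohD_shift h₃ (-1))

instance : ObjectProperty.IsClosedUnderIsomorphisms (fun K : DCoh.D X => DCoh.IsQCohD K) :=
  ⟨fun e h => isQCohD_of_iso e h⟩

end Groth.L29.DC.Gen
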