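import Groth.Agent.L29.DCoh.Gen.Support

/-!
Vanishing of the cohomology sheaves on a subset: calculus under restriction and triangles.
-/

set_option autoImplicit false
set_option backward.defeqAttrib.useBackward true
set_option backward.isDefEq.respectTransparency false
set_option backward.isDefEq.respectTransparency.types false

universe u

open CategoryTheory CategoryTheory.Limits CategoryTheory.Pretriangulated AlgebraicGeometry ZeroObject

attribute [local instance] HasDerivedCategory.standard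

namespace Groth.L29.DC.Gen

open Groth.L00

variable {X U : Scheme.{u}} (j : U ⟶ X) [IsOpenImmersion j]

theorem isZero_stalk_res_iff (M : X.Modules) (y : U) :
    IsZero ((Stk.F U y).obj ((ExtZero.res j).obj M)) ↔ IsZero ((Stk.F X (j y)).obj M) := by
  constructor
  · intro h
    have h1 := h.of_iso ((Stk.F U y).mapIso ((Scheme.Modules.restrictFunctorIsoPullback j).app M).symm)
    have h2 : IsZero ((ModuleCat.extendScalars (PullStalk.φ j y)).obj ((Stk.F X (j y)).obj M)) :=
      h1.of_iso ((PullStalk.stalkIso j y).app M).symm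
    letI := (PullStalk.φ j y).toAlgebra
    have hs : Subsingleton (TensorProduct (X.presheaf.stalk (j y)) (U.presheaf.stalk y) ((Stk.F X (j y)).obj M)) :=
      ModuleCat.subsingleton_of_isZero h2
    haveI : Subsingleton ((Stk.F X (j y)).obj M) :=
      (Equiv.subsingleton_congr ((TensorProduct.lid (X.presheaf.stalk (j y)) ((Stk.F X (j y)).obj M)).symm.trans
        (TensorProduct.congr (LinearEquiv.ofBijective (Algebra.linearMap (X.presheaf.stalk (j y)) (U.presheaf.stalk y))
          (ConcreteCategory.bijective_of_isIso (j.stalkMap y))) (LinearEquiv.refl _ _))).toEquiv).2 hs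
    exact ModuleCat.isZero_of_subsingleton _
  · intro hz
    exact (((ModuleCat.extendScalars (PullStalk.φ j y)).map_isZero hz).of_iso
      ((PullStalk.stalkIso j y).app _)).of_iso
        ((Stk.F _ y).mapIso ((Scheme.Modules.restrictFunctorIsoPullback j).app _))

omit U in
/-- the cohomology sheaves have no stalks on `S` -/
def ZOn {X : Scheme.{u}} (K : DCoh.D X) (S : Set X) : Prop :=
  ∀ i : ℤ, ∀ x ∈ S, IsZero ((Stk.F X x).obj (DCoh.HD K i))

theorem zOn_restrictD (K : DCoh.D X) (S : Set U) :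
    ZOn ((DCoh.restrictD j).obj K) S ↔ ZOn K (j '' S) := by
  refine forall_congr' fun i => ?_
  simp only [Set.forall_mem_image]
  refine forall₂_congr fun y _ => ?_
  rw [← isZero_stalk_res_iff j]
  exact ((Stk.F U y).mapIso (HDResIso j K i)).isZero_iff

theorem zOn_iff_support {K : DCoh.D X} {S : Set X} :
    ZOn K S ↔ ∀ i : ℤ, CohB1.support (DCoh.HD K i) ⊆ Sᶜ :=
  forall_congr' fun i => ⟨fun h x hx hxS => (isZero_stalk_iff _ x).1 (h x hxS) hx,
    fun h x hxS => (isZero_stalk_iff _ x).2 fun hx => h hx hxS⟩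

theorem isZero_restrictD_iff_zOn (K : DCoh.D X) : IsZero ((DCoh.restrictD j).obj K) ↔ ZOn K (Set.range j) := by
  rw [isZero_restrictD_iff, zOn_iff_support]

omit U
variable {K L : DCoh.D X} {S S' : Set X}

theorem ZOn.mono (h : ZOn K S) (hS : S' ⊆ S) : ZOn K S' := fun i x hx => h i x (hS hx)

theorem ZOn.union (h : ZOn K S) (h' : ZOn K S') : ZOn K (S ∪ S') :=
  fun i x hx => hx.elim (h i x) (h' i x)

theorem ZOn.of_iso (h : ZOn K S) (e : L ≅ K) : ZOn L S := fun i x hx =>
  (h i x hx).of_iso ((Stk.F X x).mapIso ((DerivedCategory.homologyFunctor _ i).mapIso e))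

theorem isZero_res_iff (V : X.Opens) (K : DCoh.D X) : IsZero ((res V).obj K) ↔ ZOn K V := by
  rw [isZero_restrictD_iff_zOn, Scheme.Opens.range_ι]

theorem zOn_third {T : Triangle (DCoh.D X)} (hT : T ∈ distTriang _) (V : X.Opens) (h₁ : ZOn T.obj₁ V)
    (h₂ : ZOn T.obj₂ V) : ZOn T.obj₃ V := by
  rw [← isZero_res_iff] at h₁ h₂ ⊢
  exact Triangle.isZero₃_of_isZero₁₂ _ ((res V).map_distinguished _ hT) h₁ h₂

theorem zOn_first {T : Triangle (DCoh.D X)} (hT : T ∈ distTriang _) (V : X.Opens) (h₂ : ZOn T.obj₂ V)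
    (h₃ : ZOn T.obj₃ V) : ZOn T.obj₁ V := by
  rw [← isZero_res_iff] at h₂ h₃ ⊢
  exact Triangle.isZero₁_of_isZero₂₃ _ ((res V).map_distinguished _ hT) h₂ h₃

theorem zOn_biprod (V : X.Opens) (hK : ZOn K V) (hL : ZOn L V) : ZOn (K ⊞ L) V := by
  have h := binaryBiproductTriangle_distinguished K L
  rw [← isZero_res_iff] at hK hL ⊢
  exact Triangle.isZero₂_of_isZero₁₃ _ ((res V).map_distinguished _ h) hK hL

theorem zOn_shift (V : X.Opens) (hK : ZOn K V) (n : ℤ) : ZOn (K⟦n⟧) V := by
  rw [← isZero_res_iff] at hK ⊢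
  exact ((shiftFunctor _ n).map_isZero hK).of_iso (((res V).commShiftIso n).app K)

/-- direct images -/
theorem zOn_push {V : X.Opens} (M : DCoh.D (V : Scheme.{u})) (Ω : X.Opens) (h : ZOn M (V.ι ⁻¹' Ω)) :
    ZOn ((push V).obj M) Ω := by
  rw [← isZero_res_iff]
  refine isZero_res_push_of M ((isZero_restrictD_iff_zOn _ M).2 (h.mono ?_))
  rintro _ ⟨z, rfl⟩
  have hz : V.ι (X.homOfLE (inf_le_right : Ω ⊓ V ≤ V) z) = (Ω ⊓ V).ι z := congr($(X.homOfLE_ι (inf_le_right : Ω ⊓ V ≤ V)) z)
  change V.ι _ ∈ Ω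
  rw [hz]
  exact z.2.1

end Groth.L29.DC.Gen
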