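import Groth.Agent.L29.DCoh.Gen.Affine
import Groth.Agent.L29.DCoh.Gen.QCohTri
import Groth.Agent.L29.DCoh.Gen.ZOn

/-!
`D_QCoh` of a quasi-compact quasi-separated scheme has a perfect generator, also with supports.
-/

set_option autoImplicit false
set_option backward.defeqAttrib.useBackward true
set_option backward.isDefEq.respectTransparency false
set_option backward.isDefEq.respectTransparency.types false

universe u

open CategoryTheory CategoryTheory.Limits CategoryTheory.Pretriangulated AlgebraicGeometry ZeroObject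

attribute [local instance] HasDerivedCategory.standard

namespace Groth.L29.DC.Gen

/-- orthogonal to all shifts -/
def Ortho {X : Scheme.{u}} (P E : DCoh.D X) : Prop := ∀ (n : ℤ) (φ : P⟦n⟧ ⟶ E), φ = 0

theorem ortho_of_iso {X : Scheme.{u}} {P P' E E' : DCoh.D X} (e : P ≅ P') (e' : E ≅ E') (h : Ortho P E) : Ortho P' E' :=
  fun n φ => by
    have := h n ((shiftFunctor _ n).map e.hom ≫ φ ≫ e'.inv)
    rw [← cancel_epi ((shiftFunctor _ n).map e.hom), ← cancel_mono e'.inv, comp_zero, zero_comp, Category.assoc]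
    exact this

theorem ortho_shift {X : Scheme.{u}} {P E : DCoh.D X} (h : Ortho P E) (m : ℤ) : Ortho P (E⟦m⟧) := fun n φ => by
  let e : P⟦n + -m⟧ ≅ (P⟦n⟧)⟦-m⟧ := (shiftFunctorAdd (DCoh.D X) n (-m)).app P
  refine (shiftFunctor (DCoh.D X) (-m)).map_injective ?_
  rw [Functor.map_zero, ← cancel_epi e.hom, comp_zero,
    ← cancel_mono ((shiftFunctorCompIsoId (DCoh.D X) m (-m) (by omega)).app E).hom, zero_comp]
  exact h _ _

/-- Hom from `A⟦0⟧`-type objects -/
theorem hom_zero_of_ortho {X : Scheme.{u}} {P E : DCoh.D X} (h : Ortho P E) (n : ℤ) (φ : P ⟶ E⟦n⟧) : φ = 0 := by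
  have := ortho_shift h n 0 (((shiftFunctorZero (DCoh.D X) ℤ).app P).hom ≫ φ)
  exact (cancel_epi ((shiftFunctorZero (DCoh.D X) ℤ).app P).hom).1 (this.trans comp_zero.symm)

theorem isPerfect_restrictD {U Z : Scheme.{u}} (k : U ⟶ Z) [IsOpenImmersion k] {K : DCoh.D Z}
    (hK : DCoh.IsPerfect K) : DCoh.IsPerfect ((DCoh.restrictD k).obj K) := by
  rw [isPerfect_iff_wit] at hK
  refine perfect_of_on fun x => ?_
  obtain ⟨Z', hZ, hw⟩ := hK (k x)
  exact exists_preimage_wit k x hZ hw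

theorem isZero_of_surjective {U Z : Scheme.{u}} (j : U ⟶ Z) [IsOpenImmersion j] (hj : Function.Surjective j)
    {K : DCoh.D Z} (h : IsZero ((DCoh.restrictD j).obj K)) : IsZero K :=
  isZero_of_hd fun i => Groth.L21.Mod.isZero_of_restrict (fun _ : PUnit.{u + 1} => j)
    (fun y => by obtain ⟨x, rfl⟩ := hj y; exact ⟨⟨⟩, x, rfl⟩) _ fun _ =>
    ((DerivedCategory.homologyFunctor _ i).map_isZero h).of_iso (HDResIso j K i).symm

theorem isIso_unit_of_surjective {U Z : Scheme.{u}} (j : U ⟶ Z) [IsOpenImmersion j] (hj : Function.Surjective j) :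
    IsIso (Cpt.restrictRpushAdj j).unit := by
  rw [NatTrans.isIso_iff_isIso_app]
  intro K
  obtain ⟨C, a, d, hT⟩ := distinguished_cocone_triangle ((Cpt.restrictRpushAdj j).unit.app K)
  refine (Triangle.isZero₃_iff_isIso₁ _ hT).1 (isZero_of_surjective j hj ?_)
  exact (Triangle.isZero₃_iff_isIso₁ _ ((DCoh.restrictD j).map_distinguished _ hT)).2
    (IsIso.of_isIso_fac_right (hh := IsIso.id _) ((Cpt.restrictRpushAdj j).left_triangle_components K))

variable {X : Scheme.{u}}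

/-- a perfect object on an affine open supported off `W` generating such objects -/
theorem exists_affine_supported_generator [QuasiSeparatedSpace X] {V W : X.Opens} (hV : IsAffineOpen V) (hle : W ≤ V)
    (hW : IsCompact (W : Set X)) :
    ∃ K : DCoh.D (V : Scheme.{u}), DCoh.IsPerfect K ∧ IsZero ((DCoh.restrictD (X.homOfLE hle)).obj K) ∧
      ∀ F : DCoh.D (V : Scheme.{u}), DCoh.IsQCohD F → IsZero ((DCoh.restrictD (X.homOfLE hle)).obj F) →
        Ortho K F → IsZero F := by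
  let R : CommRingCat.{u} := Γ(X, V)
  haveI := Groth.L18.TildeF.tilde_preservesFiniteLimits (R := R)
  haveI := (TildeD.fullyFaithful (R := R)).1
  haveI := (TildeD.fullyFaithful (R := R)).2
  haveI : CompactSpace (W : Scheme.{u}) := isCompact_iff_compactSpace.1 hW
  let s : (V : Scheme.{u}) ⟶ Spec R := hV.isoSpec.hom
  let k : (W : Scheme.{u}) ⟶ Spec R := X.homOfLE hle ≫ s
  let T := DCoh.tildeD R
  obtain ⟨l, hl, hcov⟩ := exists_elements k
  let Φ := T ⋙ DCoh.restrictD s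
  let eT : ∀ K₀ : Dual.D R, (DCoh.restrictD (X.homOfLE hle)).obj (Φ.obj K₀) ≅ (tres k).obj K₀ := fun K₀ =>
    (resTransD s (X.homOfLE hle) k rfl).app (T.obj K₀)
  have hs : Function.Surjective s := s.surjective
  haveI := isIso_unit_of_surjective s hs
  haveI : (DCoh.restrictD s).Faithful := (Cpt.restrictRpushAdj s).fullyFaithfulLOfIsIsoUnit.faithful
  refine ⟨Φ.obj (kObj l), isPerfect_restrictD s (TildeAlg.perfect_tilde (isPerfect_kObj l)), ?_, fun F hF hFW ho => ?_⟩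
  · exact ((isZero_tres_iff k l hl hcov _).2 fun f hf => tors_of_kill (kill_kObj l f hf)).of_iso (eT _)
  · haveI : QuasiCompact s := inferInstance
    obtain ⟨K₀, ⟨e⟩⟩ := (TildeD.isQCohD_iff _).1 (RpushQC.isQCohD_Rpush s F hF)
    let eF : Φ.obj K₀ ≅ F := (DCoh.restrictD s).mapIso e ≪≫ asIso ((Cpt.restrictRpushAdj s).counit.app F)
    have ht := (isZero_tres_iff k l hl hcov K₀).1
      (hFW.of_iso ((eT K₀).symm ≪≫ (DCoh.restrictD (X.homOfLE hle)).mapIso eF))
    refine (Φ.map_isZero (isZero_of_kObj_orthogonal l ht fun n h => Φ.map_injective ?_)).of_iso eF.symm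
    rw [Functor.map_zero, ← cancel_mono (((Φ.commShiftIso n).app K₀).hom ≫ eF.hom⟦n⟧'), zero_comp]
    exact hom_zero_of_ortho ho n _

/-- extension of `P ⊞ P⟦1⟧` across an affine open, keeping the support -/
theorem exists_affine_extension_supp {V W O : X.Opens} (hV : IsAffineOpen V) (hle : W ≤ V)
    (hW : IsCompact (W : Set X)) (hOV : O ≤ V) (hO : IsCompact (O : Set X)) {E : DCoh.D (W : Scheme.{u})}
    (hE : DCoh.IsPerfect E) (hEO : ZOn E (W.ι ⁻¹' O)) :
    ∃ b : DCoh.D (V : Scheme.{u}), DCoh.IsPerfect b ∧ ZOn b (V.ι ⁻¹' O) ∧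
      Nonempty ((DCoh.restrictD (X.homOfLE hle)).obj b ≅ E ⊞ E⟦(1 : ℤ)⟧) := by
  let R : CommRingCat.{u} := Γ(X, V)
  haveI := Groth.L18.TildeF.tilde_preservesFiniteLimits (R := R)
  haveI : CompactSpace (W : Scheme.{u}) := isCompact_iff_compactSpace.1 hW
  haveI : CompactSpace (O : Scheme.{u}) := isCompact_iff_compactSpace.1 hO
  let s : (V : Scheme.{u}) ⟶ Spec R := hV.isoSpec.hom
  let k : (W : Scheme.{u}) ⟶ Spec R := X.homOfLE hle ≫ s
  let kO : (O : Scheme.{u}) ⟶ Spec R := X.homOfLE hOV ≫ s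
  obtain ⟨lT, hlT, hcov⟩ := exists_elements kO
  obtain ⟨C, hC, hCT, ⟨eC⟩⟩ := exists_extend_supp k hE lT fun f hf => by
    refine (isZero_restrictD_iff_zOn _ E).2 (hEO.mono ?_)
    rintro _ ⟨y, rfl⟩
    obtain ⟨z, hz⟩ := hlT f hf (show k ((k ⁻¹ᵁ bo f).ι y) ∈ bo f from y.2)
    have h1 : X.homOfLE hOV z = X.homOfLE hle ((k ⁻¹ᵁ bo f).ι y) := s.isOpenEmbedding.injective hz
    have h2 := congrArg V.ι h1
    rw [← Scheme.Hom.comp_apply, ← Scheme.Hom.comp_apply, X.homOfLE_ι, X.homOfLE_ι] at h2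
    change W.ι _ ∈ O
    exact h2 ▸ z.2
  refine ⟨(DCoh.restrictD s).obj ((DCoh.tildeD R).obj C), isPerfect_restrictD s (TildeAlg.perfect_tilde hC), ?_,
    ⟨(resTransD s (X.homOfLE hle) k rfl).app _ ≪≫ eC⟩⟩
  have hz := (isZero_restrictD_iff_zOn _ _).1 (((isZero_tres_iff kO lT hlT hcov C).2 hCT).of_iso
    ((resTransD s (X.homOfLE hOV) kO rfl).app _))
  refine hz.mono fun y (hy : V.ι y ∈ O) => ⟨⟨y.1, hy⟩, Subtype.ext ?_⟩
  exact congr($(X.homOfLE_ι hOV) (⟨y.1, hy⟩ : (O : X.Opens)))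

/-- generators exist -/
def HasGen (Y : Scheme.{u}) : Prop :=
  ∃ P : DCoh.D Y, DCoh.IsPerfect P ∧ ∀ E : DCoh.D Y, DCoh.IsQCohD E → Ortho P E → IsZero E

/-- generators among objects vanishing on an open -/
def HasGenOn (Y : Scheme.{u}) (Ω : Y.Opens) : Prop :=
  ∃ P : DCoh.D Y, DCoh.IsPerfect P ∧ ZOn P Ω ∧
    ∀ E : DCoh.D Y, DCoh.IsQCohD E → ZOn E Ω → Ortho P E → IsZero E

theorem hasGen_of_union [QuasiSeparatedSpace X] (U V : X.Opens) (hUV : U ⊔ V = ⊤)
    (hU : IsCompact (U : Set X)) (hV : IsAffineOpen V) (Ω : X.Opens) (hΩ : IsCompact (Ω : Set X))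
    (h : HasGenOn (U : Scheme.{u}) (U.ι ⁻¹ᵁ Ω)) : HasGenOn X Ω := by
  obtain ⟨P, hP, hPΩ, hgen⟩ := h
  have hW : IsCompact ((U ⊓ V : X.Opens) : Set X) := by
    rw [TopologicalSpace.Opens.coe_inf]
    exact QuasiSeparatedSpace.inter_isCompact _ _ U.2 hU V.2 hV.isCompact
  let W := U ⊓ V
  let O := Ω ⊓ V
  have hO : IsCompact (O : Set X) := by
    rw [TopologicalSpace.Opens.coe_inf]
    exact QuasiSeparatedSpace.inter_isCompact _ _ Ω.2 hΩ V.2 hV.isCompact
  have hzero : ∀ {F : DCoh.D X}, ZOn ((res U).obj F) (U.ι ⁻¹' Ω) → ZOn ((res V).obj F) (V.ι ⁻¹' Ω) → ZOn F Ω := by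
    intro F h1 h2
    rw [zOn_restrictD] at h1 h2
    refine (h1.union h2).mono fun x hx => ?_
    have : x ∈ U ⊔ V := hUV ▸ trivial
    exact this.elim (fun hxU => Or.inl ⟨⟨x, hxU⟩, hx, rfl⟩) fun hxV => Or.inr ⟨⟨x, hxV⟩, hx, rfl⟩
  have hcase : ∀ x : X, x ∈ U ∨ x ∈ V := fun x => by
    have : x ∈ U ⊔ V := hUV ▸ trivial
    exact this
  let r := DCoh.restrictD (X.homOfLE (inf_le_left : W ≤ U))
  let r' := DCoh.restrictD (X.homOfLE (inf_le_right : W ≤ V))
  obtain ⟨b, hb, hbO, ⟨eb⟩⟩ := exists_affine_extension_supp hV (inf_le_right : W ≤ V) hW (inf_le_right : O ≤ V) hO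
    (isPerfect_restrictD _ hP : DCoh.IsPerfect (r.obj P)) ((zOn_restrictD _ P _).2 (hPΩ.mono (by
      rintro _ ⟨y, hy, rfl⟩
      have h1 : U.ι (X.homOfLE (inf_le_left : W ≤ U) y) = W.ι y := congr($(X.homOfLE_ι (inf_le_left : W ≤ U)) y)
      change U.ι _ ∈ Ω
      rw [h1]
      exact hy.1)))
  let a := P ⊞ P⟦(1 : ℤ)⟧
  have ha : DCoh.IsPerfect a := (perfect_two_out_of_three (binaryBiproductTriangle_distinguished _ _)).2.1 hP
    (perfect_shift hP 1)
  haveI := preservesBinaryBiproducts_of_preservesBiproducts r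
  obtain ⟨G, ⟨eU⟩, ⟨eV⟩, -⟩ := exists_glue U V a b
    (((resLE (inf_le_left : W ≤ U)).app _).symm ≪≫ r.mapIso (asIso ((adj U).counit.app a)) ≪≫
      r.mapBiprod P (P⟦(1 : ℤ)⟧) ≪≫ biprod.mapIso (Iso.refl _) ((r.commShiftIso (1 : ℤ)).app P) ≪≫ eb.symm ≪≫
      r'.mapIso (asIso ((adj V).counit.app b)).symm ≪≫ (resLE (inf_le_right : W ≤ V)).app _)
  have hWO : IsCompact ((W ⊔ O : X.Opens) : Set X) := by
    rw [TopologicalSpace.Opens.coe_sup]
    exact hW.union hO
  obtain ⟨K, hK, hKW', hKgen⟩ := exists_affine_supported_generator hV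
    (sup_le inf_le_right inf_le_right : W ⊔ O ≤ V) hWO
  have hKW : IsZero (r'.obj K) := by
    refine (isZero_restrictD_iff_zOn _ K).2 (((isZero_restrictD_iff_zOn _ K).1 hKW').mono ?_)
    rintro _ ⟨y, rfl⟩
    refine ⟨⟨y.1, Or.inl y.2⟩, V.ι.isOpenEmbedding.injective ?_⟩
    rw [← Scheme.Hom.comp_apply, ← Scheme.Hom.comp_apply, X.homOfLE_ι, X.homOfLE_ι]
    rfl
  have hKO : ZOn K (V.ι ⁻¹' Ω) := ((isZero_restrictD_iff_zOn _ K).1 hKW').mono fun y hy => by
    refine ⟨⟨y.1, Or.inr ⟨hy, y.2⟩⟩, V.ι.isOpenEmbedding.injective ?_⟩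
    rw [← Scheme.Hom.comp_apply, X.homOfLE_ι]
    rfl
  obtain ⟨Q, ⟨qU⟩, ⟨qV⟩, -⟩ := exists_glue U V 0 K
    (IsZero.iso ((res W).map_isZero ((push U).map_isZero (isZero_zero _)))
      (hKW.of_iso (((resLE (inf_le_right : W ≤ V)).app _).symm ≪≫ r'.mapIso (asIso ((adj V).counit.app K)))))
  have hperf : ∀ {F : DCoh.D X}, DCoh.IsPerfect ((res U).obj F) → DCoh.IsPerfect ((res V).obj F) →
      DCoh.IsPerfect F := fun h1 h2 => isPerfect_of_cover fun x =>
    (hcase x).elim (fun hx => ⟨U, hx, h1⟩) (fun hx => ⟨V, hx, h2⟩)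
  have hG : DCoh.IsPerfect G := hperf (isPerfect_of_iso eU.symm ha) (isPerfect_of_iso eV.symm hb)
  have hQ : DCoh.IsPerfect Q :=
    hperf (EvalMain.isPerfect_of_isZero ((isZero_zero _).of_iso qU)) (isPerfect_of_iso qV.symm hK)
  have haΩ : ZOn a (U.ι ⁻¹' Ω) := zOn_biprod (U.ι ⁻¹ᵁ Ω) hPΩ (zOn_shift (U.ι ⁻¹ᵁ Ω) hPΩ 1)
  have hGΩ : ZOn G Ω := hzero (haΩ.of_iso eU) ((hbO.mono fun y hy => ⟨hy, y.2⟩).of_iso eV)
  have hQΩ : ZOn Q Ω := hzero (((isZero_restrictD_iff_zOn (𝟙 _) _).1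
    ((DCoh.restrictD _).map_isZero ((isZero_zero _).of_iso qU))).mono fun y _ => ⟨y, rfl⟩) (hKO.of_iso qV)
  refine ⟨G ⊞ Q, (perfect_two_out_of_three (binaryBiproductTriangle_distinguished _ _)).2.1 hG hQ,
    zOn_biprod Ω hGΩ hQΩ, fun E hE hEΩ hGQ => ?_⟩
  have hoG : Ortho G E := fun n φ => by
    have := hGQ n ((shiftFunctor _ n).map biprod.fst ≫ φ)
    calc φ = (shiftFunctor _ n).map (biprod.inl : G ⟶ G ⊞ Q) ≫ (shiftFunctor _ n).map biprod.fst ≫ φ := by
          rw [← Category.assoc, ← Functor.map_comp, biprod.inl_fst, CategoryTheory.Functor.map_id, Category.id_comp]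
      _ = 0 := by rw [this, comp_zero]
  have hoQ : Ortho Q E := fun n φ => by
    have := hGQ n ((shiftFunctor _ n).map biprod.snd ≫ φ)
    calc φ = (shiftFunctor _ n).map (biprod.inr : Q ⟶ G ⊞ Q) ≫ (shiftFunctor _ n).map biprod.snd ≫ φ := by
          rw [← Category.assoc, ← Functor.map_comp, biprod.inr_snd, CategoryTheory.Functor.map_id, Category.id_comp]
      _ = 0 := by rw [this, comp_zero]
  obtain ⟨F, p, d, hT⟩ := distinguished_cocone_triangle₁ ((adj U).unit.app E)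
  have hFU : IsZero ((res U).obj F) :=
    (Triangle.isZero₁_iff_isIso₂ _ ((res U).map_distinguished _ hT)).2 (isIso_res_unit U E)
  have hQU : ∀ n : ℤ, IsZero ((res U).obj (Q⟦n⟧)) := fun n =>
    ((shiftFunctor _ n).map_isZero ((isZero_zero _).of_iso qU)).of_iso (((res U).commShiftIso n).app Q)
  have hoF : Ortho Q F := fun n φ => by
    let L := (push U).obj ((res U).obj E)
    have hoL : Ortho Q L := fun m ψ => ((adj U).homEquiv _ _).symm.injective ((hQU m).eq_of_src _ _)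
    obtain ⟨g, hg⟩ := Triangle.coyoneda_exact₂ _ (inv_rot_of_distTriang _ hT) φ (hoQ n (φ ≫ p))
    rw [hg, show g = 0 from ortho_shift hoL (-1) n g, zero_comp]
  have hFq : DCoh.IsQCohD F := isQCohD_first _ hT hE
    (isQCohD_push hU (isQCohD_restrictD U.ι hE))
  let η := (adj V).unit.app F
  haveI hη : IsIso η := by
    refine isIso_of_cover η fun x => (hcase x).elim (fun hx => ⟨U, hx, ?_⟩) (fun hx => ⟨V, hx, isIso_res_unit V F⟩)
    let FV := (push V).obj ((res V).obj F)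
    have hzW : IsZero ((res W).obj F) := isZero_res_of_le inf_le_left hFU
    haveI : IsIso ((res W).map η) :=
      haveI := isIso_res_unit V F
      isIso_res_of_le inf_le_right η
    have hzW' : IsZero ((res W).obj FV) := hzW.of_iso (asIso ((res W).map η)).symm
    let z : (push V).obj 0 ⟶ FV := 0
    haveI : IsIso ((res W).map z) :=
      isIso_of_source_target_iso_zero _ ((res W).map_isZero ((push V).map_isZero (isZero_zero _))).isoZero hzW'.isoZero
    haveI := isIso_res_of_inter U (isLoc_push V _) (isLoc_push V _) z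
    have hzU : IsZero ((res U).obj FV) :=
      ((res U).map_isZero ((push V).map_isZero (isZero_zero _))).of_iso (asIso ((res U).map z)).symm
    exact isIso_of_source_target_iso_zero _ hFU.isoZero hzU.isoZero
  have hFΩ : ZOn F Ω := zOn_first hT Ω hEΩ (zOn_push _ Ω (((zOn_restrictD U.ι E _).2 (hEΩ.mono (by
    rintro _ ⟨y, hy, rfl⟩
    exact hy)))))
  have hFW : ZOn F ((W ⊔ O : X.Opens) : Set X) := by
    rw [TopologicalSpace.Opens.coe_sup]
    exact ((isZero_res_iff W F).1 (isZero_res_of_le inf_le_left hFU)).union (hFΩ.mono fun x hx => hx.1)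
  have hFV : IsZero ((res V).obj F) := hKgen _ (isQCohD_restrictD V.ι hFq)
    (((isZero_res_iff _ F).2 hFW).of_iso ((resLE (sup_le inf_le_right inf_le_right : W ⊔ O ≤ V)).app F))
    (fun n φ => by
      let e : (res V).obj (Q⟦n⟧) ≅ K⟦n⟧ := ((res V).commShiftIso n).app Q ≪≫ (shiftFunctor _ n).mapIso qV
      rw [← cancel_epi e.hom, comp_zero]
      apply ((adj V).homEquiv _ _).injective
      rw [← cancel_mono (inv η), Adjunction.homEquiv_unit, Adjunction.homEquiv_unit, Functor.map_zero, comp_zero,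
        zero_comp]
      exact hoF n _)
  have hF0 : IsZero F := ((push V).map_isZero hFV).of_iso (asIso η)
  haveI : IsIso ((adj U).unit.app E) := (Triangle.isZero₁_iff_isIso₂ _ hT).1 hF0
  have hEU : IsZero ((res U).obj E) := hgen _ (isQCohD_restrictD U.ι hE) ((zOn_restrictD U.ι E _).2 (hEΩ.mono (by
      rintro _ ⟨y, hy, rfl⟩
      exact hy))) fun n φ => by
    let e : (res U).obj (G⟦n⟧) ≅ a⟦n⟧ := ((res U).commShiftIso n).app G ≪≫ (shiftFunctor _ n).mapIso eU
    have h0 : (shiftFunctor _ n).map (biprod.fst : a ⟶ P) ≫ φ = 0 := by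
      rw [← cancel_epi e.hom, comp_zero]
      apply ((adj U).homEquiv _ _).injective
      rw [← cancel_mono (inv ((adj U).unit.app E)), Adjunction.homEquiv_unit, Adjunction.homEquiv_unit,
        Functor.map_zero, comp_zero, zero_comp]
      exact hoG n _
    calc φ = (shiftFunctor _ n).map (biprod.inl : P ⟶ a) ≫ (shiftFunctor _ n).map biprod.fst ≫ φ := by
          rw [← Category.assoc, ← Functor.map_comp, biprod.inl_fst, CategoryTheory.Functor.map_id, Category.id_comp]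
      _ = 0 := by rw [h0, comp_zero]
  exact ((push U).map_isZero hEU).of_iso (asIso ((adj U).unit.app E))

theorem hasGenOn_of_affines : ∀ (n : ℕ) (X : Scheme.{u}) [QuasiSeparatedSpace X] (A : Fin n → X.Opens),
    (∀ i, IsAffineOpen (A i)) → (⨆ i, A i) = ⊤ → ∀ Ω : X.Opens, IsCompact (Ω : Set X) → HasGenOn X Ω
  | 0, X, _, A, _, h, Ω, _ => by
    refine ⟨0, EvalMain.isPerfect_of_isZero (isZero_zero _), (isZero_res_iff Ω _).1 ((res Ω).map_isZero (isZero_zero _)),
      fun E _ _ _ => isZero_of_cover fun x => ?_⟩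
    have : x ∈ (⨆ i, A i) := h ▸ trivial
    obtain ⟨i, -⟩ := TopologicalSpace.Opens.mem_iSup.1 this
    exact i.elim0
  | n + 1, X, _, A, hA, h, Ω, hΩ => by
    let U : X.Opens := ⨆ i : Fin n, A i.castSucc
    have hsub : ∀ i : Fin n, A i.castSucc ≤ U := fun i => le_iSup (fun i => A i.castSucc) i
    have hU : IsCompact (U : Set X) := by
      rw [TopologicalSpace.Opens.coe_iSup]
      exact isCompact_iUnion fun i => (hA _).isCompact
    refine hasGen_of_union U (A (Fin.last n)) ?_ hU (hA _) Ω hΩ ?_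
    · refine eq_top_iff.2 fun x _ => ?_
      have : x ∈ (⨆ i, A i) := h ▸ trivial
      obtain ⟨i, hi⟩ := TopologicalSpace.Opens.mem_iSup.1 this
      cases i using Fin.lastCases with
      | last => exact Or.inr hi
      | cast j => exact Or.inl (hsub j hi)
    · haveI : QuasiSeparatedSpace (U : Scheme.{u}) := U.ι.isOpenEmbedding.quasiSeparatedSpace
      refine hasGenOn_of_affines n U (fun i => U.ι ⁻¹ᵁ A i.castSucc)
        (fun i => (hA _).preimage_of_isOpenImmersion U.ι (by rw [Scheme.Opens.opensRange_ι]; exact hsub i))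
        (eq_top_iff.2 fun x _ => ?_) (U.ι ⁻¹ᵁ Ω) (U.ι.isOpenEmbedding.isInducing.isCompact_iff.2 (by
          change IsCompact (U.ι '' (U.ι ⁻¹' (Ω : Set X)))
          rw [Set.image_preimage_eq_inter_range, Scheme.Opens.range_ι]
          exact QuasiSeparatedSpace.inter_isCompact _ _ Ω.2 hΩ U.2 hU))
      obtain ⟨i, hi⟩ := TopologicalSpace.Opens.mem_iSup.1 (show U.ι x ∈ ⨆ i : Fin n, A i.castSucc from x.2)
      exact TopologicalSpace.Opens.mem_iSup.2 ⟨i, hi⟩

/-- a perfect generator with supports exists -/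
theorem exists_perfect_generatorOn (X : Scheme.{u}) [CompactSpace X] [QuasiSeparatedSpace X] (Ω : X.Opens)
    (hΩ : IsCompact (Ω : Set X)) : HasGenOn X Ω := by
  classical
  obtain ⟨t, ht⟩ := (isCompact_univ (X := X)).elim_finite_subcover (fun V : X.affineOpens => (V.1 : Set X))
    (fun V => V.1.2) fun x _ => by
      obtain ⟨_, ⟨V, hV, rfl⟩, hxV, -⟩ := X.isBasis_affineOpens.exists_subset_of_mem_open (Set.mem_univ x) isOpen_univ
      exact Set.mem_iUnion.2 ⟨⟨V, hV⟩, hxV⟩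
  refine hasGenOn_of_affines t.card X (fun i => (t.equivFin.symm i).1.1) (fun i => (t.equivFin.symm i).1.2)
    (eq_top_iff.2 fun x _ => ?_) Ω hΩ
  obtain ⟨V, hV, hx⟩ := Set.mem_iUnion₂.1 (ht (Set.mem_univ x))
  exact TopologicalSpace.Opens.mem_iSup.2 ⟨t.equivFin ⟨V, hV⟩, by simpa using hx⟩

/-- Bondal–Van den Bergh: a perfect generator exists -/
theorem exists_perfect_generator (X : Scheme.{u}) [CompactSpace X] [QuasiSeparatedSpace X] : HasGen X := by
  obtain ⟨P, hP, -, h⟩ := exists_perfect_generatorOn X ⊥ (by simp)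
  exact ⟨P, hP, fun E hE => h E hE fun i x hx => absurd hx (by simp)⟩

end Groth.L29.DC.Gen
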