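import Groth.Agent.L29.DCoh.Gen.Main
import Groth.Agent.L29.DCoh.Gen.Brown
import Mathlib.CategoryTheory.Triangulated.Opposite.Functor
import Mathlib.CategoryTheory.Adjunction.PartialAdjoint
import Mathlib.CategoryTheory.Limits.Preserves.Opposites
import Mathlib.CategoryTheory.Preadditive.Yoneda.Limits
import Mathlib.CategoryTheory.Limits.FullSubcategory

/-!
`D_QCoh` of a quasi-compact quasi-separated scheme: coproduct preserving exact functors have right adjoints.
-/

set_option autoImplicit false
set_option backward.defeqAttrib.useBackward true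
set_option backward.isDefEq.respectTransparency false
set_option backward.isDefEq.respectTransparency.types false

universe u u'

open CategoryTheory CategoryTheory.Limits CategoryTheory.Pretriangulated AlgebraicGeometry Opposite

attribute [local instance] HasDerivedCategory.standard

namespace Groth.L29.DC.Gen

open Groth.L10

variable (X : Scheme.{u})

instance isTriangulated_isQCohD : (DCoh.IsQCohD (X := X)).IsTriangulated where
  exists_zero := ⟨_, isZero_zero _, isQCohD_of_isZero (isZero_zero _)⟩
  isStableUnderShiftBy n := ⟨fun _ h => isQCohD_shift h n⟩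
  toIsTriangulatedClosed₂ := ObjectProperty.IsTriangulatedClosed₂.mk' fun T hT h₁ h₃ =>
    isQCohD_first T.rotate (rot_of_distTriang _ hT) h₃ (isQCohD_shift h₁ 1)

theorem hasCoproducts_D (J : Type u) : HasCoproductsOfShape J (DCoh.D X) :=
  haveI := Groth.L00.Tensor.grothendieckAbelian_modules X
  haveI : HasCoproductsOfShape J (CochainComplex X.Modules ℤ) := inferInstance
  DerivedProd.hasCoproductsOfShape

theorem locallySmall_D : LocallySmall.{u} (DCoh.D X) :=
  haveI := Groth.L00.Tensor.grothendieckAbelian_modules X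
  ⟨fun _ _ => small_of_injective (f := (KInjDerived.equiv (A := X.Modules)).inverse.map)
    (KInjDerived.equiv (A := X.Modules)).inverse.map_injective⟩

instance closedUnderCoproducts (J : Type u) :
    (DCoh.IsQCohD (X := X)).IsClosedUnderColimitsOfShape (Discrete J) := ⟨fun L ⟨h⟩ => by
  haveI := hasCoproducts_D X J
  let K : J → DCoh.D X := fun j => h.diag.obj ⟨j⟩
  exact isQCohD_of_iso (HasColimit.isoOfNatIso (Discrete.natIsoFunctor (F := h.diag)).symm ≪≫
      (colimit.isColimit h.diag).coconePointUniqueUpToIso h.isColimit)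
    (QCohColim.isQCohD_coproduct K fun j => h.prop_diag_obj ⟨j⟩)⟩

theorem hasCoproducts_DQ (J : Type u) : HasCoproductsOfShape J (DCoh.DQCoh X) :=
  haveI := hasCoproducts_D X J
  inferInstance

variable {X}

theorem preservesCoproducts_ι (J : Type u) :
    PreservesColimitsOfShape (Discrete J) (DCoh.IsQCohD (X := X)).ι := by
  haveI := hasCoproducts_D X J
  infer_instance

theorem preservesCoproducts_Rpush {Y : Scheme.{u}} (f : X ⟶ Y) [QuasiCompact f] [QuasiSeparated f] [DCoh.HasRpush f]
    (J : Type u) : PreservesColimitsOfShape (Discrete J) ((DCoh.IsQCohD (X := X)).ι ⋙ DCoh.Rpush f) := by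
  haveI := preservesCoproducts_ι (X := X) J
  haveI := hasCoproducts_D X J
  haveI := hasCoproducts_D Y J
  haveI := hasCoproducts_DQ X J
  let F := (DCoh.IsQCohD (X := X)).ι ⋙ DCoh.Rpush f
  haveI : ∀ K : J → DCoh.DQCoh X, PreservesColimit (Discrete.functor K) F := fun K => by
    haveI : IsIso (sigmaComparison F K) := by
      haveI : IsIso (sigmaComparison (DCoh.IsQCohD (X := X)).ι K) := inferInstance
      haveI := QCohColim.isIso_sigma_desc f (fun j => (K j).obj) fun j => (K j).property
      have : sigmaComparison F K = Sigma.desc (fun j => (DCoh.Rpush f).map (Sigma.ι (fun j => (K j).obj) j)) ≫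
          (DCoh.Rpush f).map (sigmaComparison (DCoh.IsQCohD (X := X)).ι K) := Sigma.hom_ext _ _ fun j => by
        rw [ι_comp_sigmaComparison, Sigma.ι_desc_assoc, ← Functor.map_comp]
        exact (congrArg (DCoh.Rpush f).map (ι_comp_sigmaComparison (DCoh.IsQCohD (X := X)).ι K j)).symm
      rw [this]
      infer_instance
    exact PreservesCoproduct.of_iso_comparison F K
  exact preservesColimitsOfShape_of_discrete F

/-- coproduct preserving exact functors out of `D_QCoh` are left adjoints -/
theorem isLeftAdjoint [CompactSpace X] [QuasiSeparatedSpace X] {D' : Type u'} [Category.{u + 1} D'] [Preadditive D']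
    [HasZeroObject D'] [HasShift D' ℤ] [∀ n : ℤ, (shiftFunctor D' n).Additive] [Pretriangulated D']
    [LocallySmall.{u} D'] (F : DCoh.DQCoh X ⥤ D') [F.CommShift ℤ] [F.IsTriangulated]
    [∀ J : Type u, PreservesColimitsOfShape (Discrete J) F] : F.IsLeftAdjoint := by
  classical
  haveI := locallySmall_D X
  haveI : LocallySmall.{u} (DCoh.DQCoh X) := ⟨fun A B => small_of_injective (f := fun g : A ⟶ B => g.hom)
    (fun _ _ h => ObjectProperty.hom_ext _ h)⟩
  haveI : HasCoproducts.{u} (DCoh.DQCoh X) := hasCoproducts_DQ X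
  haveI : HasColimitsOfShape (Discrete ℕ) (DCoh.DQCoh X) :=
    hasColimitsOfShape_of_equivalence (Discrete.equivalence (Equiv.ulift.{u} : ULift.{u} ℕ ≃ ℕ))
  obtain ⟨P, hP, hgen⟩ := exists_perfect_generator X
  let E : ULift.{u} ℤ → DCoh.DQCoh X := fun m => ⟨P⟦m.down⟧, isQCohD_shift (PCQCoh.isQCohD_of_perfect hP) _⟩
  refine Functor.isLeftAdjoint_of_rightAdjointObjIsDefined_eq_top (funext fun L => ?_)
  simp only [Pi.top_apply, Prop.top_eq_true, eq_iff_iff, iff_true]
  change (F.op ⋙ yoneda.obj L).IsRepresentable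
  haveI : ∀ κ : Type u, PreservesLimitsOfShape (Discrete κ) F.op := fun κ =>
    haveI : PreservesColimitsOfShape (Discrete κ)ᵒᵖ F :=
      preservesColimitsOfShape_of_equiv (Discrete.opposite κ).symm F
    preservesLimitsOfShape_op _ F
  haveI : ∀ A, Small.{u} ((F.op ⋙ preadditiveYoneda.obj L).obj A) := fun A =>
    inferInstanceAs (Small.{u} (F.obj A.unop ⟶ L))
  haveI : ∀ κ : Type u, PreservesLimitsOfShape (Discrete κ) (preadditiveYoneda.obj L) := fun κ =>
    haveI : PreservesLimitsOfSize.{u, u} (preadditiveYoneda.obj L) :=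
      preservesLimitsOfSize_shrink.{u, u + 1, u, u + 1} _
    inferInstance
  haveI : ∀ κ : Type u, PreservesLimitsOfShape (Discrete κ) (F.op ⋙ preadditiveYoneda.obj L) := fun κ =>
    comp_preservesLimitsOfShape _ _
  refine Groth.L29.Brown.isRepresentable (F.op ⋙ preadditiveYoneda.obj L) E (fun K hK => ?_) (fun K m α => ?_)
  · by_contra h
    push Not at h
    refine hK ?_
    have h0 : IsZero K.obj := hgen _ K.property fun n φ =>
      congrArg (·.hom) (h ⟨n⟩ (ObjectProperty.homMk φ))
    exact (IsZero.iff_id_eq_zero _).2 (ObjectProperty.hom_ext _ (h0.eq_of_src _ _))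
  · let Y : ULift.{u} ℕ → DCoh.DQCoh X := fun n => K n.down
    haveI := hasCoproducts_D X (ULift.{u} ℕ)
    haveI := hasCoproducts_DQ X (ULift.{u} ℕ)
    haveI := preservesCoproducts_ι (X := X) (ULift.{u} ℕ)
    let θ : (∐ K) ⟶ ∐ Y := Sigma.desc fun n => Sigma.ι Y ⟨n⟩
    let θ' : (∐ Y) ⟶ ∐ K := Sigma.desc fun n => Sigma.ι K n.down
    have hθ : θ ≫ θ' = 𝟙 _ := Sigma.hom_ext _ _ fun n => by simp [θ, θ']
    let ι' := (DCoh.IsQCohD (X := X)).ι
    obtain ⟨x, hx⟩ := (Cpt.bijective_homSum_rel (fun n => (Y n).obj) (fun {_} φ =>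
      Cpt.isFin_qcoh (perfect_shift hP m.down) _
        (fun i => isQCohD_of_iso (DerivedCategory.Q.objObjPreimageIso (Y i).obj).symm (Y i).property) φ)).surjective
      ((α ≫ θ).hom ≫ inv (sigmaComparison ι' Y))
    refine ⟨fun _ => m, fun n => ObjectProperty.homMk (x ⟨n⟩),
      ∑ n ∈ DFinsupp.support x, Sigma.ι (fun _ : ℕ => E m) n.down, ?_⟩
    have h1 : α ≫ θ = ∑ n ∈ DFinsupp.support x, (ObjectProperty.homMk (x n) : E m ⟶ Y n) ≫ Sigma.ι Y n := by
      apply ι'.map_injective
      rw [Functor.map_sum, ← cancel_mono (inv (sigmaComparison ι' Y))]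
      refine hx.symm.trans ?_
      conv_lhs => rw [← DirectSum.sum_support_of x, map_sum]
      rw [Preadditive.sum_comp]
      refine Finset.sum_congr rfl fun n _ => ?_
      change (DirectSum.toAddMonoid fun i => Preadditive.rightComp (P⟦m.down⟧) (Sigma.ι (fun n => (Y n).obj) i))
        (DirectSum.of _ n (x n)) = _
      rw [DirectSum.toAddMonoid_of, IsIso.eq_comp_inv, Functor.map_comp]
      refine (Category.assoc _ _ _).trans (congrArg (x n ≫ ·) ?_)
      exact ι_comp_sigmaComparison ι' Y n
    calc α = (α ≫ θ) ≫ θ' := by rw [Category.assoc, hθ, Category.comp_id]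
      _ = _ := by
        rw [h1, Preadditive.sum_comp, Preadditive.sum_comp]
        refine Finset.sum_congr rfl fun n _ => ?_
        simp [θ']

end Groth.L29.DC.Gen
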