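import Groth.Agent.L29.DCoh.Gen.Thick
import Groth.Agent.L29.DCoh.Gen.Main
import Groth.Agent.L29.DCoh.Gen.QAdj

/-!
Perfect objects are summands of objects built from a perfect generator.
-/

set_option autoImplicit false
set_option backward.defeqAttrib.useBackward true
set_option backward.isDefEq.respectTransparency false
set_option backward.isDefEq.respectTransparency.types false

universe u

open CategoryTheory CategoryTheory.Limits CategoryTheory.Pretriangulated AlgebraicGeometry ZeroObject

attribute [local instance] HasDerivedCategory.standard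

namespace Groth.L29.DC.Gen

open Groth.L29.Thick

variable {X : Scheme.{u}}

theorem isPerfect_of_built {G : DCoh.D X} (hG : DCoh.IsPerfect G) {Y : DCoh.D X} (hY : Built G Y) :
    DCoh.IsPerfect Y := by
  induction hY with
  | gen n => exact perfect_shift hG n
  | zero h => exact EvalMain.isPerfect_of_isZero h
  | ext T hT _ _ h₁ h₃ => exact (perfect_two_out_of_three hT).2.1 h₁ h₃
  | iso e _ h => exact isPerfect_of_iso e h

theorem cpt_of_perfect [CompactSpace X] [QuasiSeparatedSpace X] {P : DCoh.D X} (hP : DCoh.IsPerfect P) :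
    Cpt.{u} (DCoh.IsQCohD (X := X)) P := by
  classical
  intro ι M _ hM f
  obtain ⟨x, hx⟩ := (Cpt.bijective_homSum_rel M (fun {_} φ => Cpt.isFin_qcoh hP _
    (fun i => isQCohD_of_iso (DerivedCategory.Q.objObjPreimageIso (M i)).symm (hM i)) φ)).surjective f
  refine ⟨DFinsupp.support x, fun i => x i, ?_⟩
  rw [← hx]
  conv_lhs => rw [← DirectSum.sum_support_of x, map_sum]
  refine Finset.sum_congr rfl fun i _ => ?_
  change (DirectSum.toAddMonoid fun i => Preadditive.rightComp P (Sigma.ι M i)) (DirectSum.of _ i (x i)) = _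
  rw [DirectSum.toAddMonoid_of]
  rfl

/-- Neeman: perfect objects are summands of objects built from a perfect generator -/
theorem exists_retract_of_generator [CompactSpace X] [QuasiSeparatedSpace X] {G : DCoh.D X} (hG : DCoh.IsPerfect G)
    (hgen : ∀ E : DCoh.D X, DCoh.IsQCohD E → Ortho G E → IsZero E) {P : DCoh.D X} (hP : DCoh.IsPerfect P) :
    ∃ Y, Built G Y ∧ Nonempty (Retract P Y) := by
  haveI := locallySmall_D X
  haveI : HasCoproducts.{u} (DCoh.D X) := hasCoproducts_D X
  haveI : HasColimitsOfShape (Discrete ℕ) (DCoh.D X) :=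
    hasColimitsOfShape_of_equivalence (Discrete.equivalence (Equiv.ulift.{u} : ULift.{u} ℕ ≃ ℕ))
  haveI : ∀ (Y : DCoh.D X) (n : ℤ), Small.{u} (G⟦n⟧ ⟶ Y) := fun Y n => inferInstance
  have hGq := PCQCoh.isQCohD_of_perfect hG
  exact exists_retract_built (fun P : DCoh.D X => DCoh.IsPerfect P)
    (fun T hT h₂ h₃ => (perfect_two_out_of_three hT).2.2 h₂ h₃) (fun Y hY => isPerfect_of_built hG hY)
    (fun Y k h => perfect_shift h k) (DCoh.IsQCohD (X := X))
    (fun Y hY => cpt_of_perfect hY) (fun n => isQCohD_shift hGq n)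
    (fun {ι} K hK => QCohColim.isQCohD_coproduct K hK) (fun T hT h₁ h₂ => isQCohD_third T hT h₁ h₂)
    (fun K hK => by
      refine isQCohD_of_iso ?_ (QCohColim.isQCohD_coproduct (fun n : ULift.{u} ℕ => K n.down) fun n => hK n.down)
      exact Sigma.whiskerEquiv (f := fun n : ULift.{u} ℕ => K n.down) (g := K) Equiv.ulift.{u} fun n => Iso.refl _)
    hgen hP (PCQCoh.isQCohD_of_perfect hP)

end Groth.L29.DC.Gen
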