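import Groth.Agent.L29.DCoh.Cpt.Compact
import Groth.Agent.L29.DCoh.EvalMain
import Groth.Agent.L29.DCoh.QCohOps
import Groth.Agent.L21.Mod.Locality

/-!
Restriction to opens with its fully faithful derived direct image: locality tests and gluing.
-/

set_option autoImplicit false
set_option backward.defeqAttrib.useBackward true
set_option backward.isDefEq.respectTransparency false
set_option backward.isDefEq.respectTransparency.types false

universe u

open CategoryTheory CategoryTheory.Limits CategoryTheory.Pretriangulated AlgebraicGeometry ZeroObject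

attribute [local instance] HasDerivedCategory.standard

namespace Groth.L29.DC.Gen

open Groth.L10

variable {X : Scheme.{u}}

instance hasRpush' {U Z : Scheme.{u}} (f : U ⟶ Z) : DCoh.HasRpush f := RpushQC.hasRpush f

/-- restriction to an open -/
noncomputable abbrev res (V : X.Opens) : DCoh.D X ⥤ DCoh.D (V : Scheme.{u}) := DCoh.restrictD V.ι

/-- derived direct image from an open -/
noncomputable abbrev push (V : X.Opens) : DCoh.D (V : Scheme.{u}) ⥤ DCoh.D X := DCoh.Rpush V.ι

/-- restriction is left adjoint to direct image -/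
noncomputable abbrev adj (V : X.Opens) : res V ⊣ push V := Cpt.restrictRpushAdj V.ι

instance isIso_counit {U : Scheme.{u}} (j : U ⟶ X) [IsOpenImmersion j] :
    IsIso (Cpt.restrictRpushAdj j).counit := by
  haveI := QRlim.enoughKInj U
  haveI := Groth.L17.PushQCoh.additive_push j
  exact DerivedAdj.isIso_derived_counit (Scheme.Modules.restrictAdjunction j) (DCoh.Rpush j) _

instance faithful_push (V : X.Opens) : (push V).Faithful := (adj V).fullyFaithfulROfIsIsoCounit.faithful

instance full_push (V : X.Opens) : (push V).Full := (adj V).fullyFaithfulROfIsIsoCounit.full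

instance isIso_res_unit (V : X.Opens) (K : DCoh.D X) : IsIso ((res V).map ((adj V).unit.app K)) :=
  IsIso.of_isIso_fac_right (hh := IsIso.id _) ((adj V).left_triangle_components K)

theorem isZero_of_hd {K : DCoh.D X} (h : ∀ i, IsZero (DCoh.HD K i)) : IsZero K := by
  haveI : IsIso (0 : K ⟶ (0 : DCoh.D X)) := (DerivedCategory.isIso_iff X.Modules _).2 fun i =>
    isIso_of_source_target_iso_zero _ (h i).isoZero
      ((DerivedCategory.homologyFunctor _ i).map_isZero (Limits.isZero_zero _)).isoZero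
  exact (Limits.isZero_zero _).of_iso (asIso (0 : K ⟶ (0 : DCoh.D X)))

theorem isZero_of_cover {K : DCoh.D X} (h : ∀ x : X, ∃ V : X.Opens, x ∈ V ∧ IsZero ((res V).obj K)) :
    IsZero K := by
  choose V hV hz using h
  refine isZero_of_hd fun i => ?_
  refine Groth.L21.Mod.isZero_of_restrict (fun y => (V y).ι) (fun y => ⟨y, ⟨y, hV y⟩, rfl⟩) _ fun y => ?_
  exact ((DerivedCategory.homologyFunctor _ i).map_isZero (hz y)).of_iso (HDResIso (V y).ι K i).symm

theorem isIso_of_cover {K L : DCoh.D X} (g : K ⟶ L)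
    (h : ∀ x : X, ∃ V : X.Opens, x ∈ V ∧ IsIso ((res V).map g)) : IsIso g := by
  obtain ⟨C, a, d, hT⟩ := distinguished_cocone_triangle g
  refine (Triangle.isZero₃_iff_isIso₁ _ hT).1 (isZero_of_cover fun x => ?_)
  obtain ⟨V, hx, hi⟩ := h x
  exact ⟨V, hx, (Triangle.isZero₃_iff_isIso₁ _ ((res V).map_distinguished _ hT)).2 hi⟩

theorem isPerfect_of_cover {K : DCoh.D X}
    (h : ∀ x : X, ∃ V : X.Opens, x ∈ V ∧ DCoh.IsPerfect ((res V).obj K)) : DCoh.IsPerfect K :=
  EvalMain.isPerfect_of_local h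

/-- restriction to a smaller open, in two steps -/
noncomputable def resLE {V W : X.Opens} (h : W ≤ V) :
    res V ⋙ DCoh.restrictD (X.homOfLE h) ≅ res W :=
  resTransD V.ι (X.homOfLE h) W.ι (X.homOfLE_ι h)

/-- direct image from a smaller open, in two steps -/
noncomputable def pushLE {V W : X.Opens} (h : W ≤ V) :
    DCoh.Rpush (X.homOfLE h) ⋙ push V ≅ push W :=
  Adjunction.rightAdjointUniq
    (((adj V).comp (Cpt.restrictRpushAdj (X.homOfLE h))).ofNatIsoLeft (resLE h)) (adj W)

theorem isZero_res_of_le {V W : X.Opens} (h : W ≤ V) {K : DCoh.D X} (hK : IsZero ((res V).obj K)) :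
    IsZero ((res W).obj K) :=
  ((DCoh.restrictD (X.homOfLE h)).map_isZero hK).of_iso ((resLE h).app K).symm

theorem isIso_res_of_le {V W : X.Opens} (h : W ≤ V) {K L : DCoh.D X} (g : K ⟶ L) [IsIso ((res V).map g)] :
    IsIso ((res W).map g) :=
  (NatIso.isIso_map_iff (resLE h) g).1 (inferInstanceAs (IsIso ((DCoh.restrictD (X.homOfLE h)).map ((res V).map g))))

theorem exists_preimage_wit {U Z' : Scheme.{u}} (k : U ⟶ Z') [IsOpenImmersion k] {K : DCoh.D Z'} (x : U) {Z : Z'.Opens}
    (hZ : k x ∈ Z) (hw : PWit ((DCoh.restrictD Z.ι).obj K)) :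
    ∃ (T : Scheme.{u}) (j : T ⟶ U) (_ : IsOpenImmersion j), x ∈ j.opensRange ∧
      PWit ((DCoh.restrictD j).obj ((DCoh.restrictD k).obj K)) := by
  refine ⟨_, (k ⁻¹ᵁ Z).ι, inferInstance, by rw [Scheme.Opens.opensRange_ι]; exact hZ, ?_⟩
  refine ((hw.restrict (k ∣_ Z)).of_iso ((resTransD Z.ι (k ∣_ Z) ((k ⁻¹ᵁ Z).ι ≫ k) (morphismRestrict_ι k Z)).app K ≪≫
    ((resTransD k (k ⁻¹ᵁ Z).ι ((k ⁻¹ᵁ Z).ι ≫ k) rfl).app K).symm))

theorem isPerfect_res_of_le {V W : X.Opens} (h : W ≤ V) {K : DCoh.D X} (hK : DCoh.IsPerfect ((res V).obj K)) :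
    DCoh.IsPerfect ((res W).obj K) := by
  refine isPerfect_of_iso ((resLE h).app K) ?_
  rw [isPerfect_iff_wit] at hK
  refine perfect_of_on fun x => ?_
  obtain ⟨Z, hZ, hw⟩ := hK (X.homOfLE h x)
  exact exists_preimage_wit (X.homOfLE h) x hZ hw

/-- objects pushed forward from `V` -/
def IsLoc (V : X.Opens) (K : DCoh.D X) : Prop := IsIso ((adj V).unit.app K)

theorem isLoc_push (V : X.Opens) (M : DCoh.D (V : Scheme.{u})) : IsLoc V ((push V).obj M) :=
  IsIso.of_isIso_fac_right (hh := IsIso.id _) ((adj V).right_triangle_components M)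

theorem isLoc_of_iso {V : X.Opens} {K L : DCoh.D X} (e : K ≅ L) (h : IsLoc V K) : IsLoc V L :=
  (NatTrans.isIso_app_iff_of_iso _ e).1 h

theorem isLoc_of_le {V W : X.Opens} (h : W ≤ V) (M : DCoh.D (W : Scheme.{u})) : IsLoc V ((push W).obj M) :=
  isLoc_of_iso ((pushLE h).app M) (isLoc_push V _)

theorem preimage_le (U V : X.Opens) :
    V.ι ⁻¹ᵁ U.ι.opensRange ≤ (X.homOfLE (inf_le_right : U ⊓ V ≤ V)).opensRange := fun x hx => by
  have hx' : V.ι x ∈ U.ι.opensRange := hx
  rw [Scheme.Opens.opensRange_ι] at hx'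
  refine ⟨(⟨x.1, hx', x.2⟩ : (U ⊓ V : X.Opens)), ?_⟩
  apply Subtype.ext
  exact congr($(X.homOfLE_ι (inf_le_right : U ⊓ V ≤ V)) (⟨x.1, hx', x.2⟩ : (U ⊓ V : X.Opens)))

/-- between objects local on `V`, isomorphisms on `U ∩ V` are isomorphisms on `U` -/
theorem isIso_res_of_inter (U : X.Opens) {V : X.Opens} {K L : DCoh.D X} (hK : IsLoc V K) (hL : IsLoc V L)
    (g : K ⟶ L) [IsIso ((res (U ⊓ V)).map g)] : IsIso ((res U).map g) := by
  haveI : IsIso ((adj V).unit.app K) := hK
  haveI : IsIso ((adj V).unit.app L) := hL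
  have hn : g ≫ (adj V).unit.app L = (adj V).unit.app K ≫ (push V).map ((res V).map g) := (adj V).unit.naturality g
  have hg : g = (adj V).unit.app K ≫ (push V).map ((res V).map g) ≫ inv ((adj V).unit.app L) := by
    rw [← reassoc_of% hn, IsIso.hom_inv_id, Category.comp_id]
  suffices IsIso ((res U).map ((push V).map ((res V).map g))) by
    rw [hg, Functor.map_comp, Functor.map_comp]
    infer_instance
  obtain ⟨e⟩ := RpushRes.nonempty_iso V.ι U.ι (X.homOfLE (inf_le_right : U ⊓ V ≤ V))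
    (X.homOfLE (inf_le_left : U ⊓ V ≤ U)) (preimage_le U V)
    (by rw [X.homOfLE_ι, X.homOfLE_ι])
  refine (NatIso.isIso_map_iff e _).2 ?_
  haveI : IsIso ((DCoh.restrictD (X.homOfLE (inf_le_right : U ⊓ V ≤ V))).map ((res V).map g)) :=
    (NatIso.isIso_map_iff (resLE inf_le_right) g).2 inferInstance
  exact inferInstanceAs (IsIso ((DCoh.Rpush (X.homOfLE (inf_le_left : U ⊓ V ≤ U))).map
    ((DCoh.restrictD (X.homOfLE (inf_le_right : U ⊓ V ≤ V))).map ((res V).map g))))

theorem isQCohD_push [QuasiSeparatedSpace X] {V : X.Opens} (hV : IsCompact (V : Set X)) {M : DCoh.D (V : Scheme.{u})}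
    (hM : DCoh.IsQCohD M) : DCoh.IsQCohD ((push V).obj M) := by
  haveI : CompactSpace (V : Scheme.{u}) := isCompact_iff_compactSpace.1 hV
  haveI : QuasiCompact V.ι := inferInstance
  exact RpushQC.isQCohD_Rpush V.ι M hM

section Abstract

variable {D D' : Type*} [Category D] [Category D'] [Preadditive D] [Preadditive D'] [HasZeroObject D]
  [HasZeroObject D'] [HasShift D ℤ] [HasShift D' ℤ] [∀ n : ℤ, (shiftFunctor D n).Additive]
  [∀ n : ℤ, (shiftFunctor D' n).Additive] [Pretriangulated D] [Pretriangulated D'] [HasBinaryBiproducts D]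
  (G : D ⥤ D') [G.CommShift ℤ] [G.IsTriangulated]

/-- the fibre product over an isomorphism -/
theorem isIso_fib_fst {F A B K : D} {m : F ⟶ A ⊞ B} {qA : A ⟶ K} {qB : B ⟶ K} {d : K ⟶ F⟦(1 : ℤ)⟧}
    (hT : Triangle.mk m (biprod.desc qA qB) d ∈ distTriang _) [IsIso (G.map qB)] :
    IsIso (G.map (m ≫ biprod.fst)) := by
  haveI : G.Additive := inferInstance
  let p : G.obj (A ⊞ B) ⟶ G.obj K := G.map (biprod.desc qA qB)
  have hp : G.map biprod.inr ≫ p = G.map qB := by rw [← G.map_comp, biprod.inr_desc]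
  have hp' : G.map biprod.inl ≫ p = G.map qA := by rw [← G.map_comp, biprod.inl_desc]
  have hTG := G.map_distinguished _ hT
  have hepi : Epi p := by
    haveI : Epi (G.map biprod.inr ≫ p) := by rw [hp]; infer_instance
    exact epi_of_epi (G.map biprod.inr) p
  haveI hmono : Mono (G.map m) := Triangle.mono₁ _ hTG (Triangle.mor₃_eq_zero_of_epi₂ _ hTG hepi)
  let s : G.obj A ⟶ G.obj (A ⊞ B) := G.map biprod.inl - G.map qA ≫ inv (G.map qB) ≫ G.map biprod.inr
  have hs : s ≫ p = 0 := by
    simp only [s, Preadditive.sub_comp, Category.assoc, hp, hp', IsIso.inv_hom_id, Category.comp_id, sub_self]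
  obtain ⟨t, ht⟩ := Triangle.coyoneda_exact₂ _ hTG s hs
  change s = t ≫ G.map m at ht
  have hinl : G.map biprod.inl ≫ G.map (biprod.fst : A ⊞ B ⟶ A) = 𝟙 _ := by
    rw [← G.map_comp, biprod.inl_fst, G.map_id]
  have hinr : G.map biprod.inr ≫ G.map (biprod.fst : A ⊞ B ⟶ A) = 0 := by
    rw [← G.map_comp, biprod.inr_fst, G.map_zero]
  refine ⟨t, ?_, ?_⟩
  · rw [← cancel_mono (G.map m), Category.assoc, ← ht, Category.id_comp, G.map_comp, Category.assoc]
    have hm : G.map m ≫ p = 0 := comp_distTriang_mor_zero₁₂ _ hTG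
    have htot : 𝟙 (G.obj (A ⊞ B)) =
        G.map biprod.fst ≫ G.map biprod.inl + G.map biprod.snd ≫ G.map biprod.inr := by
      rw [← G.map_comp, ← G.map_comp, ← G.map_add, biprod.total, G.map_id]
    have hsnd : G.map m ≫ G.map biprod.snd = -(G.map m ≫ G.map biprod.fst ≫ G.map qA ≫ inv (G.map qB)) := by
      have h2 : p = G.map biprod.fst ≫ G.map qA + G.map biprod.snd ≫ G.map qB := by
        rw [← G.map_comp, ← G.map_comp, ← G.map_add]
        exact congrArg G.map biprod.desc_eq
      rw [h2, Preadditive.comp_add, ← Category.assoc (G.map m), ← Category.assoc (G.map m), add_eq_zero_iff_eq_neg] at hm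
      calc G.map m ≫ G.map biprod.snd = -(-((G.map m ≫ G.map biprod.snd) ≫ G.map qB)) ≫ inv (G.map qB) := by simp
        _ = _ := by rw [← hm]; simp
    conv_rhs => rw [← Category.comp_id (G.map m), htot, Preadditive.comp_add, reassoc_of% hsnd]
    simp [s, sub_eq_add_neg]
  · rw [G.map_comp, ← Category.assoc, ← ht]
    simp only [s, Preadditive.sub_comp, Category.assoc, hinl, hinr, comp_zero, sub_zero]

end Abstract

/-- gluing along `U ∩ V` -/
theorem exists_glue (U V : X.Opens) (a : DCoh.D (U : Scheme.{u})) (b : DCoh.D (V : Scheme.{u}))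
    (c : (res (U ⊓ V)).obj ((push U).obj a) ≅ (res (U ⊓ V)).obj ((push V).obj b)) :
    ∃ F : DCoh.D X, Nonempty ((res U).obj F ≅ a) ∧ Nonempty ((res V).obj F ≅ b) ∧
      (∃ (K : DCoh.D X) (m : F ⟶ (push U).obj a ⊞ (push V).obj b) (q : (push U).obj a ⊞ (push V).obj b ⟶ K)
        (d : K ⟶ F⟦(1 : ℤ)⟧), Triangle.mk m q d ∈ distTriang _ ∧
          K = (push (U ⊓ V)).obj ((res (U ⊓ V)).obj ((push U).obj a))) := by
  let W := U ⊓ V
  let qU : (push U).obj a ⟶ (push W).obj ((res W).obj ((push U).obj a)) := (adj W).unit.app _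
  let qV : (push V).obj b ⟶ (push W).obj ((res W).obj ((push U).obj a)) := (adj W).unit.app _ ≫ (push W).map c.inv
  obtain ⟨F, m, d, hT⟩ := distinguished_cocone_triangle₁ (biprod.desc qU qV)
  haveI : IsIso ((res W).map qU) := isIso_res_unit W _
  haveI : IsIso ((res W).map qV) := by
    haveI := isIso_res_unit W ((push V).obj b)
    simp only [qV, Functor.map_comp]
    infer_instance
  haveI : IsIso ((res U).map qV) := by
    exact isIso_res_of_inter U (isLoc_push V b) (isLoc_of_le inf_le_right _) qV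
  haveI : IsIso ((res V).map qU) := by
    haveI : IsIso ((res (V ⊓ U)).map qU) := isIso_res_of_le (inf_comm V U).le qU
    exact isIso_res_of_inter V (isLoc_push U a) (isLoc_of_le inf_le_left _) qU
  haveI := isIso_fib_fst (res U) hT
  have hT' : Triangle.mk (m ≫ (biprod.braiding _ _).hom) (biprod.desc qV qU) d ∈ distTriang _ := by
    refine isomorphic_distinguished _ hT _ ?_
    refine Triangle.isoMk _ _ (Iso.refl _) (biprod.braiding _ _).symm (Iso.refl _) ?_ ?_ (by simp)
    · change (m ≫ (biprod.braiding _ _).hom) ≫ (biprod.braiding _ _).inv = 𝟙 _ ≫ m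
      simp
    · change biprod.desc qV qU ≫ 𝟙 _ = (biprod.braiding _ _).inv ≫ biprod.desc qU qV
      simp only [Category.comp_id]
      ext <;> simp
  haveI := isIso_fib_fst (res V) hT'
  exact ⟨F, ⟨asIso ((res U).map (m ≫ biprod.fst)) ≪≫ asIso ((adj U).counit.app a)⟩,
    ⟨asIso ((res V).map ((m ≫ (biprod.braiding _ _).hom) ≫ biprod.fst)) ≪≫ asIso ((adj V).counit.app b)⟩,
    _, m, _, d, hT, rfl⟩

end Groth.L29.DC.Gen
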