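import Groth.Agent.L29.K.SmallPerfect
import Groth.Agent.L29.K.Perfect
import Groth.Agent.L29.Dual.HomD
import Groth.Agent.L29.DCoh.TildeAlg
import Groth.Prelude.Def_Koszul

/-!
Torsion objects of `D(A)` with respect to finitely many elements: killing, factorisation through
perfect torsion objects, Koszul objects generate.
-/

set_option autoImplicit false
set_option backward.defeqAttrib.useBackward true
set_option backward.isDefEq.respectTransparency false
set_option backward.isDefEq.respectTransparency.types false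

universe u

open CategoryTheory CategoryTheory.Limits CategoryTheory.Pretriangulated

attribute [local instance] HasDerivedCategory.standard

namespace Groth.L29.DC.Gen

variable {A : Type u} [CommRing A]

/-- all cohomology is `f`-power torsion -/
def Tors (f : A) (F : Dual.D A) : Prop := ∀ (i : ℤ) (x : Dual.HD A F i), ∃ N : ℕ, f ^ N • x = 0

/-- a power of `f` kills the identity -/
def Kill (f : A) (Q : Dual.D A) : Prop := ∃ N : ℕ, f ^ N • 𝟙 Q = 0

theorem smul_eq_zero_of_le {f : A} {N M : ℕ} {P Q : Dual.D A} (h : P ⟶ Q) (hN : f ^ N • h = 0) (hle : N ≤ M) :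
    f ^ M • h = 0 := by
  rw [← Nat.sub_add_cancel hle, pow_add, mul_smul, hN, smul_zero]

theorem tors_shift {f : A} {F : Dual.D A} (h : Tors f F) (n : ℤ) : Tors f (F⟦n⟧) := fun i x => by
  let e := (Groth.L10.hShiftIso (A := ModuleCat.{u} A) F n i (n + i) (by lia)).toLinearEquiv
  obtain ⟨N, hN⟩ := h _ (e x)
  exact ⟨N, e.injective (by rw [map_smul, map_zero]; exact hN)⟩

theorem tors_of_kill {f : A} {Q : Dual.D A} (h : Kill f Q) : Tors f Q := fun i x => by
  obtain ⟨N, hN⟩ := h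
  refine ⟨N, ?_⟩
  have := congrArg (fun φ : Q ⟶ Q => ((DerivedCategory.homologyFunctor (ModuleCat.{u} A) i).map φ) x) hN
  simpa [Functor.map_smul] using this

/-- maps from perfect objects to torsion objects are killed -/
theorem exists_kill {f : A} {P F : Dual.D A} (hP : DRing.IsPerfect A P) (hF : Tors f F) (h : P ⟶ F) :
    ∃ N : ℕ, f ^ N • h = 0 := by
  let S : ObjectProperty (Dual.D A) := fun P => ∀ (F : Dual.D A), Tors f F → ∀ h : P ⟶ F, ∃ N : ℕ, f ^ N • h = 0
  haveI : S.IsClosedUnderIsomorphisms := ⟨fun {X Y} e hX F hF h => by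
    obtain ⟨N, hN⟩ := hX F hF (e.hom ≫ h)
    exact ⟨N, (cancel_epi e.hom).1 (by rw [Linear.comp_smul, hN, comp_zero])⟩⟩
  refine Groth.L10.DTen.perfect_induction S (fun T hT h1 h3 F hF h => ?_) (fun {X Y} r hY F hF h => ?_)
    (fun n F hF h => ?_) hP F hF h
  · obtain ⟨N, hN⟩ := h1 F hF (T.mor₁ ≫ h)
    obtain ⟨g, hg⟩ := Triangle.yoneda_exact₂ _ hT (f ^ N • h) (by rw [Linear.comp_smul, hN])
    obtain ⟨M, hM⟩ := h3 F hF g
    exact ⟨M + N, by rw [pow_add, mul_smul, hg, ← Linear.comp_smul, hM, comp_zero]⟩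
  · obtain ⟨N, hN⟩ := hY F hF (r.r ≫ h)
    refine ⟨N, ?_⟩
    calc f ^ N • h = r.i ≫ (f ^ N • (r.r ≫ h)) := by simp [Linear.comp_smul]
      _ = 0 := by rw [hN, comp_zero]
  · let e : _root_.DTen.unit A ≅ Dual.inD A A :=
      ((DerivedCategory.singleFunctorIsoCompQ (ModuleCat.{u} A) 0).app (ModuleCat.of A A)).symm
    let G := shiftFunctor (Dual.D A) (-n)
    let a : Dual.inD A A ≅ G.obj ((_root_.DTen.unit A)⟦n⟧) :=
      e.symm ≪≫ ((shiftFunctorCompIsoId (Dual.D A) n (-n) (by lia)).app _).symm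
    let v : Dual.inD A A ⟶ F⟦-n⟧ := a.hom ≫ G.map h
    obtain ⟨N, hN⟩ := tors_shift hF (-n) 0 (Groth.L29.HomD.evalEquiv _ v)
    refine ⟨N, G.map_injective ?_⟩
    have : f ^ N • v = 0 := (Groth.L29.HomD.evalEquiv _).injective (by rw [map_smul, hN, map_zero])
    rw [Functor.map_smul, Functor.map_zero, ← cancel_epi a.hom, comp_zero, Linear.comp_smul]
    exact this

theorem kill_cone {f c : A} {G G₁ : Dual.D A} {a : G ⟶ G₁} {d : G₁ ⟶ G⟦(1 : ℤ)⟧}
    (hT : Triangle.mk (c • 𝟙 G) a d ∈ distTriang _) (h : Kill f G) : Kill f G₁ := by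
  obtain ⟨N, hN⟩ := h
  refine ⟨N + N, ?_⟩
  have ha : a ≫ (f ^ N • 𝟙 G₁) = 0 := by
    rw [Linear.comp_smul, Category.comp_id, ← Category.id_comp a, ← Linear.smul_comp, hN, zero_comp]
  obtain ⟨t, ht⟩ := Triangle.yoneda_exact₃ _ hT (f ^ N • 𝟙 G₁) ha
  have hd : f ^ N • d = 0 := by
    rw [← Category.comp_id d, ← (shiftFunctor (Dual.D A) (1 : ℤ)).map_id, ← Linear.comp_smul,
      ← Functor.map_smul, hN, Functor.map_zero, comp_zero]
  dsimp at t ht
  rw [pow_add, mul_smul, ht, ← Linear.smul_comp, hd, zero_comp]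

theorem kill_cone_self {c : A} {G G₁ : Dual.D A} {a : G ⟶ G₁} {d : G₁ ⟶ G⟦(1 : ℤ)⟧}
    (hT : Triangle.mk (c • 𝟙 G) a d ∈ distTriang _) : (c * c) • 𝟙 G₁ = 0 := by
  have h1 : (c • 𝟙 G) ≫ a = 0 := comp_distTriang_mor_zero₁₂ _ hT
  have h3 : d ≫ (c • 𝟙 G)⟦(1 : ℤ)⟧' = 0 := comp_distTriang_mor_zero₃₁ _ hT
  rw [Linear.smul_comp, Category.id_comp] at h1
  rw [Functor.map_smul, CategoryTheory.Functor.map_id, Linear.comp_smul, Category.comp_id] at h3
  obtain ⟨t, ht⟩ := Triangle.yoneda_exact₃ _ hT (c • 𝟙 G₁) (by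
    dsimp
    rw [Linear.comp_smul]
    exact (congrArg (c • ·) (Category.comp_id a)).trans h1)
  dsimp at t ht
  rw [mul_smul, ht, ← Linear.smul_comp, h3, zero_comp]

/-- a map from a perfect object to a torsion object factors through a perfect torsion object -/
theorem exists_fac_kill (l : List A) : ∀ {G F : Dual.D A}, DRing.IsPerfect A G → (∀ f ∈ l, Tors f F) →
    ∀ h : G ⟶ F, ∃ (Q : Dual.D A) (g : G ⟶ Q) (k : Q ⟶ F), DRing.IsPerfect A Q ∧ g ≫ k = h ∧
      (∀ f ∈ l, Kill f Q) ∧ ∀ f, Kill f G → Kill f Q := by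
  induction l with
  | nil => exact fun {G F} hG _ h => ⟨G, 𝟙 G, h, hG, Category.id_comp h, by simp, fun _ hf => hf⟩
  | cons f l ih =>
    intro G F hG hF h
    obtain ⟨N, hN⟩ := exists_kill hG (hF f (List.mem_cons_self)) h
    obtain ⟨G₁, a, d, hT⟩ := distinguished_cocone_triangle (f ^ N • 𝟙 G)
    obtain ⟨h₁, hh⟩ := Triangle.yoneda_exact₂ _ hT h (by
      change (f ^ N • 𝟙 G) ≫ h = 0
      rw [Linear.smul_comp, Category.id_comp, hN])
    obtain ⟨Q, g, k, hQ, hgk, hl, hkeep⟩ := ih (Groth.L29.Perfect.third _ hT hG hG)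
      (fun f' hf' => hF f' (List.mem_cons_of_mem _ hf')) h₁
    refine ⟨Q, a ≫ g, k, hQ, by rw [Category.assoc, hgk]; exact hh.symm, fun f' hf' => ?_,
      fun f' hf' => hkeep f' (kill_cone hT hf')⟩
    rcases List.mem_cons.1 hf' with rfl | hf'
    · exact hkeep _ ⟨N + N, by rw [pow_add]; exact kill_cone_self hT⟩
    · exact hl f' hf'

theorem kill_of_tors {f : A} {G : Dual.D A} (hG : DRing.IsPerfect A G) (h : Tors f G) : Kill f G :=
  exists_kill hG h (𝟙 G)

theorem kill_shift {f : A} {G : Dual.D A} (h : Kill f G) (n : ℤ) : Kill f (G⟦n⟧) := by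
  obtain ⟨N, hN⟩ := h
  exact ⟨N, by rw [← CategoryTheory.Functor.map_id, ← Functor.map_smul, hN, Functor.map_zero]⟩

theorem kill_mid {f : A} {T : Triangle (Dual.D A)} (hT : T ∈ distTriang _) (h₁ : Kill f T.obj₁) (h₃ : Kill f T.obj₃) :
    Kill f T.obj₂ := by
  obtain ⟨N, hN⟩ := h₁
  obtain ⟨M, hM⟩ := h₃
  refine ⟨N + M, ?_⟩
  obtain ⟨t, ht⟩ := Triangle.coyoneda_exact₂ T hT (f ^ M • 𝟙 T.obj₂) (by
    rw [Linear.smul_comp, Category.id_comp, ← Category.comp_id T.mor₂, ← Linear.comp_smul, hM, comp_zero])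
  rw [pow_add, mul_smul, ht, ← Linear.comp_smul, ← Category.id_comp T.mor₁, ← Linear.smul_comp, hN, zero_comp,
    comp_zero]

/-- roofs: a map to a torsion object vanishes after a torsion-cone modification of the perfect source -/
theorem exists_roof (l : List A) {G F : Dual.D A} (hG : DRing.IsPerfect A G) (hF : ∀ f ∈ l, Tors f F)
    (h : G ⟶ F) :
    ∃ (G₁ : Dual.D A) (β : G₁ ⟶ G) (Q : Dual.D A) (g : G ⟶ Q) (d : Q ⟶ G₁⟦(1 : ℤ)⟧),
      Triangle.mk β g d ∈ distTriang _ ∧ DRing.IsPerfect A G₁ ∧ (∀ f ∈ l, Tors f Q) ∧ β ≫ h = 0 ∧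
        ∀ f, Tors f G → Tors f G₁ := by
  obtain ⟨Q, g, k, hQ, hgk, hl, hkeep⟩ := exists_fac_kill l hG hF h
  obtain ⟨G₁, β, d, hT⟩ := distinguished_cocone_triangle₁ g
  refine ⟨G₁, β, Q, g, d, hT, ?_, fun f hf => tors_of_kill (hl f hf), ?_, fun f hf => tors_of_kill
    (kill_mid (inv_rot_of_distTriang _ hT) (kill_shift (hkeep f (kill_of_tors hG hf)) (-1)) (kill_of_tors hG hf))⟩
  · exact Groth.L29.Perfect.second _ (inv_rot_of_distTriang _ hT) (Groth.L29.Perfect.shift hQ (-1)) hG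
  · have h0 : β ≫ g = 0 := comp_distTriang_mor_zero₁₂ _ hT
    rw [← hgk, reassoc_of% h0, zero_comp]

/-- the Koszul object -/
noncomputable abbrev kObj (l : List A) : Dual.D A := DRing.toD (Koszul.koszul A l)

theorem exists_triangle_cons (f : A) (l : List A) :
    ∃ (a : kObj l ⟶ kObj (f :: l)) (d : kObj (f :: l) ⟶ (kObj l)⟦(1 : ℤ)⟧),
      Triangle.mk (f • 𝟙 (kObj l)) a d ∈ distTriang _ := by
  have h := Groth.L02.PC.mappingCone_distinguished (f • 𝟙 (Koszul.koszul A l))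
  have hs : DerivedCategory.Q.map (f • 𝟙 (Koszul.koszul A l)) = f • 𝟙 (kObj l) := by
    rw [Functor.map_smul, CategoryTheory.Functor.map_id]
  refine ⟨(DerivedCategory.Q.mapTriangle.obj (CochainComplex.mappingCone.triangle (f • 𝟙 (Koszul.koszul A l)))).mor₂,
    (DerivedCategory.Q.mapTriangle.obj (CochainComplex.mappingCone.triangle (f • 𝟙 (Koszul.koszul A l)))).mor₃, ?_⟩
  rw [← hs]
  exact h

theorem isPerfect_kObj : ∀ l : List A, DRing.IsPerfect A (kObj l)
  | [] => Groth.L29.Perfect.of_iso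
      ((((SingleFunctors.evaluation _ _ 0).mapIso
        (DerivedCategory.singleFunctorsPostcompQIso (ModuleCat.{u} A))).app (ModuleCat.of A A))) Groth.L29.Perfect.self
  | f :: l => by
    obtain ⟨a, d, h⟩ := exists_triangle_cons f l
    exact Groth.L29.Perfect.third _ h (isPerfect_kObj l) (isPerfect_kObj l)

theorem kill_kObj : ∀ (l : List A), ∀ f ∈ l, Kill f (kObj l)
  | f :: l, f', hf' => by
    obtain ⟨a, d, h⟩ := exists_triangle_cons f l
    rcases List.mem_cons.1 hf' with rfl | hf'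
    · exact ⟨2, by rw [pow_two]; exact kill_cone_self h⟩
    · exact kill_cone h (kill_kObj l f' hf')

/-- torsion objects orthogonal to the Koszul object vanish -/
theorem isZero_of_kObj_orthogonal {F : Dual.D A} : ∀ (l : List A), (∀ f ∈ l, Tors f F) →
    (∀ (n : ℤ) (h : kObj l ⟶ F⟦n⟧), h = 0) → IsZero F
  | [], _, ho => by
    let e : kObj ([] : List A) ≅ Dual.inD A A :=
      (((SingleFunctors.evaluation _ _ 0).mapIso
        (DerivedCategory.singleFunctorsPostcompQIso (ModuleCat.{u} A))).app (ModuleCat.of A A)).symm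
    refine TildeAlg.isZero_of_homology F fun i => ?_
    haveI : Subsingleton (Dual.HD A F i) := ⟨fun x y => by
      obtain ⟨a, rfl⟩ := (Groth.L29.HomD.evalShiftEquiv (W := F) i).surjective x
      obtain ⟨b, rfl⟩ := (Groth.L29.HomD.evalShiftEquiv (W := F) i).surjective y
      rw [(cancel_epi e.hom).1 ((ho i (e.hom ≫ a)).trans (ho i (e.hom ≫ b)).symm)]⟩
    exact ModuleCat.isZero_of_subsingleton _
  | f :: l, hF, ho => by
    refine isZero_of_kObj_orthogonal l (fun f' hf' => hF f' (List.mem_cons_of_mem _ hf')) fun n h => ?_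
    obtain ⟨N, hN⟩ := exists_kill (isPerfect_kObj l) (tors_shift (hF f List.mem_cons_self) n) h
    obtain ⟨a, d, hT⟩ := exists_triangle_cons f l
    induction N generalizing h with
    | zero => simpa using hN
    | succ N ih =>
      refine ih h ?_
      obtain ⟨k, hk⟩ := Triangle.yoneda_exact₂ _ hT (f ^ N • h) (by
        change (f • 𝟙 (kObj l)) ≫ (f ^ N • h) = 0
        rw [Linear.smul_comp, Category.id_comp, ← mul_smul, ← pow_succ', hN])
      dsimp at k hk
      rw [hk, ho n k, comp_zero]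

end Groth.L29.DC.Gen
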