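import Groth.Agent.L29.DCoh.Gen.Loc
import Groth.Agent.L29.DCoh.Gen.Alg
import Groth.Agent.L29.DCoh.TorTest
import Mathlib.RingTheory.Localization.BaseChange

/-!
Torsion cohomology is the same as vanishing of the tilde on the basic open.
-/

set_option autoImplicit false
set_option backward.defeqAttrib.useBackward true
set_option backward.isDefEq.respectTransparency false
set_option backward.isDefEq.respectTransparency.types false

universe u

open CategoryTheory CategoryTheory.Limits AlgebraicGeometry

attribute [local instance] HasDerivedCategory.standard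

namespace Groth.L29.DC.Gen

open Groth.L00

variable {R : CommRingCat.{u}}

theorem isZero_stalk_tilde_iff (x : Spec R) (M : ModuleCat.{u} R) :
    IsZero ((Stk.F (Spec R) x).obj ((tilde.functor R).obj M)) ↔
      ∀ m : M, ∃ c : R, c ∉ x.asIdeal ∧ c • m = 0 := by
  letI := (KFlat.toStalk R x).toAlgebra
  haveI := TorTest.isLocalization_toStalk x
  let S := (Spec R).presheaf.stalk x
  have e : IsZero ((Stk.F (Spec R) x).obj ((tilde.functor R).obj M)) ↔ Subsingleton (TensorProduct R S M) := by
    refine ((KFlat.tildeStalkIso R x).app M).isZero_iff.trans ?_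
    exact ModuleCat.isZero_iff_subsingleton
  haveI : IsLocalizedModule x.asIdeal.primeCompl (TensorProduct.mk R S M 1) :=
    (isLocalizedModule_iff_isBaseChange x.asIdeal.primeCompl S _).2 (TensorProduct.isBaseChange R M S)
  rw [e]
  constructor
  · intro h m
    obtain ⟨c, hc⟩ := (IsLocalizedModule.eq_zero_iff x.asIdeal.primeCompl (TensorProduct.mk R S M 1) (m := m)).1
      (Subsingleton.elim _ _)
    exact ⟨c.1, c.2, hc⟩
  · intro h
    refine subsingleton_of_forall_eq 0 fun y => ?_
    obtain ⟨⟨m, s⟩, hs⟩ := IsLocalizedModule.surj x.asIdeal.primeCompl (TensorProduct.mk R S M 1) y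
    obtain ⟨c, hc, hcm⟩ := h m
    have h0 : TensorProduct.mk R S M 1 m = 0 :=
      (IsLocalizedModule.eq_zero_iff x.asIdeal.primeCompl _).2 ⟨⟨c, hc⟩, hcm⟩
    rw [← (IsLocalizedModule.smul_injective (TensorProduct.mk R S M 1) s).eq_iff, smul_zero]
    exact hs.trans h0

/-- the basic open -/
abbrev bo (f : R) : (Spec R).Opens := PrimeSpectrum.basicOpen f

theorem forall_stalk_iff_tors (f : R) (M : ModuleCat.{u} R) :
    (∀ x : Spec R, x ∈ bo f → IsZero ((Stk.F (Spec R) x).obj ((tilde.functor R).obj M))) ↔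
      ∀ m : M, ∃ N : ℕ, f ^ N • m = 0 := by
  simp only [isZero_stalk_tilde_iff]
  constructor
  · intro h m
    by_contra hN
    push_neg at hN
    let a : Ideal R := (R ∙ m).annihilator
    obtain ⟨p, hp, hle, hdis⟩ := Ideal.exists_le_prime_disjoint a (Submonoid.powers f)
      (Set.disjoint_left.2 fun r hr ⟨N, hN'⟩ => hN N (by
        subst hN'
        exact (Submodule.mem_annihilator_span_singleton m _).1 hr))
    obtain ⟨c, hc, hcm⟩ := h ⟨p, hp⟩ (fun hf => Set.disjoint_left.1 hdis hf (Submonoid.mem_powers f)) m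
    exact hc (hle ((Submodule.mem_annihilator_span_singleton m _).2 hcm))
  · intro h x hx m
    obtain ⟨N, hN⟩ := h m
    exact ⟨f ^ N, fun hf => hx (x.2.mem_of_pow_mem N hf), hN⟩

variable [PreservesFiniteLimits (tilde.functor R)]

theorem tors_iff (f : R) (F : Dual.D R) :
    Tors f F ↔ IsZero ((res (bo f)).obj ((DCoh.tildeD R).obj F)) := by
  constructor
  · intro h
    refine isZero_of_hd fun i => ?_
    refine IsZero.of_iso ?_ (HDResIso (bo f).ι _ i)
    refine (Stk.isZero_iff _).2 fun y => ?_
    have hz := (forall_stalk_iff_tors f ((Groth.L02.PC.HH i).obj F)).2 (h i) ((bo f).ι y) y.2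
    have hz' := hz.of_iso ((Stk.F (Spec R) _).mapIso (TildeAlg.hdIso F i))
    exact (((ModuleCat.extendScalars (PullStalk.φ (bo f).ι y)).map_isZero hz').of_iso
      ((PullStalk.stalkIso (bo f).ι y).app _)).of_iso
        ((Stk.F _ y).mapIso ((Scheme.Modules.restrictFunctorIsoPullback (bo f).ι).app _))
  · intro h i x
    refine (forall_stalk_iff_tors f ((Groth.L02.PC.HH i).obj F)).1 (fun y hy => ?_) x
    have h1 : IsZero ((ExtZero.res (bo f).ι).obj (DCoh.HD ((DCoh.tildeD R).obj F) i)) :=
      ((DerivedCategory.homologyFunctor _ i).map_isZero h).of_iso (HDResIso (bo f).ι _ i).symm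
    exact (Cpt.isZero_stalk_of_res (bo f).ι _ h1 ⟨y, hy⟩).of_iso ((Stk.F (Spec R) _).mapIso (TildeAlg.hdIso F i)).symm

end Groth.L29.DC.Gen
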