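import Groth.Agent.L29.DCoh.Gen.Main

/-!
Lifting maps from perfect objects with supports on a quasi-compact open.
-/

set_option autoImplicit false
set_option backward.defeqAttrib.useBackward true
set_option backward.isDefEq.respectTransparency false
set_option backward.isDefEq.respectTransparency.types false

universe u

open CategoryTheory CategoryTheory.Limits CategoryTheory.Pretriangulated AlgebraicGeometry ZeroObject

attribute [local instance] HasDerivedCategory.standard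

namespace Groth.L29.DC.Gen

/-- roofs on an affine scheme, keeping supports -/
theorem exists_affine_roof_supp {Y W : Scheme.{u}} [IsAffine Y] (j : W ⟶ Y) [IsOpenImmersion j] [CompactSpace W]
    (O : Y.Opens) (hO : IsCompact (O : Set Y)) {E E' : DCoh.D Y} (hE : DCoh.IsPerfect E) (hEO : ZOn E O)
    (hE' : DCoh.IsQCohD E') (α : (DCoh.restrictD j).obj E ⟶ (DCoh.restrictD j).obj E') :
    ∃ (E₁ : DCoh.D Y) (β : E₁ ⟶ E) (γ : E₁ ⟶ E'), DCoh.IsPerfect E₁ ∧ ZOn E₁ O ∧ IsIso ((DCoh.restrictD j).map β) ∧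
      (DCoh.restrictD j).map β ≫ α = (DCoh.restrictD j).map γ := by
  let R : CommRingCat.{u} := Γ(Y, ⊤)
  haveI := Groth.L18.TildeF.tilde_preservesFiniteLimits (R := R)
  haveI : CompactSpace (O : Scheme.{u}) := isCompact_iff_compactSpace.1 hO
  let s : Y ⟶ Spec R := Y.isoSpec.hom
  let k : W ⟶ Spec R := j ≫ s
  let kO : (O : Scheme.{u}) ⟶ Spec R := O.ι ≫ s
  haveI := RpushQC.hasRpush s
  let r := DCoh.restrictD s
  have hs : Function.Surjective s := s.surjective
  haveI := isIso_unit_of_surjective s hs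
  let ad := Cpt.restrictRpushAdj s
  haveI : r.Full := ad.fullyFaithfulLOfIsIsoUnit.full
  haveI : r.Faithful := ad.fullyFaithfulLOfIsIsoUnit.faithful
  obtain ⟨K, ⟨e⟩⟩ := (TildeD.isQCohD_iff _).1 (RpushQC.isQCohD_Rpush s E (PCQCoh.isQCohD_of_perfect hE))
  obtain ⟨K', ⟨e'⟩⟩ := (TildeD.isQCohD_iff _).1 (RpushQC.isQCohD_Rpush s E' hE')
  let eE : r.obj ((DCoh.tildeD R).obj K) ≅ E := r.mapIso e ≪≫ asIso (ad.counit.app E)
  let eE' : r.obj ((DCoh.tildeD R).obj K') ≅ E' := r.mapIso e' ≪≫ asIso (ad.counit.app E')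
  have hK : DRing.IsPerfect R K := TildeAlg.perfect_of_tilde (by
    refine isPerfect_of_cover fun x => ?_
    obtain ⟨y, rfl⟩ := hs x
    haveI : IsIso s := inferInstanceAs (IsIso Y.isoSpec.hom)
    refine ⟨⊤, trivial, ?_⟩
    let t : ((⊤ : (Spec R).Opens) : Scheme.{u}) ⟶ Y := (⊤ : (Spec R).Opens).ι ≫ CategoryTheory.inv s
    exact isPerfect_of_iso ((DCoh.restrictD t).mapIso eE.symm ≪≫
      (resTransD s t (⊤ : (Spec R).Opens).ι (by simp [t])).app _) (isPerfect_restrictD t hE))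
  obtain ⟨lT, hlT, hcov⟩ := exists_elements kO
  have hKT := (isZero_tres_iff kO lT hlT hcov K).1 (((isZero_res_iff O E).2 hEO).of_iso
    (((resTransD s O.ι kO rfl).app _).symm ≪≫ (DCoh.restrictD O.ι).mapIso eE))
  let c := resTransD s j k rfl
  obtain ⟨G, β, γ, hG, hβ, hγ, hkeep⟩ := exists_roof_tres k hK
    ((c.app _).inv ≫ (DCoh.restrictD j).map eE.hom ≫ α ≫ (DCoh.restrictD j).map eE'.inv ≫ (c.app _).hom)
  refine ⟨r.obj ((DCoh.tildeD R).obj G), r.map ((DCoh.tildeD R).map β) ≫ eE.hom,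
    r.map ((DCoh.tildeD R).map γ) ≫ eE'.hom,
    isPerfect_restrictD s (TildeAlg.perfect_tilde hG), (isZero_res_iff O _).1 (((isZero_tres_iff kO lT hlT hcov G).2
      fun f hf => hkeep f (hKT f hf)).of_iso ((resTransD s O.ι kO rfl).app _)), ?_, ?_⟩
  · haveI : IsIso ((DCoh.restrictD j).map (r.map ((DCoh.tildeD R).map β))) :=
      (NatIso.isIso_map_iff c _).2 hβ
    rw [Functor.map_comp]
    infer_instance
  · rw [Functor.map_comp, Functor.map_comp]
    have h1 : (DCoh.restrictD j).map (r.map ((DCoh.tildeD R).map β)) =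
        c.hom.app _ ≫ (tres k).map β ≫ c.inv.app _ := (NatIso.naturality_2 c _).symm
    have h2 : (DCoh.restrictD j).map (r.map ((DCoh.tildeD R).map γ)) =
        c.hom.app _ ≫ (tres k).map γ ≫ c.inv.app _ := (NatIso.naturality_2 c _).symm
    rw [h1, h2, ← hγ]
    simp only [Category.assoc, Iso.app_inv, Iso.app_hom]
    erw [Iso.hom_inv_id_app_assoc]
    rw [← Functor.map_comp, eE'.inv_hom_id]
    simp

variable {X : Scheme.{u}}

/-- restriction to a smaller open of a direct image -/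
noncomputable def resPushIso {U W : X.Opens} (h : W ≤ U) :
    push U ⋙ res W ≅ DCoh.restrictD (X.homOfLE h) :=
  Functor.isoWhiskerLeft (push U) (resLE h).symm ≪≫ (Functor.associator _ _ _).symm ≪≫
    Functor.isoWhiskerRight (asIso (adj U).counit) _ ≪≫ Functor.leftUnitor _

theorem inv_res_unit {U W : X.Opens} (h : W ≤ U) (E : DCoh.D X) [IsIso ((res W).map ((adj U).unit.app E))] :
    inv ((res W).map ((adj U).unit.app E)) =
      (resPushIso h).hom.app ((res U).obj E) ≫ (resLE h).hom.app E := by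
  refine IsIso.inv_eq_of_hom_inv_id ?_
  have h1 : (res W).map ((adj U).unit.app E) ≫ (resLE h).inv.app ((push U).obj ((res U).obj E)) =
      (resLE h).inv.app E ≫ (DCoh.restrictD (X.homOfLE h)).map ((res U).map ((adj U).unit.app E)) :=
    (resLE h).inv.naturality _
  simp only [resPushIso, Iso.trans_hom, NatTrans.comp_app, Functor.isoWhiskerLeft_hom, Functor.isoWhiskerRight_hom,
    Functor.whiskerLeft_app, Functor.whiskerRight_app, Iso.symm_hom, asIso_hom, Functor.associator_inv_app,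
    Functor.leftUnitor_hom_app, Category.id_comp, Category.comp_id, Category.assoc]
  erw [Category.id_comp, reassoc_of% h1, ← Functor.map_comp_assoc, (adj U).left_triangle_components,
    CategoryTheory.Functor.map_id, Category.id_comp]
  exact (resLE h).inv_hom_id_app E

/-- gluing with the projections -/
theorem exists_glue_maps (U V : X.Opens) (a : DCoh.D (U : Scheme.{u})) (b : DCoh.D (V : Scheme.{u}))
    (c : (res (U ⊓ V)).obj ((push U).obj a) ≅ (res (U ⊓ V)).obj ((push V).obj b)) :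
    ∃ (F : DCoh.D X) (π₁ : F ⟶ (push U).obj a) (π₂ : F ⟶ (push V).obj b),
      IsIso ((res U).map π₁) ∧ IsIso ((res V).map π₂) ∧
        (res (U ⊓ V)).map π₂ = (res (U ⊓ V)).map π₁ ≫ c.hom := by
  let W := U ⊓ V
  let qU : (push U).obj a ⟶ (push W).obj ((res W).obj ((push U).obj a)) := (adj W).unit.app _
  let qV : (push V).obj b ⟶ (push W).obj ((res W).obj ((push U).obj a)) := (adj W).unit.app _ ≫ (push W).map c.inv
  obtain ⟨F, m, d, hT⟩ := distinguished_cocone_triangle₁ (biprod.desc qU qV)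
  haveI : IsIso ((res W).map qU) := isIso_res_unit W _
  haveI : IsIso ((res W).map qV) := by
    haveI := isIso_res_unit W ((push V).obj b)
    simp only [qV, Functor.map_comp]
    infer_instance
  haveI : IsIso ((res U).map qV) := by
    exact isIso_res_of_inter U (isLoc_push V b) (isLoc_of_le inf_le_right _) qV
  haveI : IsIso ((res V).map qU) := by
    haveI : IsIso ((res (V ⊓ U)).map qU) := isIso_res_of_le (inf_comm V U).le qU
    exact isIso_res_of_inter V (isLoc_push U a) (isLoc_of_le inf_le_left _) qU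
  haveI := isIso_fib_fst (res U) hT
  have hT' : Triangle.mk (m ≫ (biprod.braiding _ _).hom) (biprod.desc qV qU) d ∈ distTriang _ := by
    refine isomorphic_distinguished _ hT _ ?_
    refine Triangle.isoMk _ _ (Iso.refl _) (biprod.braiding _ _).symm (Iso.refl _) ?_ ?_ (by simp)
    · change (m ≫ (biprod.braiding _ _).hom) ≫ (biprod.braiding _ _).inv = 𝟙 _ ≫ m
      simp
    · change biprod.desc qV qU ≫ 𝟙 _ = (biprod.braiding _ _).inv ≫ biprod.desc qU qV
      simp only [Category.comp_id]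
      ext <;> simp
  haveI := isIso_fib_fst (res V) hT'
  refine ⟨F, m ≫ biprod.fst, -((m ≫ (biprod.braiding _ _).hom) ≫ biprod.fst), inferInstance, ?_, ?_⟩
  · rw [Functor.map_neg]
    exact ⟨-inv ((res V).map ((m ≫ (biprod.braiding _ _).hom) ≫ biprod.fst)), by simp, by simp⟩
  · have hz : m ≫ biprod.desc qU qV = 0 := comp_distTriang_mor_zero₁₂ _ hT
    have h0 : (m ≫ biprod.fst) ≫ qU + ((m ≫ (biprod.braiding _ _).hom) ≫ biprod.fst) ≫ qV = 0 := by
      rw [← hz, biprod.desc_eq (f := qU) (g := qV), Preadditive.comp_add]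
      simp
    have h1 := congrArg ((adj W).homEquiv F _).symm h0
    simp only [qU, qV, Preadditive.comp_add] at h1
    rw [Functor.map_neg, neg_eq_iff_add_eq_zero, ← cancel_mono c.inv, Preadditive.add_comp, zero_comp,
      Category.assoc ((res W).map (m ≫ biprod.fst)), c.hom_inv_id, Category.comp_id, add_comm]
    haveI := (adj W).right_adjoint_additive
    refine ((adj W).homEquiv F _).injective ?_
    rw [(adj W).homEquiv_unit, (adj W).homEquiv_unit, Functor.map_add, Preadditive.comp_add, Functor.map_zero, comp_zero,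
      Functor.map_comp (self := push W), ← h0]
    refine congrArg₂ (· + ·) ((adj W).unit.naturality (m ≫ biprod.fst)).symm ?_
    rw [← Category.assoc]
    exact (congrArg (· ≫ (push W).map c.inv)
      ((adj W).unit.naturality ((m ≫ (biprod.braiding _ _).hom) ≫ biprod.fst)).symm).trans (Category.assoc _ _ _)

/-- maps from supported perfect objects lift along `j` up to direct summands -/
def Lift {U X : Scheme.{u}} (j : U ⟶ X) [IsOpenImmersion j] : Prop :=
  ∀ (Ω : X.Opens), IsCompact (Ω : Set X) → ∀ (E : DCoh.D X), DCoh.IsQCohD E → ∀ (P : DCoh.D U), DCoh.IsPerfect P →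
    ZOn P (j ⁻¹' Ω) → ∀ α : P ⟶ (DCoh.restrictD j).obj E,
      ∃ (R : DCoh.D X) (β : R ⟶ E) (i : P ⟶ (DCoh.restrictD j).obj R) (p : (DCoh.restrictD j).obj R ⟶ P),
        DCoh.IsPerfect R ∧ ZOn R Ω ∧ i ≫ p = 𝟙 P ∧ i ≫ (DCoh.restrictD j).map β = α

/-- gluing a perfect object with its map to `E` across an affine open -/
theorem exists_lift_glue {U V : X.Opens} (hUV : U ⊔ V = ⊤) (hW : IsCompact ((U ⊓ V : X.Opens) : Set X))
    (hV : IsAffineOpen V) {Ω : X.Opens} (hO : IsCompact ((Ω ⊓ V : X.Opens) : Set X)) {E : DCoh.D X} (hE : DCoh.IsQCohD E)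
    {a : DCoh.D (U : Scheme.{u})} (ha : DCoh.IsPerfect a) (haΩ : ZOn a (U.ι ⁻¹' Ω))
    {b : DCoh.D (V : Scheme.{u})} (hb : DCoh.IsPerfect b) (hbO : ZOn b (V.ι ⁻¹' ((Ω ⊓ V : X.Opens) : Set X)))
    (e : (DCoh.restrictD (X.homOfLE (inf_le_left : U ⊓ V ≤ U))).obj a ≅
      (DCoh.restrictD (X.homOfLE (inf_le_right : U ⊓ V ≤ V))).obj b)
    (α : a ⟶ (res U).obj E) :
    ∃ (R : DCoh.D X) (β : R ⟶ E) (ψ : (res U).obj R ≅ a), DCoh.IsPerfect R ∧ ZOn R Ω ∧ (res U).map β = ψ.hom ≫ α := by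
  let W := U ⊓ V
  haveI : CompactSpace (W : Scheme.{u}) := isCompact_iff_compactSpace.1 hW
  haveI : IsAffine (V : Scheme.{u}) := hV
  let O := Ω ⊓ V
  let r := DCoh.restrictD (X.homOfLE (inf_le_left : W ≤ U))
  let r' := DCoh.restrictD (X.homOfLE (inf_le_right : W ≤ V))
  let lU := resLE (inf_le_left : W ≤ U)
  let lV := resLE (inf_le_right : W ≤ V)
  let φ : r'.obj b ⟶ r'.obj ((res V).obj E) := e.inv ≫ r.map α ≫ lU.hom.app E ≫ lV.inv.app E
  have hOc : IsCompact ((V.ι ⁻¹ᵁ O : (V : Scheme.{u}).Opens) : Set (V : Scheme.{u})) :=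
    V.ι.isOpenEmbedding.isInducing.isCompact_iff.2 (by
      change IsCompact (V.ι '' (V.ι ⁻¹' (O : Set X)))
      rw [Set.image_preimage_eq_inter_range, Scheme.Opens.range_ι, Set.inter_eq_left.2 (fun x hx => hx.2)]
      exact hO)
  obtain ⟨b₁, β₁, γ, hb₁, hb₁O, hβ₁, hγ⟩ := exists_affine_roof_supp (X.homOfLE (inf_le_right : W ≤ V))
    (V.ι ⁻¹ᵁ O) hOc hb hbO (isQCohD_restrictD V.ι hE) φ
  haveI := hβ₁
  let θ : r.obj a ≅ r'.obj b₁ := e ≪≫ (asIso (r'.map β₁)).symm
  let εU := resPushIso (inf_le_left : W ≤ U)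
  let εV := resPushIso (inf_le_right : W ≤ V)
  obtain ⟨R, π₁, π₂, h₁, h₂, hcomp⟩ := exists_glue_maps U V a b₁ (εU.app a ≪≫ θ ≪≫ (εV.app b₁).symm)
  haveI := h₁
  haveI := h₂
  obtain ⟨d, hmv⟩ := exists_mv hUV E
  obtain ⟨hU', hV'⟩ := isIso_res_inf_unit U V E
  have hkey : (π₁ ≫ (push U).map α) ≫ mvMap U W E hU' = (π₂ ≫ (push V).map γ) ≫ mvMap V W E hV' := by
    haveI := hU'
    haveI := hV'
    apply ((adj W).homEquiv R ((res W).obj E)).symm.injective
    have hnU : (res W).map ((push U).map α) ≫ εU.hom.app ((res U).obj E) = εU.hom.app a ≫ r.map α :=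
      εU.hom.naturality α
    have hnV : (res W).map ((push V).map γ) ≫ εV.hom.app ((res V).obj E) = εV.hom.app b₁ ≫ r'.map γ :=
      εV.hom.naturality γ
    have hfin : θ.hom ≫ r'.map γ ≫ lV.hom.app E = r.map α ≫ lU.hom.app E := by
      rw [← hγ]
      simp [θ, φ, r']
    simp only [mvMap, Adjunction.homEquiv_counit, Functor.map_comp, Category.assoc, (adj W).counit_naturality,
      Functor.id_obj, Functor.comp_obj, Adjunction.left_triangle_components_assoc]
    rw [inv_res_unit (inf_le_left : W ≤ U) E, inv_res_unit (inf_le_right : W ≤ V) E, hcomp]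
    change (res W).map π₁ ≫ (res W).map ((push U).map α) ≫ εU.hom.app _ ≫ lU.hom.app E =
      ((res W).map π₁ ≫ (εU.app a ≪≫ θ ≪≫ (εV.app b₁).symm).hom) ≫
        (res W).map ((push V).map γ) ≫ εV.hom.app _ ≫ lV.hom.app E
    rw [reassoc_of% hnU, reassoc_of% hnV]
    simp only [Iso.trans_hom, Iso.symm_hom, Iso.app_hom, Iso.app_inv, Category.assoc, Iso.inv_hom_id_app_assoc, hfin]
  obtain ⟨β, hβ⟩ := Triangle.coyoneda_exact₂ _ hmv
    (biprod.lift (π₁ ≫ (push U).map α) (-(π₂ ≫ (push V).map γ))) (by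
      change biprod.lift (π₁ ≫ (push U).map α) (-(π₂ ≫ (push V).map γ)) ≫
        biprod.desc (mvMap U W E hU') (mvMap V W E hV') = 0
      exact biprod.lift_desc.trans ((congrArg₂ (· + ·) hkey (Preadditive.neg_comp _ _)).trans
        (add_neg_cancel _)))
  change R ⟶ E at β
  change _ = β ≫ biprod.lift ((adj U).unit.app E) (-((adj V).unit.app E)) at hβ
  have hβ' : π₁ ≫ (push U).map α = β ≫ (adj U).unit.app E := by
    have := congrArg (· ≫ (biprod.fst : _ ⟶ (push U).obj ((res U).obj E))) hβ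
    simpa using this
  let ψ : (res U).obj R ≅ a := asIso ((res U).map π₁) ≪≫ asIso ((adj U).counit.app a)
  have hresβ : (res U).map β = ψ.hom ≫ α := by
    calc (res U).map β = (res U).map (β ≫ (adj U).unit.app E) ≫ (adj U).counit.app ((res U).obj E) := by
          rw [Functor.map_comp, Category.assoc, (adj U).left_triangle_components]
          exact (Category.comp_id _).symm
      _ = ψ.hom ≫ α := by
          rw [← hβ', Functor.map_comp, Category.assoc]
          erw [(adj U).counit.naturality α]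
          simp [ψ]
  refine ⟨R, β, ψ, isPerfect_of_cover fun x => ?_, ?_, hresβ⟩
  · have hx : x ∈ U ⊔ V := hUV ▸ trivial
    rcases hx with hx | hx
    · exact ⟨U, hx, isPerfect_of_iso ψ.symm ha⟩
    · exact ⟨V, hx, isPerfect_of_iso (asIso ((res V).map π₂) ≪≫ asIso ((adj V).counit.app b₁)).symm hb₁⟩
  · have hRU : ZOn R (U.ι '' (U.ι ⁻¹' Ω)) := (zOn_restrictD U.ι R _).1
      (haΩ.of_iso ψ)
    have hRV : ZOn R (V.ι '' (V.ι ⁻¹' O)) := (zOn_restrictD V.ι R _).1
      (hb₁O.of_iso (asIso ((res V).map π₂) ≪≫ asIso ((adj V).counit.app b₁)))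
    refine (hRU.union hRV).mono fun x hx => ?_
    have : x ∈ U ⊔ V := hUV ▸ trivial
    exact this.elim (fun hxU => Or.inl ⟨⟨x, hxU⟩, hx, rfl⟩) fun hxV => Or.inr ⟨⟨x, hxV⟩, ⟨hx, hxV⟩, rfl⟩

theorem lift_union [QuasiSeparatedSpace X] (U V : X.Opens) (hUV : U ⊔ V = ⊤)
    (hU : IsCompact (U : Set X)) (hV : IsAffineOpen V) : Lift U.ι := by
  intro Ω hΩ E hE P hP hPΩ α
  let W := U ⊓ V
  have hW : IsCompact (W : Set X) := by
    rw [TopologicalSpace.Opens.coe_inf]
    exact QuasiSeparatedSpace.inter_isCompact _ _ U.2 hU V.2 hV.isCompact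
  haveI : CompactSpace (W : Scheme.{u}) := isCompact_iff_compactSpace.1 hW
  haveI : IsAffine (V : Scheme.{u}) := hV
  let O := Ω ⊓ V
  have hO : IsCompact (O : Set X) := by
    rw [TopologicalSpace.Opens.coe_inf]
    exact QuasiSeparatedSpace.inter_isCompact _ _ Ω.2 hΩ V.2 hV.isCompact
  let r := DCoh.restrictD (X.homOfLE (inf_le_left : W ≤ U))
  let r' := DCoh.restrictD (X.homOfLE (inf_le_right : W ≤ V))
  have hPW : DCoh.IsPerfect (r.obj P) := isPerfect_restrictD _ hP
  obtain ⟨b, hb, hbO, ⟨eb⟩⟩ := exists_affine_extension_supp hV (inf_le_right : W ≤ V) hW (inf_le_right : O ≤ V) hO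
    hPW ((zOn_restrictD _ P _).2 (hPΩ.mono (by
      rintro _ ⟨y, hy, rfl⟩
      have h1 : U.ι (X.homOfLE (inf_le_left : W ≤ U) y) = W.ι y := congr($(X.homOfLE_ι (inf_le_left : W ≤ U)) y)
      change U.ι _ ∈ Ω
      rw [h1]
      exact hy.1)))
  let a := P ⊞ P⟦(1 : ℤ)⟧
  haveI := preservesBinaryBiproducts_of_preservesBiproducts r
  let e : r.obj a ≅ r'.obj b :=
    r.mapBiprod P (P⟦(1 : ℤ)⟧) ≪≫ biprod.mapIso (Iso.refl _) ((r.commShiftIso (1 : ℤ)).app P) ≪≫ eb.symm
  obtain ⟨R, β, ψ, hR, hRΩ, hβ⟩ := exists_lift_glue hUV hW hV hO hE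
    ((perfect_two_out_of_three (binaryBiproductTriangle_distinguished _ _)).2.1 hP (perfect_shift hP 1))
    (zOn_biprod (U.ι ⁻¹ᵁ Ω) hPΩ (zOn_shift (U.ι ⁻¹ᵁ Ω) hPΩ 1)) hb hbO e (biprod.fst ≫ α)
  refine ⟨R, β, biprod.inl ≫ ψ.inv, ψ.hom ≫ biprod.fst, hR, hRΩ, by simp, ?_⟩
  rw [hβ]
  simp

/-- lifting is transitive -/
theorem lift_comp {U U' X : Scheme.{u}} (k : U ⟶ U') [IsOpenImmersion k] (j : U' ⟶ X) [IsOpenImmersion j]
    (jk : U ⟶ X) [IsOpenImmersion jk] (w : k ≫ j = jk) (hk : Lift k) (hj : Lift j)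
    (hjc : ∀ Ω : X.Opens, IsCompact (Ω : Set X) → IsCompact ((j ⁻¹ᵁ Ω : U'.Opens) : Set U')) : Lift jk := by
  intro Ω hΩ E hE P hP hPΩ α
  let c := resTransD j k jk w
  obtain ⟨R₁, β₁, i₁, p₁, hR₁, hR₁Ω, hip₁, hα₁⟩ := hk (j ⁻¹ᵁ Ω) (hjc Ω hΩ) _ (isQCohD_restrictD j hE) P hP
    (hPΩ.mono fun y hy => by
      change jk y ∈ Ω
      subst w
      exact hy) (α ≫ c.inv.app E)
  obtain ⟨R, β, i, p, hR, hRΩ, hip, hα⟩ := hj Ω hΩ E hE R₁ hR₁ hR₁Ω β₁
  refine ⟨R, β, i₁ ≫ (DCoh.restrictD k).map i ≫ c.hom.app R, c.inv.app R ≫ (DCoh.restrictD k).map p ≫ p₁,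
    hR, hRΩ, ?_, ?_⟩
  · simp only [Category.assoc, Iso.hom_inv_id_app_assoc, ← Functor.map_comp_assoc, hip,
      CategoryTheory.Functor.map_id, Category.id_comp]
    exact hip₁
  · simp only [Category.assoc]
    rw [show c.hom.app R ≫ (DCoh.restrictD jk).map β = (DCoh.restrictD k).map ((DCoh.restrictD j).map β) ≫ c.hom.app E
      from (c.hom.naturality β).symm, ← Functor.map_comp_assoc, hα, reassoc_of% hα₁]
    simp

theorem lift_of_surjective {U : Scheme.{u}} (j : U ⟶ X) [IsOpenImmersion j] (hj : Function.Surjective j) :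
    Lift j := fun Ω _ E _ P hP hPΩ α => by
  haveI := isIso_unit_of_surjective j hj
  let ad := Cpt.restrictRpushAdj j
  refine ⟨(DCoh.Rpush j).obj P, (DCoh.Rpush j).map α ≫ inv (ad.unit.app E), inv (ad.counit.app P), ad.counit.app P,
    isPerfect_of_cover fun x => ?_, ?_, IsIso.inv_hom_id _, ?_⟩
  · obtain ⟨y, rfl⟩ := hj x
    exact ⟨j.opensRange, ⟨y, rfl⟩, isPerfect_of_iso
      ((DCoh.restrictD j.isoOpensRange.inv).mapIso (asIso (ad.counit.app P)).symm ≪≫
      (resTransD j j.isoOpensRange.inv j.opensRange.ι j.isoOpensRange_inv_comp).app _)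
      (isPerfect_restrictD j.isoOpensRange.inv hP)⟩
  · have h1 := (zOn_restrictD j ((DCoh.Rpush j).obj P) _).1 (hPΩ.of_iso (asIso (ad.counit.app P)))
    exact h1.mono fun x hx => by
      obtain ⟨y, rfl⟩ := hj x
      exact ⟨y, hx, rfl⟩
  · have h1 : inv ((DCoh.restrictD j).map (ad.unit.app E)) = ad.counit.app ((DCoh.restrictD j).obj E) :=
      IsIso.inv_eq_of_hom_inv_id (ad.left_triangle_components E)
    rw [Functor.map_comp, Functor.map_inv, h1]
    erw [ad.counit.naturality α, IsIso.inv_hom_id_assoc]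
    rfl

theorem lift_of_affines : ∀ (n : ℕ) (X : Scheme.{u}) [QuasiSeparatedSpace X] {U : Scheme.{u}} (j : U ⟶ X)
    [IsOpenImmersion j] [CompactSpace U] (A : Fin n → X.Opens), (∀ i, IsAffineOpen (A i)) →
    j.opensRange ⊔ (⨆ i, A i) = ⊤ → Lift j
  | 0, X, _, U, j, _, _, A, _, h => lift_of_surjective j fun x => by
    have hx : x ∈ j.opensRange := by
      have hU : j.opensRange = ⊤ := by simpa using h
      rw [hU]
      trivial
    exact hx
  | n + 1, X, _, U, j, _, _, A, hA, h => by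
    let U' : X.Opens := j.opensRange ⊔ ⨆ i : Fin n, A i.castSucc
    have hsub : ∀ i : Fin n, A i.castSucc ≤ U' := fun i => (le_iSup (fun i => A i.castSucc) i).trans le_sup_right
    have hc : IsCompact (j.opensRange : Set X) := isCompact_range j.continuous
    have hU' : IsCompact (U' : Set X) := by
      rw [TopologicalSpace.Opens.coe_sup, TopologicalSpace.Opens.coe_iSup]
      exact hc.union (isCompact_iUnion fun i => (hA _).isCompact)
    let k : U ⟶ U' := IsOpenImmersion.lift U'.ι j (by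
      rintro _ ⟨y, rfl⟩
      rw [Scheme.Opens.range_ι]
      exact Or.inl ⟨y, rfl⟩)
    have w : k ≫ U'.ι = j := IsOpenImmersion.lift_fac _ _ _
    haveI : IsOpenImmersion k := by
      haveI : IsOpenImmersion (k ≫ U'.ι) := w.symm ▸ inferInstance
      exact IsOpenImmersion.of_comp k U'.ι
    haveI : QuasiSeparatedSpace (U' : Scheme.{u}) := U'.ι.isOpenEmbedding.quasiSeparatedSpace
    refine lift_comp k U'.ι j w ?_ ?_ ?_
    · refine lift_of_affines n U' k (fun i => U'.ι ⁻¹ᵁ A i.castSucc)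
        (fun i => (hA _).preimage_of_isOpenImmersion U'.ι (by rw [Scheme.Opens.opensRange_ι]; exact hsub i))
        (eq_top_iff.2 fun x _ => ?_)
      rcases (show U'.ι x ∈ j.opensRange ⊔ ⨆ i : Fin n, A i.castSucc from x.2) with hx | hx
      · obtain ⟨y, hy⟩ := hx
        refine Or.inl ⟨y, U'.ι.isOpenEmbedding.injective ?_⟩
        rw [← Scheme.Hom.comp_apply, w]
        exact hy
      · obtain ⟨i, hi⟩ := TopologicalSpace.Opens.mem_iSup.1 hx
        exact Or.inr (TopologicalSpace.Opens.mem_iSup.2 ⟨i, hi⟩)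
    · refine lift_union U' (A (Fin.last n)) (eq_top_iff.2 fun x _ => ?_) hU' (hA _)
      have : x ∈ j.opensRange ⊔ ⨆ i, A i := h ▸ trivial
      rcases this with hx | hx
      · exact Or.inl (Or.inl hx)
      · obtain ⟨i, hi⟩ := TopologicalSpace.Opens.mem_iSup.1 hx
        cases i using Fin.lastCases with
        | last => exact Or.inr hi
        | cast i => exact Or.inl (hsub i hi)
    · intro Ω hΩ
      refine U'.ι.isOpenEmbedding.isInducing.isCompact_iff.2 ?_
      change IsCompact (U'.ι '' (U'.ι ⁻¹' (Ω : Set X)))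
      rw [Set.image_preimage_eq_inter_range, Scheme.Opens.range_ι]
      exact QuasiSeparatedSpace.inter_isCompact _ _ Ω.2 hΩ U'.2 hU'

/-- lifting maps from perfect objects on a quasi-compact open -/
theorem lift_of_compact [CompactSpace X] [QuasiSeparatedSpace X] {U : Scheme.{u}} (j : U ⟶ X) [IsOpenImmersion j]
    [CompactSpace U] : Lift j := by
  classical
  obtain ⟨t, ht⟩ := (isCompact_univ (X := X)).elim_finite_subcover (fun V : X.affineOpens => (V.1 : Set X))
    (fun V => V.1.2) fun x _ => by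
      obtain ⟨_, ⟨V, hV, rfl⟩, hxV, -⟩ := X.isBasis_affineOpens.exists_subset_of_mem_open (Set.mem_univ x) isOpen_univ
      exact Set.mem_iUnion.2 ⟨⟨V, hV⟩, hxV⟩
  refine lift_of_affines t.card X j (fun i => (t.equivFin.symm i).1.1) (fun i => (t.equivFin.symm i).1.2)
    (eq_top_iff.2 fun x _ => Or.inr ?_)
  obtain ⟨V, hV, hx⟩ := Set.mem_iUnion₂.1 (ht (Set.mem_univ x))
  exact TopologicalSpace.Opens.mem_iSup.2 ⟨t.equivFin ⟨V, hV⟩, by simpa using hx⟩

end Groth.L29.DC.Gen
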