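import Groth.Agent.L10.KInjDerived
import Groth.Agent.L29.DCoh.QRlim
import Groth.Agent.L17.PushQCoh
import Groth.Prelude.Def_DCoh3
import Mathlib.Algebra.Homology.HomotopyCategory.KInjective
import Mathlib.CategoryTheory.Triangulated.Orthogonal
import Mathlib.CategoryTheory.Triangulated.Adjunction
import Mathlib.CategoryTheory.Triangulated.Subcategory

/-!
Right derived functors of exact functors are exact; in particular `Rf_*`.
-/

set_option autoImplicit false
set_option backward.defeqAttrib.useBackward true
set_option backward.isDefEq.respectTransparency false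
set_option backward.isDefEq.respectTransparency.types false

universe w v u v' u'

open CategoryTheory CategoryTheory.Limits CategoryTheory.Pretriangulated

namespace Groth.L29.DC.RDTri

open Groth.L10.KInjDerived

variable {A : Type u} [Category.{v} A] [Abelian A]

theorem kInj_eq : kInj A = (HomotopyCategory.subcategoryAcyclic A).rightOrthogonal :=
  funext fun X => propext (CochainComplex.isKInjective_iff_rightOrthogonal X.as)

instance isTriangulated_kInj : (kInj A).IsTriangulated := by
  rw [kInj_eq]; infer_instance

instance isClosedUnderIsomorphisms_kInj : (kInj A).IsClosedUnderIsomorphisms := by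
  rw [kInj_eq]; infer_instance

variable [HasDerivedCategory.{w} A] [EnoughKInjectives A]

noncomputable instance commShift_equiv : (equiv (A := A)).functor.CommShift ℤ :=
  inferInstanceAs (((kInj A).ι ⋙ DerivedCategory.Qh).CommShift ℤ)

instance isTriangulated_equiv : (equiv (A := A)).functor.IsTriangulated :=
  inferInstanceAs (((kInj A).ι ⋙ DerivedCategory.Qh).IsTriangulated)

variable {H : Type u'} [Category.{v'} H] [Preadditive H] [HasZeroObject H] [HasShift H ℤ]
  [∀ n : ℤ, (shiftFunctor H n).Additive] [Pretriangulated H]
  {F : HomotopyCategory A (ComplexShape.up ℤ) ⥤ H} [F.CommShift ℤ] [F.IsTriangulated]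
  {RF : DerivedCategory A ⥤ H} (α : F ⟶ DerivedCategory.Qh ⋙ RF)
  [RF.IsRightDerivedFunctor α (HomotopyCategory.quasiIso A (ComplexShape.up ℤ))]

/-- the derived functor computed on K-injectives -/
noncomputable def iso : (equiv (A := A)).inverse ⋙ (kInj A).ι ⋙ F ≅ RF := by
  haveI : ∀ I : KI A, IsIso (α.app I.obj) := fun I => isIso_app_of_isKInjective α I.obj I.property
  haveI : IsIso (Functor.whiskerLeft (kInj A).ι α) := by
    rw [NatTrans.isIso_iff_isIso_app]
    intro I
    exact inferInstanceAs (IsIso (α.app I.obj))
  exact Functor.isoWhiskerLeft _ (asIso (Functor.whiskerLeft (kInj A).ι α)) ≪≫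
    Functor.isoWhiskerRight (equiv (A := A)).counitIso RF ≪≫ Functor.leftUnitor RF

/-- commutation with shifts -/
@[instance_reducible]
noncomputable def commShift : RF.CommShift ℤ :=
  letI : (equiv (A := A)).inverse.CommShift ℤ := (equiv (A := A)).commShiftInverse ℤ
  Functor.CommShift.ofIso (iso α) ℤ

theorem isTriangulated : letI := commShift α; RF.IsTriangulated := by
  letI : (equiv (A := A)).inverse.CommShift ℤ := (equiv (A := A)).commShiftInverse ℤ
  haveI : (equiv (A := A)).toAdjunction.CommShift ℤ := (equiv (A := A)).commShift_of_functor ℤ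
  haveI : (equiv (A := A)).inverse.IsTriangulated := (equiv (A := A)).toAdjunction.isTriangulated_rightAdjoint
  letI := commShift α
  haveI := Functor.CommShift.ofIso_compatibility (iso α) ℤ
  exact Functor.isTriangulated_of_iso (iso α)

end Groth.L29.DC.RDTri

namespace Groth.L29.DC.Gen

open AlgebraicGeometry

attribute [local instance] HasDerivedCategory.standard

variable {X Y : Scheme.{u}} (f : X ⟶ Y) [DCoh.HasRpush f]

/-- `Rf_*` commutes with shifts -/
@[instance_reducible]
noncomputable def commShiftRpush : (DCoh.Rpush f).CommShift ℤ :=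
  haveI := QRlim.enoughKInj X
  haveI := Groth.L17.PushQCoh.additive_push f
  RDTri.commShift ((DCoh.pushKh f).totalRightDerivedUnit DerivedCategory.Qh (HomotopyCategory.quasiIso X.Modules (ComplexShape.up ℤ)))

theorem isTriangulated_Rpush : letI := commShiftRpush f; (DCoh.Rpush f).IsTriangulated :=
  haveI := QRlim.enoughKInj X
  haveI := Groth.L17.PushQCoh.additive_push f
  RDTri.isTriangulated _

end Groth.L29.DC.Gen
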