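import Groth.Prelude.Def_DerLim
import Mathlib.CategoryTheory.Triangulated.Triangulated
import Mathlib.CategoryTheory.Limits.Preserves.Shapes.Products
import Mathlib.CategoryTheory.Triangulated.Yoneda

/-!
A compact object generated by `G` is a direct summand of an object built in finitely many steps from
shifts of `G` (Ravenel–Neeman).
-/

set_option autoImplicit false
set_option backward.defeqAttrib.useBackward true
set_option backward.isDefEq.respectTransparency false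

universe t v u

open CategoryTheory CategoryTheory.Limits CategoryTheory.Pretriangulated ZeroObject

namespace Groth.L29.Thick

variable {D : Type u} [Category.{v} D] [Preadditive D] [HasZeroObject D] [HasShift D ℤ]
  [∀ n : ℤ, (shiftFunctor D n).Additive] [Pretriangulated D]

/-- built from shifts of `G` in finitely many steps -/
inductive Built (G : D) : D → Prop
  | gen (n : ℤ) : Built G (G⟦n⟧)
  | zero {Z : D} : IsZero Z → Built G Z
  | ext (T : Triangle D) : T ∈ distTriang D → Built G T.obj₁ → Built G T.obj₃ → Built G T.obj₂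
  | iso {A B : D} : (A ≅ B) → Built G A → Built G B

/-- built from small sums of shifts of `G` in finitely many steps -/
inductive Big [HasCoproducts.{t} D] (G : D) : D → Prop
  | gen {ι : Type t} (n : ι → ℤ) (m : ℤ) : Big G ((∐ fun i => G⟦n i⟧)⟦m⟧)
  | zero {Z : D} : IsZero Z → Big G Z
  | ext (T : Triangle D) : T ∈ distTriang D → Big G T.obj₁ → Big G T.obj₃ → Big G T.obj₂
  | iso {A B : D} : (A ≅ B) → Big G A → Big G B

theorem Built.biprod {G A B : D} (hA : Built G A) (hB : Built G B) : Built G (A ⊞ B) :=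
  .ext _ (binaryBiproductTriangle_distinguished A B) hA hB

theorem Built.shift {G A : D} (hA : Built G A) (k : ℤ) : Built G (A⟦k⟧) := by
  induction hA with
  | gen n => exact .iso ((shiftFunctorAdd D n k).app G) (.gen (n + k))
  | zero h => exact .zero ((shiftFunctor D k).map_isZero h)
  | ext T hT _ _ h₁ h₃ => exact .ext _ (Triangle.shift_distinguished _ hT k) h₁ h₃
  | iso e _ h => exact .iso ((shiftFunctor D k).mapIso e) h

theorem Big.shift [HasCoproducts.{t} D] {G A : D} (hA : Big.{t} G A) (k : ℤ) : Big.{t} G (A⟦k⟧) := by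
  induction hA with
  | gen n m => exact .iso ((shiftFunctorAdd D m k).app _) (.gen n (m + k))
  | zero h => exact .zero ((shiftFunctor D k).map_isZero h)
  | ext T hT _ _ h₁ h₃ => exact .ext _ (Triangle.shift_distinguished _ hT k) h₁ h₃
  | iso e _ h => exact .iso ((shiftFunctor D k).mapIso e) h

/-- maps into small sums of objects in `S` factor through finitely many summands -/
def Cpt (S : ObjectProperty D) (P : D) : Prop :=
  ∀ {ι : Type t} (X : ι → D) [HasCoproduct X], (∀ i, S (X i)) → ∀ (f : P ⟶ ∐ X),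
    ∃ (s : Finset ι) (g : ∀ i, P ⟶ X i), f = ∑ i ∈ s, g i ≫ Sigma.ι X i

theorem exists_built_of_sum {G P : D} {ι : Type t} (n : ι → ℤ) [HasCoproduct fun i => G⟦n i⟧]
    (g : ∀ i, P ⟶ G⟦n i⟧) (s : Finset ι) :
    ∃ (Y : D) (a : P ⟶ Y) (b : Y ⟶ ∐ fun i => G⟦n i⟧),
      Built G Y ∧ a ≫ b = ∑ i ∈ s, g i ≫ Sigma.ι (fun i => G⟦n i⟧) i := by
  classical
  induction s using Finset.induction_on with
  | empty => exact ⟨0, 0, 0, .zero (isZero_zero D), by simp⟩
  | @insert i s hi ih =>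
    obtain ⟨Y, a, b, hY, h⟩ := ih
    exact ⟨G⟦n i⟧ ⊞ Y, biprod.lift (g i) a, biprod.desc (Sigma.ι (fun i => G⟦n i⟧) i) b,
      .biprod (.gen _) hY, by rw [biprod.lift_desc, Finset.sum_insert hi, h]⟩

variable [HasCoproducts.{t} D]

/-- maps from compact objects to big objects factor through built ones -/
theorem exists_factor {G X : D} (hX : Big.{t} G X) (C : ObjectProperty D)
    (hC : ∀ (T : Triangle D), T ∈ distTriang D → C T.obj₂ → C T.obj₃ → C T.obj₁)
    (hCG : ∀ Y, Built G Y → C Y) (hCs : ∀ Y (k : ℤ), C Y → C (Y⟦k⟧)) (S : ObjectProperty D)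
    (hSG : ∀ n : ℤ, S (G⟦n⟧)) (hcpt : ∀ Y, C Y → Cpt.{t} S Y) :
    ∀ {P : D}, C P → ∀ f : P ⟶ X, ∃ (Y : D) (a : P ⟶ Y) (b : Y ⟶ X), Built G Y ∧ a ≫ b = f := by
  induction hX with
  | @gen ι n m =>
    intro P hP f
    let adj := (shiftEquiv D m).symm.toAdjunction
    obtain ⟨s, g, hg⟩ := hcpt _ (hCs P (-m) hP) _ (fun i => hSG _) ((adj.homEquiv P _).symm f)
    obtain ⟨Y, a, b, hY, hab⟩ := exists_built_of_sum n g s
    refine ⟨Y⟦m⟧, adj.homEquiv P Y a, b⟦m⟧', hY.shift m, ?_⟩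
    have := adj.homEquiv_naturality_right (X := P) a b
    change adj.homEquiv P Y a ≫ (shiftFunctor D m).map b = f
    exact this.symm.trans (((adj.homEquiv P _).congr_arg (hab.trans hg.symm)).trans (Equiv.apply_symm_apply _ _))
  | zero h => exact fun {P} _ f => ⟨0, 0, 0, .zero (isZero_zero D), h.eq_of_tgt _ _⟩
  | iso e _ ih =>
    intro P hP f
    obtain ⟨Y, a, b, hY, hab⟩ := ih hP (f ≫ e.inv)
    exact ⟨Y, a, b ≫ e.hom, hY, by rw [reassoc_of% hab]; simp⟩
  | ext T hT _ _ ih₁ ih₃ =>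
    intro P hP f
    obtain ⟨F, a, b, hF, hab⟩ := ih₃ hP (f ≫ T.mor₂)
    obtain ⟨P', j, d, hP'⟩ := distinguished_cocone_triangle₁ a
    have hP'C : C P' := hC _ hP' hP (hCG _ hF)
    let φ := completeDistinguishedTriangleMorphism (Triangle.mk a d (-j⟦(1 : ℤ)⟧')) T.rotate
      (rot_of_distTriang _ hP') (rot_of_distTriang _ hT) f b (by simpa using hab)
    obtain ⟨f', hf'⟩ : ∃ f' : P' ⟶ T.obj₁, f'⟦(1 : ℤ)⟧' = φ.hom₃ := (shiftFunctor D (1 : ℤ)).map_surjective φ.hom₃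
    obtain ⟨Q, a', b', hQ, hab'⟩ := ih₁ hP'C f'
    obtain ⟨Y, u, v, hY⟩ := distinguished_cocone_triangle₂ (d ≫ a'⟦(1 : ℤ)⟧')
    have hYB : Built G Y := .ext _ hY hQ hF
    have hc : d ≫ φ.hom₃ = b ≫ T.mor₃ := φ.comm₂
    obtain ⟨β, hβ₁, hβ₂⟩ := complete_distinguished_triangle_morphism₂ _ _ hY hT b' b (by
      change (d ≫ a'⟦(1 : ℤ)⟧') ≫ b'⟦(1 : ℤ)⟧' = b ≫ T.mor₃
      rw [Category.assoc, ← Functor.map_comp, hab', hf', hc])
    change Y ⟶ T.obj₂ at β
    change u ≫ β = b' ≫ T.mor₁ at hβ₁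
    change v ≫ b = β ≫ T.mor₂ at hβ₂
    obtain ⟨α, hα₁, hα₂⟩ := complete_distinguished_triangle_morphism₂ _ _ hP' hY a' (𝟙 F) (by
      change d ≫ a'⟦(1 : ℤ)⟧' = 𝟙 F ≫ d ≫ a'⟦(1 : ℤ)⟧'
      simp)
    change P ⟶ Y at α
    change a ≫ 𝟙 F = α ≫ v at hα₂
    obtain ⟨g, hg⟩ := Triangle.coyoneda_exact₂ _ hT (f - α ≫ β) (by
      rw [Preadditive.sub_comp, sub_eq_zero, Category.assoc, ← hβ₂, ← reassoc_of% hα₂, hab])
    obtain ⟨Q', a'', b'', hQ', hab''⟩ := ih₁ hP g
    refine ⟨Y ⊞ Q', biprod.lift α a'', biprod.desc β (b'' ≫ T.mor₁), hYB.biprod hQ', ?_⟩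
    rw [biprod.lift_desc, reassoc_of% hab'', ← hg, add_sub_cancel]

variable [IsTriangulated D] [HasColimitsOfShape (Discrete ℕ) D]

/-- in the tower killing all maps from shifts of `G`, compact objects die at a finite stage -/
theorem exists_vanish {G : D} (C : ObjectProperty D) (hCG : ∀ Y, Built G Y → C Y)
    (hCs : ∀ Y (k : ℤ), C Y → C (Y⟦k⟧)) (S : ObjectProperty D)
    (hcpt : ∀ Y, C Y → Cpt.{t} S Y)
    (hSN : ∀ (X : ℕ → D), (∀ i, S (X i)) → S (∐ X))
    (hST : ∀ (T : Triangle D), T ∈ distTriang D → S T.obj₁ → S T.obj₂ → S T.obj₃)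
    (hgen : ∀ L, S L → (∀ (n : ℤ) (φ : G⟦n⟧ ⟶ L), φ = 0) → IsZero L)
    (X : ℕ → D) (f : ∀ k, X k ⟶ X (k + 1)) (hSX : ∀ k, S (X k))
    (hkill : ∀ k (n : ℤ) (φ : G⟦n⟧ ⟶ X k), φ ≫ f k = 0)
    (T : ∀ k, X 0 ⟶ X k) (hT0 : T 0 = 𝟙 _) (hTs : ∀ k, T (k + 1) = T k ≫ f k) (hX0 : C (X 0)) :
    ∃ N : ℕ, T N = 0 := by
  classical
  obtain ⟨L, π, δ, hL⟩ := distinguished_cocone_triangle (𝟙 (∐ X) - DerLim.shiftMap X f)
  let s := DerLim.shiftMap X f
  have hιs : ∀ k, Sigma.ι X k ≫ s = f k ≫ Sigma.ι X (k + 1) := fun k => Sigma.ι_desc _ _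
  have hπ : ∀ k, Sigma.ι X k ≫ π = f k ≫ Sigma.ι X (k + 1) ≫ π := fun k => by
    have h0 : (𝟙 (∐ X) - s) ≫ π = 0 := comp_distTriang_mor_zero₁₂ _ hL
    have := Sigma.ι X k ≫= h0
    rw [Preadditive.sub_comp, Category.id_comp, Preadditive.comp_sub, comp_zero, sub_eq_zero, reassoc_of% hιs k] at this
    exact this
  -- maps from compact objects into the sum detected by `1 - s`
  have hfin : ∀ {Q : D}, Cpt.{t} S Q → ∀ u : Q ⟶ ∐ X, ∃ (M : ℕ) (g : ∀ k, Q ⟶ X k),
      u = ∑ k ∈ Finset.range M, g k ≫ Sigma.ι X k := fun {Q} hQ u => by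
    let e : (∐ fun k : ULift.{t} ℕ => X k.down) ⟶ ∐ X := Sigma.desc fun k => Sigma.ι X k.down
    let e' : (∐ X) ⟶ ∐ fun k : ULift.{t} ℕ => X k.down :=
      Sigma.desc fun k => Sigma.ι (fun k : ULift.{t} ℕ => X k.down) ⟨k⟩
    obtain ⟨sK, g, hg⟩ := hQ (fun k : ULift.{t} ℕ => X k.down) (fun k => hSX k.down) (u ≫ e')
    refine ⟨(sK.sup fun k => k.down) + 1, fun k => if ⟨k⟩ ∈ sK then g ⟨k⟩ else 0, ?_⟩
    have hu : u = (u ≫ e') ≫ e := by
      rw [Category.assoc, show e' ≫ e = 𝟙 _ from Sigma.hom_ext _ _ fun k => by simp [e, e'], Category.comp_id]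
    rw [hu, hg, Preadditive.sum_comp]
    symm
    refine Finset.sum_bij_ne_zero (fun k _ _ => (⟨k⟩ : ULift.{t} ℕ)) (fun k _ hk => ?_) (fun a _ _ b _ _ h => by simpa using h)
      (fun b hb hb' => ⟨b.down, Finset.mem_range.2 (Nat.lt_succ_of_le (Finset.le_sup (f := fun k => k.down) hb)), by
        simpa [hb, e] using hb', rfl⟩) (fun k _ hk => ?_)
    · by_contra hne
      exact hk (by simp [hne])
    · by_cases hm : (⟨k⟩ : ULift.{t} ℕ) ∈ sK
      · simp [hm, e]
      · exact absurd (by simp [hm]) hk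
  have hinj : ∀ {Q : D}, Cpt.{t} S Q → ∀ u : Q ⟶ ∐ X, u ≫ s = u → u = 0 := fun {Q} hQ u hu => by
    obtain ⟨M, g, hg⟩ := hfin hQ u
    have hj : ∀ j, u ≫ (Sigma.desc fun k => if h : k = j then eqToHom (congrArg X h) else 0) = 0 := fun j => by
      induction j with
      | zero =>
        have h0 : s ≫ (Sigma.desc fun k => if h : k = 0 then eqToHom (congrArg X h) else 0) = 0 :=
          Sigma.hom_ext _ _ fun k => by simp [reassoc_of% hιs k]
        rw [← hu, Category.assoc, h0, comp_zero]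
      | succ j ih =>
        have h0 : s ≫ (Sigma.desc fun k => if h : k = j + 1 then eqToHom (congrArg X h) else 0) =
            (Sigma.desc fun k => if h : k = j then eqToHom (congrArg X h) else 0) ≫ f j :=
          Sigma.hom_ext _ _ fun k => by
            rw [reassoc_of% hιs k, Sigma.ι_desc, Sigma.ι_desc_assoc]
            by_cases hk : k = j
            · subst hk; simp
            · simp [hk]
        rw [← hu, Category.assoc, h0, reassoc_of% ih, zero_comp]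
    rw [hg]
    refine Finset.sum_eq_zero fun j hj' => ?_
    have := hj j
    rw [hg, Preadditive.sum_comp, Finset.sum_eq_single j (fun k _ hk => by simp [hk]) (fun h => absurd hj' h)] at this
    simp only [Category.assoc, Sigma.ι_desc, dite_true, eqToHom_refl, Category.comp_id] at this
    rw [this, zero_comp]
  have hL0 : IsZero L := hgen L (hST _ hL (hSN X hSX) (hSN X hSX)) fun n φ => by
    have hGn : Cpt.{t} S (G⟦n⟧) := hcpt _ (hCG _ (.gen n))
    have hφδ : φ ≫ δ = 0 := by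
      let adj := (shiftEquiv D (1 : ℤ)).symm.toAdjunction
      refine (adj.homEquiv (G⟦n⟧) (∐ X)).symm.injective ?_
      have hz : (adj.homEquiv (G⟦n⟧) (∐ X)).symm (φ ≫ δ) ≫ (𝟙 (∐ X) - s) = 0 := by
        rw [← adj.homEquiv_naturality_right_symm]
        have h31 : δ ≫ (𝟙 (∐ X) - s)⟦(1 : ℤ)⟧' = 0 := comp_distTriang_mor_zero₃₁ _ hL
        change (adj.homEquiv (G⟦n⟧) (∐ X)).symm ((φ ≫ δ) ≫ (shiftFunctor D (1 : ℤ)).map (𝟙 (∐ X) - s)) = 0
        rw [Category.assoc, h31, comp_zero]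
        simp [Adjunction.homEquiv_counit]
      rw [Preadditive.comp_sub, Category.comp_id, sub_eq_zero] at hz
      rw [hinj (hcpt _ (hCs _ (-1) (hCG _ (.gen n)))) _ hz.symm]
      simp [Adjunction.homEquiv_counit]
    obtain ⟨u, hu⟩ := Triangle.coyoneda_exact₃ _ hL φ hφδ
    change φ = u ≫ π at hu
    obtain ⟨M, g, hg⟩ := hfin hGn u
    rw [hu, hg, Preadditive.sum_comp]
    refine Finset.sum_eq_zero fun k _ => ?_
    rw [Category.assoc, hπ, ← Category.assoc, hkill, zero_comp]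
  obtain ⟨w, hw⟩ := Triangle.coyoneda_exact₂ _ hL (Sigma.ι X 0) (hL0.eq_of_tgt _ _)
  change X 0 ⟶ ∐ X at w
  change Sigma.ι X 0 = w ≫ (𝟙 (∐ X) - s) at hw
  obtain ⟨M, g, hg⟩ := hfin (hcpt _ hX0) w
  refine ⟨M, ?_⟩
  let col : ∀ m, (∐ X) ⟶ X m := fun m => Nat.rec (Sigma.desc fun k => if h : k = 0 then eqToHom (congrArg X h) else 0)
    (fun m c => Sigma.desc fun k => if h : k = m + 1 then eqToHom (congrArg X h) else Sigma.ι X k ≫ c ≫ f m) m
  have hcol0 : ∀ m, Sigma.ι X 0 ≫ col m = T m := fun m => by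
    induction m with
    | zero => simp [col, hT0]
    | succ m ih =>
      rw [hTs]
      change Sigma.ι X 0 ≫ Sigma.desc _ = T m ≫ f m
      rw [Sigma.ι_desc, dif_neg (by omega), reassoc_of% ih]
  have hcol : ∀ m k, k < m → Sigma.ι X k ≫ col m = f k ≫ Sigma.ι X (k + 1) ≫ col m := fun m => by
    induction m with
    | zero => intro k hk; omega
    | succ m ih =>
      intro k hk
      change Sigma.ι X k ≫ Sigma.desc _ = f k ≫ Sigma.ι X (k + 1) ≫ Sigma.desc _
      rw [Sigma.ι_desc, Sigma.ι_desc, dif_neg (by omega)]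
      by_cases hkm : k = m
      · subst hkm
        rw [dif_pos rfl, eqToHom_refl, Category.comp_id]
        have : Sigma.ι X k ≫ col k = 𝟙 _ := by
          cases k with
          | zero => exact (Sigma.ι_desc _ _).trans (by simp)
          | succ j => exact (Sigma.ι_desc _ _).trans (by simp)
        rw [reassoc_of% this]
      · rw [dif_neg (by omega), reassoc_of% ih k (by omega)]
  have hwz : Sigma.ι X 0 ≫ col M = 0 := by
    rw [hw, hg, Preadditive.sum_comp, Preadditive.sum_comp]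
    refine Finset.sum_eq_zero fun k hk => ?_
    simp only [Category.assoc, Preadditive.sub_comp, Category.id_comp, Preadditive.comp_sub]
    rw [reassoc_of% hιs k, hcol M k (Finset.mem_range.1 hk), sub_self]
  rw [← hcol0 M, hwz]

/-- a compact object in the localizing subcategory of `G` is a retract of a built one -/
theorem exists_retract_built {G : D} (C : ObjectProperty D)
    (hC : ∀ (T : Triangle D), T ∈ distTriang D → C T.obj₂ → C T.obj₃ → C T.obj₁)
    (hCG : ∀ Y, Built G Y → C Y) (hCs : ∀ Y (k : ℤ), C Y → C (Y⟦k⟧)) [∀ Y : D, ∀ n : ℤ, Small.{t} (G⟦n⟧ ⟶ Y)]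
    (S : ObjectProperty D) (hcpt : ∀ Y, C Y → Cpt.{t} S Y) (hSG : ∀ n : ℤ, S (G⟦n⟧)) (hSsum : ∀ {ι : Type t} (X : ι → D), (∀ i, S (X i)) → S (∐ X))
    (hST : ∀ (T : Triangle D), T ∈ distTriang D → S T.obj₁ → S T.obj₂ → S T.obj₃)
    (hSN : ∀ (X : ℕ → D), (∀ i, S (X i)) → S (∐ X))
    (hgen : ∀ L, S L → (∀ (n : ℤ) (φ : G⟦n⟧ ⟶ L), φ = 0) → IsZero L)
    {P : D} (hP : C P) (hPS : S P) :
    ∃ Y, Built G Y ∧ Nonempty (Retract P Y) := by
  classical
  let K : D → Type t := fun Y => Σ n : ULift.{t} ℤ, Shrink.{t} (G⟦n.down⟧ ⟶ Y)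
  let src : D → D := fun Y => ∐ fun k : K Y => G⟦k.1.down⟧
  let ev : ∀ Y, src Y ⟶ Y := fun Y => Sigma.desc fun k => (equivShrink _).symm k.2
  choose nx st dd hst using fun Y : D => distinguished_cocone_triangle (ev Y)
  let X : ℕ → D := fun k => Nat.rec P (fun _ Y => nx Y) k
  let f : ∀ k, X k ⟶ X (k + 1) := fun k => st (X k)
  have hSX : ∀ k, S (X k) := fun k => by
    induction k with
    | zero => exact hPS
    | succ k ih => exact hST _ (hst (X k)) (hSsum _ fun i => hSG _) ih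
  have hkill : ∀ k (n : ℤ) (φ : G⟦n⟧ ⟶ X k), φ ≫ f k = 0 := fun k n φ => by
    have h0 : ev (X k) ≫ f k = 0 := comp_distTriang_mor_zero₁₂ _ (hst (X k))
    have := (Sigma.ι (fun k' : K (X k) => G⟦k'.1.down⟧) ⟨⟨n⟩, equivShrink _ φ⟩) ≫= h0
    simpa [ev] using this
  let T : ∀ k, X 0 ⟶ X k := fun k => Nat.rec (motive := fun m => X 0 ⟶ X m) (𝟙 (X 0)) (fun m g => g ≫ f m) k
  have hbig : ∀ k, ∃ (Z : D) (p : X k ⟶ Z) (d : Z ⟶ (X 0)⟦(1 : ℤ)⟧),
      Triangle.mk (T k) p d ∈ distTriang D ∧ Big.{t} G Z := fun k => by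
    induction k with
    | zero => exact ⟨0, 0, 0, contractible_distinguished (X 0), .zero (isZero_zero D)⟩
    | succ k ih =>
      obtain ⟨Z, p, d, hZ, hB⟩ := ih
      obtain ⟨Z', p', d', hZ'⟩ := distinguished_cocone_triangle (T (k + 1))
      have h2 := rot_of_distTriang _ (hst (X k))
      let oct := Triangulated.someOctahedron (u₁₂ := T k) (u₂₃ := f k) (u₁₃ := T (k + 1)) rfl hZ h2 hZ'
      refine ⟨Z', p', d', hZ', .ext _ oct.mem hB ?_⟩
      exact Big.gen (fun k' : K (X k) => k'.1.down) 1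
  obtain ⟨N, hN⟩ := exists_vanish C hCG hCs S hcpt hSN hST hgen X f hSX hkill T rfl (fun _ => rfl) hP
  obtain ⟨Z, p, d, hZ, hB⟩ := hbig N
  obtain ⟨i₀, hi₀⟩ := Triangle.coyoneda_exact₂ _ (inv_rot_of_distTriang _ hZ) (𝟙 (X 0)) (by
    change 𝟙 (X 0) ≫ T N = 0
    rw [show T N = _ from hN, comp_zero])
  obtain ⟨Y, a, b, hY, hab⟩ := exists_factor (hB.shift (-1)) C hC hCG hCs S hSG hcpt hP i₀
  exact ⟨Y, hY, ⟨⟨a, b ≫ (Triangle.mk (T N) p d).invRotate.mor₁, by rw [reassoc_of% hab]; exact hi₀.symm⟩⟩⟩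

end Groth.L29.Thick
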