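import Groth.Agent.L29.DCoh.Gen.ApproxStep

/-!
Approximation by perfect complexes in the language of supports.
-/

set_option autoImplicit false
set_option backward.defeqAttrib.useBackward true
set_option backward.isDefEq.respectTransparency false
set_option backward.isDefEq.respectTransparency.types false

universe u

open CategoryTheory CategoryTheory.Limits CategoryTheory.Pretriangulated AlgebraicGeometry

attribute [local instance] HasDerivedCategory.standard

namespace Groth.L29.DC.Gen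

open Groth.L00

variable {X : Scheme.{u}}

theorem zAt_iff_support {E : DCoh.D X} {S : Set X} {i : ℤ} :
    ZAt E S i ↔ CohB1.support (DCoh.HD E i) ⊆ Sᶜ :=
  ⟨fun h x hx hxS => (isZero_stalk_iff _ x).1 (h x hxS) hx,
    fun h x hxS => (isZero_stalk_iff _ x).2 fun hx => h hx hxS⟩

/-- approximation in the language of supports -/
def ApproxSupp (Y : Scheme.{u}) : Prop :=
  ∀ (T : Set Y), IsClosed T → IsRetrocompact Tᶜ → ∃ r : ℤ, ∀ (m : ℤ) (E : DCoh.D Y), DCoh.IsQCohD E →
    DCoh.IsPseudoCoherentD (m - r) E → (∀ i : ℤ, m - r ≤ i → CohB1.support (DCoh.HD E i) ⊆ T) →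
    ∃ (P : DCoh.D Y) (α : P ⟶ E), DCoh.IsPerfect P ∧ (∀ i : ℤ, CohB1.support (DCoh.HD P i) ⊆ T) ∧
      (∀ i : ℤ, m < i → IsIso ((DerivedCategory.homologyFunctor _ i).map α)) ∧
      Epi ((DerivedCategory.homologyFunctor _ m).map α)

theorem approxSupp_iff : ApproxSupp X ↔ ApproxHolds X := by
  constructor
  · intro h Ω hΩ
    obtain ⟨r, hr⟩ := h (Ω : Set X)ᶜ Ω.2.isClosed_compl (by simpa using hΩ)
    refine ⟨r, fun m E hE hpc hs => ?_⟩
    obtain ⟨P, α, hP, hPs, h1, h2⟩ := hr m E hE hpc fun i hi => zAt_iff_support.1 (hs i hi)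
    exact ⟨P, α, hP, zOn_iff_support.2 hPs, h1, h2⟩
  · intro h T hT hTc
    obtain ⟨r, hr⟩ := h ⟨Tᶜ, hT.isOpen_compl⟩ hTc
    refine ⟨r, fun m E hE hpc hs => ?_⟩
    obtain ⟨P, α, hP, hPs, h1, h2⟩ := hr m E hE hpc fun i hi => zAt_iff_support.2 (by
      rw [TopologicalSpace.Opens.coe_mk, compl_compl]; exact hs i hi)
    exact ⟨P, α, hP, fun i => by simpa using zOn_iff_support.1 hPs i, h1, h2⟩

end Groth.L29.DC.Gen
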