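import Groth.Agent.L29.DCoh.Gen.RpushTri
import Groth.Agent.L29.DCoh.Gen.QCohTri
import Groth.Agent.L29.DCoh.RpushQC

/-!
Uniform cohomological amplitude of `Rf_*` on `D_QCoh`.
-/

set_option autoImplicit false
set_option backward.defeqAttrib.useBackward true
set_option backward.isDefEq.respectTransparency false
set_option backward.isDefEq.respectTransparency.types false

universe u

open CategoryTheory CategoryTheory.Limits AlgebraicGeometry DerivedCategory

attribute [local instance] HasDerivedCategory.standard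

namespace Groth.L29.DC.Gen

variable {X S : Scheme.{u}} (f : X ⟶ S) [QuasiCompact f] [QuasiSeparated f] [CompactSpace S] [DCoh.HasRpush f]

/-- `Rf_*` has bounded amplitude on `D_QCoh` -/
theorem exists_amp : ∃ N : ℕ, ∀ (E : DCoh.D X), DCoh.IsQCohD E → ∀ m : ℤ, E.IsLE m →
    ((DCoh.Rpush f).obj E).IsLE (m + N) := by
  haveI : HasInjectiveResolutions X.Modules := Groth.L17.PushQCoh.hasInjectiveResolutions X
  letI := commShiftRpush f
  obtain ⟨N, hN⟩ := RpushQC.exists_bound f
  refine ⟨N, fun E hE m hm => ?_⟩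
  let t := DerivedCategory.TStructure.t (C := X.Modules)
  haveI : t.IsLE E m := hm
  have h0 : DerivedCategory.IsLE (E⟦m⟧) 0 := t.isLE_shift E m m 0 (by omega)
  have hF : ((DCoh.Rpush f).obj (E⟦m⟧)).IsLE (N : ℤ) := (DerivedCategory.isLE_iff _ _).2 fun i hi =>
    RpushQC.isZero_HD_Rpush f N hN _ (isQCohD_shift hE m) h0 i (by omega)
  haveI hF' : (DerivedCategory.TStructure.t (C := S.Modules)).IsLE (((DCoh.Rpush f).obj E)⟦m⟧) (N : ℤ) :=
    haveI : (DerivedCategory.TStructure.t (C := S.Modules)).IsLE ((shiftFunctor (DCoh.D X) m ⋙ DCoh.Rpush f).obj E) (N : ℤ) := hF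
    (DerivedCategory.TStructure.t).isLE_of_iso (((DCoh.Rpush f).commShiftIso m).app E) _
  exact (DerivedCategory.TStructure.t (C := S.Modules)).isLE_of_shift _ (m + N) m N (by omega)

end Groth.L29.DC.Gen
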