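import Groth.Agent.L29.DCoh.Gen.Punctured
import Groth.Agent.L29.Dual.ExactHomology

/-!
Orthogonality to the Koszul object in a range of degrees.
-/

set_option autoImplicit false
set_option backward.defeqAttrib.useBackward true
set_option backward.isDefEq.respectTransparency false
set_option backward.isDefEq.respectTransparency.types false

universe u

open CategoryTheory CategoryTheory.Limits CategoryTheory.Pretriangulated AlgebraicGeometry

attribute [local instance] HasDerivedCategory.standard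

namespace Groth.L29.DC.Gen

variable {A : Type u} [CommRing A]

/-- the Koszul object sees only the degrees `[-len, 0]` -/
theorem kObj_hom_zero (l : List A) (F : Dual.D A)
    (h : ∀ i : ℤ, -(l.length : ℤ) ≤ i → i ≤ 0 → IsZero ((Groth.L02.PC.HH i).obj F)) (φ : kObj l ⟶ F) : φ = 0 := by
  obtain ⟨N, hN⟩ := kill_kObj_hom (f := (1 : A)) l F (fun i h1 h2 x => ⟨0, by
    haveI : Subsingleton (Dual.HD A F i) := ModuleCat.subsingleton_of_isZero (h i h1 h2)
    exact Subsingleton.elim _ _⟩) φ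
  rwa [one_pow, one_smul] at hN

theorem kObj_hom_zero_shift (l : List A) (F : Dual.D A) (n : ℤ)
    (h : ∀ i : ℤ, n - (l.length : ℤ) ≤ i → i ≤ n → IsZero ((Groth.L02.PC.HH i).obj F)) (φ : kObj l ⟶ F⟦n⟧) : φ = 0 :=
  kObj_hom_zero l _ (fun i h1 h2 => (h (n + i) (by omega) (by omega)).of_iso
    (Groth.L10.hShiftIso (A := ModuleCat.{u} A) F n i (n + i) rfl)) φ

/-- orthogonality in a range of shifts kills cohomology in that range -/
theorem isZero_H_of_orth {F : Dual.D A} (P : ℤ → Prop) : ∀ (l : List A), (∀ f ∈ l, Tors f F) →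
    (∀ n, P n → ∀ h : kObj l ⟶ F⟦n⟧, h = 0) → ∀ n, P n → IsZero ((Groth.L02.PC.HH n).obj F)
  | [], _, ho, n, hn => by
    let e : kObj ([] : List A) ≅ Dual.inD A A :=
      (((SingleFunctors.evaluation _ _ 0).mapIso
        (DerivedCategory.singleFunctorsPostcompQIso (ModuleCat.{u} A))).app (ModuleCat.of A A)).symm
    haveI : Subsingleton (Dual.HD A F n) := ⟨fun x y => by
      obtain ⟨a, rfl⟩ := (Groth.L29.HomD.evalShiftEquiv (W := F) n).surjective x
      obtain ⟨b, rfl⟩ := (Groth.L29.HomD.evalShiftEquiv (W := F) n).surjective y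
      rw [(cancel_epi e.hom).1 ((ho n hn (e.hom ≫ a)).trans (ho n hn (e.hom ≫ b)).symm)]⟩
    exact ModuleCat.isZero_of_subsingleton _
  | f :: l, hF, ho, n, hn => by
    refine isZero_H_of_orth P l (fun f' hf' => hF f' (List.mem_cons_of_mem _ hf')) (fun m hm h => ?_) n hn
    obtain ⟨N, hN⟩ := exists_kill (isPerfect_kObj l) (tors_shift (hF f List.mem_cons_self) m) h
    obtain ⟨a, -, ha⟩ := exists_bottom f l
    induction N generalizing h with
    | zero => simpa using hN
    | succ N ih =>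
      refine ih h ?_
      obtain ⟨k, hk⟩ := ha (f ^ N • h) (by rw [← mul_smul, ← pow_succ', hN])
      rw [← hk, ho m hm k, comp_zero]

theorem isZero_H_first {E L F : Dual.D A} {g : E ⟶ L} {p : F ⟶ E} {d : L ⟶ F⟦(1 : ℤ)⟧}
    (hT : Triangle.mk p g d ∈ distTriang _) (i : ℤ) [IsIso ((Groth.L02.PC.HH (i - 1)).map g)]
    (hp : (Groth.L02.PC.HH i).map p = 0) : IsZero ((Groth.L02.PC.HH i).obj F) := by
  refine ShortComplex.Exact.isZero_X₂
    ((Groth.L02.PC.HH i).map_distinguished_exact _ (inv_rot_of_distTriang _ hT)) ?_ hp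
  haveI : Epi ((Groth.L02.PC.HH i).map (g⟦(-1 : ℤ)⟧')) := by
    let σ := fun X : Dual.D A => Groth.L10.hShiftIso (A := ModuleCat.{u} A) X (-1) i (i - 1) (by omega)
    have hn : (Groth.L02.PC.HH i).map (g⟦(-1 : ℤ)⟧') = (σ E).hom ≫ (Groth.L02.PC.HH (i - 1)).map g ≫ (σ L).inv := by
      rw [← Category.assoc, Iso.eq_comp_inv]
      exact Groth.L10.hShiftIso_nat (A := ModuleCat.{u} A) g (-1) i (i - 1) (by omega)
    rw [hn]
    infer_instance
  have h0 : g⟦(-1 : ℤ)⟧' ≫ (Triangle.mk p g d).invRotate.mor₁ = 0 := by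
    have hgd : g ≫ d = 0 := comp_distTriang_mor_zero₂₃ _ hT
    simp [Triangle.invRotate, ← Functor.map_comp_assoc, hgd]
  change (Groth.L02.PC.HH i).map (Triangle.mk p g d).invRotate.mor₁ = 0
  exact (cancel_epi ((Groth.L02.PC.HH i).map (g⟦(-1 : ℤ)⟧'))).1
    (((Functor.map_comp _ _ _).symm.trans (congrArg _ h0)).trans ((Functor.map_zero _ _ _).trans comp_zero.symm))

section Map

variable {E L : Dual.D A} (g : E ⟶ L) {F : Dual.D A} {p : F ⟶ E} {d : L ⟶ F⟦(1 : ℤ)⟧}
  (hT : Triangle.mk p g d ∈ distTriang _) (l : List A) (hL : ∀ (n : ℤ) (h : kObj l ⟶ L⟦n⟧), h = 0)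

include hT hL

theorem fac_of_orth_right (n : ℤ) (h : kObj l ⟶ E⟦n⟧) : ∃ h' : kObj l ⟶ F⟦n⟧, h' ≫ p⟦n⟧' = h := by
  have hs := Triangle.shift_distinguished _ hT n
  obtain ⟨h', hh⟩ := Triangle.coyoneda_exact₂ _ hs h (hL n _)
  refine ⟨n.negOnePow • h', ?_⟩
  rw [hh]
  simp [Triangle.shiftFunctor, Linear.units_smul_comp, Linear.comp_units_smul]

theorem orth_cocone {n : ℤ} (ho : ∀ h : kObj l ⟶ E⟦n⟧, h = 0) (h : kObj l ⟶ F⟦n⟧) : h = 0 := by
  have hs := Triangle.shift_distinguished _ hT n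
  obtain ⟨k, hk⟩ := Triangle.coyoneda_exact₂ _ (inv_rot_of_distTriang _ hs) h (ho _)
  have hk0 : k = 0 := by
    let G := shiftFunctor (Dual.D A) (-1 : ℤ)
    let e : L⟦n + -1⟧ ≅ (L⟦n⟧)⟦(-1 : ℤ)⟧ := (shiftFunctorAdd (Dual.D A) n (-1)).app L
    have := hL (n + -1) ((k : kObj l ⟶ (L⟦n⟧)⟦(-1 : ℤ)⟧) ≫ e.inv)
    exact (cancel_mono e.inv).1 (this.trans zero_comp.symm)
  rw [hk, hk0, zero_comp]

variable (hF : ∀ f ∈ l, Tors f F)
include hF

theorem isIso_of_orth (P : ℤ → Prop) (ho : ∀ n, P n → ∀ h : kObj l ⟶ E⟦n⟧, h = 0) (i : ℤ) (hi : P i) (hi' : P (i + 1)) :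
    IsIso ((Groth.L02.PC.HH i).map g) := by
  have hz := isZero_H_of_orth P l hF (fun n hn h => orth_cocone g hT l hL (ho n hn) h)
  refine Groth.L10.isIso_H_mor₂ (A := ModuleCat.{u} A) (Triangle.mk p g d) hT i (hz i hi) (hz (i + 1) hi')

omit hF

theorem orth_of_isIso_le (a : ℤ) (hg : ∀ i, i ≤ a → IsIso ((Groth.L02.PC.HH i).map g)) (n : ℤ) (hn : n ≤ a)
    (h : kObj l ⟶ E⟦n⟧) : h = 0 := by
  have hz : ∀ i, i ≤ a → IsZero ((Groth.L02.PC.HH i).obj F) := fun i hi => by
    haveI := hg i hi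
    haveI : IsIso ((Groth.L02.PC.HH (i - 1)).map g) := hg (i - 1) (by omega)
    refine isZero_H_first hT i ?_
    rw [← cancel_mono ((Groth.L02.PC.HH i).map g), ← Functor.map_comp, zero_comp,
      show p ≫ g = 0 from comp_distTriang_mor_zero₁₂ _ hT, Functor.map_zero]
  obtain ⟨h', rfl⟩ := fac_of_orth_right g hT l hL n h
  rw [kObj_hom_zero_shift l F n (fun i _ hi => hz i (by omega)) h', zero_comp]

theorem orth_of_isIso_ge (a : ℤ) (hg : ∀ i, a ≤ i → IsIso ((Groth.L02.PC.HH i).map g)) (n : ℤ)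
    (hn : a + (l.length : ℤ) ≤ n) (h : kObj l ⟶ E⟦n⟧) : h = 0 := by
  let tA := DerivedCategory.TStructure.t (C := ModuleCat.{u} A)
  have hp : ∀ i, a ≤ i → (Groth.L02.PC.HH i).map p = 0 := fun i hi => by
    haveI := hg i hi
    rw [← cancel_mono ((Groth.L02.PC.HH i).map g), ← Functor.map_comp, zero_comp,
      show p ≫ g = 0 from comp_distTriang_mor_zero₁₂ _ hT, Functor.map_zero]
  have hz : ∀ i, a < i → IsZero ((Groth.L02.PC.HH i).obj F) := fun i hi => by
    haveI : IsIso ((Groth.L02.PC.HH (i - 1)).map g) := hg (i - 1) (by omega)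
    exact isZero_H_first hT i (hp i hi.le)
  haveI : F.IsLE a := (DerivedCategory.isLE_iff F a).2 hz
  haveI : ((tA.truncGE a).obj E).IsGE a := inferInstance
  have h0 : p ≫ (tA.truncGEπ a).app E = 0 :=
    Groth.L10.eq_zero_of_H_eq_zero (A := ModuleCat.{u} A) a _ (by rw [Functor.map_comp, hp a le_rfl, zero_comp])
  obtain ⟨q, hq⟩ := Triangle.coyoneda_exact₂ _ (tA.triangleLTGE_distinguished a E) p h0
  change F ⟶ (tA.truncLT a).obj E at q
  change p = q ≫ (tA.truncLTι a).app E at hq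
  obtain ⟨h', rfl⟩ := fac_of_orth_right g hT l hL n h
  rw [hq, Functor.map_comp, ← Category.assoc, kObj_hom_zero_shift l _ n
    (fun i h1 _ => Groth.L10.isZero_H_LT (A := ModuleCat.{u} A) a i (by omega) E) (h' ≫ q⟦n⟧'), zero_comp]

end Map

section Trunc

variable {C : Type*} [Category C] [Abelian C] [HasDerivedCategory C] {X Y : DerivedCategory C} (η : X ⟶ Y)

local notation "tt" => DerivedCategory.TStructure.t

theorem isIso_truncLE_map_iff (b : ℤ) :
    IsIso (((tt).truncLE b).map η) ↔ ∀ i, i ≤ b → IsIso ((DerivedCategory.homologyFunctor C i).map η) := by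
  let H := DerivedCategory.homologyFunctor C
  let N := ((tt).truncLTι (b + 1) : (tt).truncLT (b + 1) ⟶ 𝟭 (DerivedCategory C))
  have hn : ∀ i, (H i).map (((tt).truncLE b).map η) ≫ (H i).map (N.app Y) = (H i).map (N.app X) ≫ (H i).map η := fun i => by
    rw [← Functor.map_comp, ← Functor.map_comp]
    exact congrArg (H i).map (N.naturality η)
  constructor
  · intro h i hi
    haveI := Groth.L10.isIso_H_ι (b + 1) i (by omega) X
    haveI := Groth.L10.isIso_H_ι (b + 1) i (by omega) Y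
    haveI : IsIso ((H i).map (N.app X) ≫ (H i).map η) := by rw [← hn i]; infer_instance
    exact IsIso.of_isIso_comp_left ((H i).map (N.app X)) _
  · intro h
    refine (DerivedCategory.isIso_iff C _).2 fun i => ?_
    by_cases hi : i ≤ b
    · haveI := Groth.L10.isIso_H_ι (b + 1) i (by omega) X
      haveI := Groth.L10.isIso_H_ι (b + 1) i (by omega) Y
      haveI := h i hi
      haveI : IsIso ((H i).map (((tt).truncLE b).map η) ≫ (H i).map (N.app Y)) := by rw [hn i]; infer_instance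
      exact IsIso.of_isIso_comp_right _ ((H i).map (N.app Y))
    · exact isIso_of_source_target_iso_zero _ (Groth.L10.isZero_H_LT (b + 1) i (by omega) X).isoZero
        (Groth.L10.isZero_H_LT (b + 1) i (by omega) Y).isoZero

theorem isIso_truncGE_map_iff (b : ℤ) :
    IsIso (((tt).truncGE b).map η) ↔ ∀ i, b ≤ i → IsIso ((DerivedCategory.homologyFunctor C i).map η) := by
  let H := DerivedCategory.homologyFunctor C
  let N := ((tt).truncGEπ b : 𝟭 (DerivedCategory C) ⟶ (tt).truncGE b)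
  have hn : ∀ i, (H i).map η ≫ (H i).map (N.app Y) = (H i).map (N.app X) ≫ (H i).map (((tt).truncGE b).map η) := fun i => by
    rw [← Functor.map_comp, ← Functor.map_comp]
    exact congrArg (H i).map (N.naturality η)
  constructor
  · intro h i hi
    haveI := Groth.L10.isIso_H_π b i hi X
    haveI := Groth.L10.isIso_H_π b i hi Y
    haveI : IsIso ((H i).map η ≫ (H i).map (N.app Y)) := by rw [hn i]; infer_instance
    exact IsIso.of_isIso_comp_right _ ((H i).map (N.app Y))
  · intro h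
    refine (DerivedCategory.isIso_iff C _).2 fun i => ?_
    by_cases hi : b ≤ i
    · haveI := Groth.L10.isIso_H_π b i hi X
      haveI := Groth.L10.isIso_H_π b i hi Y
      haveI := h i hi
      haveI : IsIso ((H i).map (N.app X) ≫ (H i).map (((tt).truncGE b).map η)) := by rw [← hn i]; infer_instance
      exact IsIso.of_isIso_comp_left ((H i).map (N.app X)) _
    · exact isIso_of_source_target_iso_zero _ (Groth.L10.isZero_H_GE b i (by omega) X).isoZero
        (Groth.L10.isZero_H_GE b i (by omega) Y).isoZero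

end Trunc

section Scheme

variable (fs : List A) [PreservesFiniteLimits (tilde.functor (CommRingCat.of A))]

/-- the algebraic model of the unit `E ⟶ Rj_* j^* E` -/
theorem exists_model [DCoh.HasRpush (Wp fs).ι]
    (ad : DCoh.restrictD (Wp fs).ι ⊣ DCoh.Rpush (Wp fs).ι) {E : DCoh.D (Spec (CommRingCat.of A))}
    (hE : DCoh.IsQCohD E) :
    ∃ (E₀ L₀ F₀ : Dual.D A) (p : F₀ ⟶ E₀) (g : E₀ ⟶ L₀) (d : L₀ ⟶ F₀⟦(1 : ℤ)⟧),
      Triangle.mk p g d ∈ distTriang _ ∧ (∀ f ∈ fs, Tors f F₀) ∧ (∀ (n : ℤ) (h : kObj fs ⟶ L₀⟦n⟧), h = 0) ∧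
      (∀ n : ℤ, (∀ φ : ((DCoh.tildeD (CommRingCat.of A)).obj (kObj fs))⟦-n⟧ ⟶ E, φ = 0) ↔
        ∀ h : kObj fs ⟶ E₀⟦n⟧, h = 0) ∧
      ∀ i : ℤ, IsIso ((DerivedCategory.homologyFunctor _ i).map (ad.unit.app E)) ↔
        IsIso ((Groth.L02.PC.HH i).map g) := by
  let R : CommRingCat.{u} := CommRingCat.of A
  haveI := (TildeD.fullyFaithful (R := R)).1
  haveI := (TildeD.fullyFaithful (R := R)).2
  haveI := (tilde.adjunction (R := R)).leftAdjoint_preservesColimits
  haveI : PreservesFiniteColimits (tilde.functor R) := PreservesColimitsOfSize.preservesFiniteColimits.{0, 0} _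
  haveI : (tilde.functor R).Additive := tilde.adjunction.left_adjoint_additive
  haveI : (tilde.functor R).Faithful := tilde.fullyFaithfulFunctor.faithful
  haveI : (tilde.functor R).Full := tilde.fullyFaithfulFunctor.full
  let T := DCoh.tildeD R
  let U := Wp fs
  have hR : (DCoh.Rpush U.ι).Full ∧ (DCoh.Rpush U.ι).Faithful :=
    ⟨full_push (X := Spec R) U, faithful_push (X := Spec R) U⟩
  haveI := hR.1
  haveI := hR.2
  haveI : IsIso ad.counit := ad.counit_isIso_of_R_fully_faithful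
  haveI hc : CompactSpace (U : Scheme.{u}) := isCompact_iff_compactSpace.1 (isCompact_Wp fs)
  haveI : QuasiCompact U.ι := inferInstance
  obtain ⟨E₀, ⟨eE⟩⟩ := (TildeD.isQCohD_iff E).1 hE
  obtain ⟨L₀, ⟨eL⟩⟩ := (TildeD.isQCohD_iff _).1 (RpushQC.isQCohD_Rpush U.ι _ (isQCohD_restrictD U.ι hE))
  let g : E₀ ⟶ L₀ := T.preimage (eE.hom ≫ ad.unit.app E ≫ eL.inv)
  have hg : T.map g = eE.hom ≫ ad.unit.app E ≫ eL.inv := T.map_preimage _
  obtain ⟨F₀, p, d, hT⟩ := distinguished_cocone_triangle₁ g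
  haveI : IsIso ((res U).map (ad.unit.app E)) :=
    IsIso.of_isIso_fac_right (hh := IsIso.id _) (ad.left_triangle_components E)
  haveI hgU : IsIso ((res U).map (T.map g)) := by
    rw [hg, Functor.map_comp, Functor.map_comp]; infer_instance
  have hF : ∀ f ∈ fs, Tors f F₀ := (isZero_res_punctured fs F₀).1
    ((Triangle.isZero₁_iff_isIso₂ _ ((T ⋙ res U).map_distinguished _ hT)).2 hgU)
  let K := T.obj (kObj fs)
  have hK : IsZero ((res U).obj K) := (isZero_res_punctured fs _).2 fun f hf => tors_of_kill (kill_kObj fs f hf)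
  refine ⟨E₀, L₀, F₀, p, g, d, hT, hF, fun n h => T.map_injective ?_, fun n => ⟨fun ho h => T.map_injective ?_, fun ho φ => ?_⟩,
    fun i => ?_⟩
  · have hz : ∀ φ : K⟦-n⟧ ⟶ (DCoh.Rpush U.ι).obj ((DCoh.restrictD U.ι).obj E), φ = 0 := fun φ =>
      (ad.homEquiv _ _).symm.injective
        ((((shiftFunctor _ (-n)).map_isZero hK).of_iso (((res U).commShiftIso (-n)).app K)).eq_of_src _ _)
    rw [Functor.map_zero]
    exact (transfer_zero (K := K) eL n).1 hz _
  · rw [Functor.map_zero]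
    exact (transfer_zero (K := K) eE n).1 ho _
  · exact (transfer_zero (K := K) eE n).2 (fun ψ => by rw [← T.map_preimage ψ, ho (T.preimage ψ), Functor.map_zero]) φ
  · let H := DerivedCategory.homologyFunctor (Spec R).Modules i
    have h1 : IsIso (H.map (T.map g)) ↔ IsIso (H.map (ad.unit.app E)) := by
      rw [hg, Functor.map_comp, Functor.map_comp]
      exact (isIso_comp_left_iff _ _).trans (isIso_comp_right_iff _ _)
    refine h1.symm.trans ((NatIso.isIso_map_iff (Groth.L29.ExactHomology.hIso (tilde.functor R) i) g).trans ?_)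
    exact ⟨fun h => @isIso_of_reflects_iso _ _ _ _ _ _ ((Groth.L02.PC.HH i).map g) (tilde.functor R) h _,
      fun h => @Functor.map_isIso _ _ _ _ _ _ (tilde.functor R) _ h⟩
where
  isCompact_Wp (fs : List A) : IsCompact ((Wp fs : (Spec (CommRingCat.of A)).Opens) : Set (Spec (CommRingCat.of A))) := by
    classical
    have hW : (Wp fs : Set (Spec (CommRingCat.of A))) =
        ⋃ f ∈ fs.toFinset, (bo (R := CommRingCat.of A) f : Set (Spec (CommRingCat.of A))) := by
      ext x
      simp only [Set.mem_iUnion, List.mem_toFinset, SetLike.mem_coe]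
      exact ⟨fun hx => let ⟨f, hf, h⟩ := exists_mem_bo fs hx; ⟨f, hf, h⟩, fun ⟨f, hf, h⟩ => bo_le fs hf h⟩
    rw [hW]
    exact fs.toFinset.finite_toSet.isCompact_biUnion fun f _ => PrimeSpectrum.isCompact_basicOpen f
  transfer_zero {K : DCoh.D (Spec (CommRingCat.of A))} {M : Dual.D A} {E : DCoh.D (Spec (CommRingCat.of A))}
      (e : (DCoh.tildeD (CommRingCat.of A)).obj M ≅ E) (n : ℤ) :
      (∀ φ : K⟦-n⟧ ⟶ E, φ = 0) ↔ ∀ ψ : K ⟶ (DCoh.tildeD (CommRingCat.of A)).obj (M⟦n⟧), ψ = 0 := by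
    let T := DCoh.tildeD (CommRingCat.of A)
    let c : T.obj (M⟦n⟧) ≅ E⟦n⟧ := (T.commShiftIso n).app M ≪≫ (shiftFunctor _ n).mapIso e
    let q := shiftEquiv' (DCoh.D (Spec (CommRingCat.of A))) (-n) n (by omega)
    constructor
    · intro h ψ
      rw [← cancel_mono c.hom, zero_comp]
      exact (q.toAdjunction.homEquiv _ _).symm.injective ((h _).trans (h _).symm)
    · intro h φ
      apply (q.toAdjunction.homEquiv _ _).injective
      exact (cancel_mono c.inv).1 ((h _).trans (h _).symm)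

end Scheme

end Groth.L29.DC.Gen
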