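import Groth.Agent.L29.DCoh.Gen.ApproxMain
import Groth.Agent.L29.DCoh.Gen.KoszulRange
import Groth.Agent.L29.DCoh.RpushCoprod
import Groth.Agent.S1034
import Mathlib.CategoryTheory.Limits.Constructions.EventuallyConstant

/-!
Pseudo-coherent objects are homotopy colimits of perfect objects approximating them.
-/

set_option autoImplicit false
set_option backward.defeqAttrib.useBackward true
set_option backward.isDefEq.respectTransparency false
set_option backward.isDefEq.respectTransparency.types false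

universe u

open CategoryTheory CategoryTheory.Limits CategoryTheory.Pretriangulated AlgebraicGeometry

attribute [local instance] HasDerivedCategory.standard

namespace Groth.L29.DC.Gen

open Groth.L00

variable {X : Scheme.{u}}

local notation "H" => DerivedCategory.homologyFunctor X.Modules

theorem preservesCoproductsNat_H (j : ℤ) : PreservesColimitsOfShape (Discrete ℕ) (H j) := by
  haveI : PreservesColimitsOfShape (Discrete (ULift.{u} ℕ)) (H j) := by
    refine ⟨fun {F} => ?_⟩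
    haveI : PreservesColimit (Discrete.functor (F.obj ∘ Discrete.mk)) (H j) := ⟨fun {c} hc => by
      obtain ⟨h⟩ := RpushColim.isColimit_H_cofan (F.obj ∘ Discrete.mk) c hc j
      exact ⟨((isColimitMapCoconeCofanMkEquiv (H j) _ (Cofan.inj c)).symm h).ofIsoColimit
        (Cocone.ext (Iso.refl _) fun x => by simp [Cofan.inj])⟩⟩
    exact preservesColimit_of_iso_diagram _ Discrete.natIsoFunctor.symm
  exact preservesColimitsOfShape_of_equiv (Discrete.equivalence Equiv.ulift) (H j)

/-- a cone of `1 - shift` receives any compatible family -/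
theorem exists_hocolim_map {E : ℕ → DCoh.D X} {f : ∀ n, E n ⟶ E (n + 1)} {K : DCoh.D X} {i : ∀ n, E n ⟶ K}
    [HasCoproduct E] (hi : ∀ n, f n ≫ i (n + 1) = i n) :
    ∃ (L : DCoh.D X) (l : ∀ n, E n ⟶ L) (φ : L ⟶ K), DerLim.IsHocolim E f L l ∧ ∀ n, l n ≫ φ = i n := by
  obtain ⟨L, g, c, hT⟩ := distinguished_cocone_triangle (𝟙 (∐ E) - DerLim.shiftMap E f)
  have hg : Sigma.desc (fun n => Sigma.ι E n ≫ g) = g := Sigma.hom_ext _ _ fun n => by simp
  obtain ⟨φ, hφ⟩ := Triangle.yoneda_exact₂ _ hT (Sigma.desc i) (Sigma.hom_ext _ _ fun n => by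
    simp [DerLim.shiftMap, Preadditive.comp_sub, Preadditive.sub_comp, hi n])
  refine ⟨L, fun n => Sigma.ι E n ≫ g, φ, ⟨c, ?_⟩, fun n => ?_⟩
  · rw [hg]; exact hT
  · have h1 : Sigma.ι E n ≫ Sigma.desc i = Sigma.ι E n ≫ g ≫ φ := congrArg (Sigma.ι E n ≫ ·) hφ
    rw [Sigma.ι_desc] at h1
    rw [Category.assoc]
    exact h1.symm

/-- a family of approximations with increasing precision has the approximated object as hocolim -/
theorem isHocolim_of_approx [HasColimitsOfShape (Discrete ℕ) (DCoh.D X)] {E : ℕ → DCoh.D X}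
    {f : ∀ n, E n ⟶ E (n + 1)} {K : DCoh.D X} {i : ∀ n, E n ⟶ K} (hi : ∀ n, f n ≫ i (n + 1) = i n)
    (hiso : ∀ (n : ℕ) (j : ℤ), -(n : ℤ) ≤ j → IsIso ((H j).map (i n))) :
    DerLim.IsHocolim E f K i := by
  obtain ⟨L, l, φ, ⟨c, hT⟩, hl⟩ := exists_hocolim_map hi
  have hφ : IsIso φ := (DerivedCategory.isIso_iff _ φ).2 fun j => by
    haveI := preservesCoproductsNat_H (X := X) j
    haveI : HasColimitsOfShape ℕ X.Modules := inferInstance
    obtain ⟨e, he⟩ := Groth.Agent.S1034.result (H j) E f L l ⟨c, hT⟩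
    let F : ℕ ⥤ X.Modules := Functor.ofSequence (fun n => (H j).map (f n))
    have hnat : ∀ (a k : ℕ), F.map (homOfLE (Nat.le_add_right a k)) ≫ (H j).map (i (a + k)) = (H j).map (i a) := by
      intro a k
      induction k with
      | zero => simp [F]
      | succ k ih =>
        rw [← homOfLE_comp (Nat.le_add_right a k) (Nat.le_succ (a + k)), Functor.map_comp, Category.assoc]
        have h2 : F.map (homOfLE (Nat.le_succ (a + k))) = (H j).map (f (a + k)) :=
          Functor.ofSequence_map_homOfLE_succ _ _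
        rw [h2]
        erw [← Functor.map_comp, hi (a + k)]
        exact ih
    have hc : F.IsEventuallyConstantFrom (-j).toNat := fun b g => by
      obtain ⟨k, rfl⟩ := Nat.exists_eq_add_of_le (leOfHom g)
      haveI := hiso (-j).toNat j (by omega)
      haveI := hiso ((-j).toNat + k) j (by omega)
      rw [show g = homOfLE (Nat.le_add_right _ k) from Subsingleton.elim _ _]
      haveI : IsIso (F.map (homOfLE (Nat.le_add_right (-j).toNat k)) ≫ (H j).map (i ((-j).toNat + k))) := by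
        rw [hnat]; infer_instance
      exact IsIso.of_isIso_comp_right _ ((H j).map (i ((-j).toNat + k)))
    haveI : IsIso (colimit.ι F (-j).toNat) := hc.isIso_ι_of_isColimit (colimit.isColimit F)
    haveI : IsIso ((H j).map (l (-j).toNat)) := by
      rw [← he (-j).toNat]
      change IsIso (colimit.ι F (-j).toNat ≫ e.hom)
      infer_instance
    haveI := hiso (-j).toNat j (by omega)
    haveI : IsIso ((H j).map (l (-j).toNat) ≫ (H j).map φ) := by
      rw [← Functor.map_comp, hl]; infer_instance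
    exact IsIso.of_isIso_comp_left ((H j).map (l (-j).toNat)) _
  refine ⟨inv φ ≫ c, isomorphic_distinguished _ hT _ ?_⟩
  refine Triangle.isoMk _ _ (Iso.refl _) (Iso.refl _) (asIso φ).symm ?_ ?_ ?_
  · simp
  · refine Sigma.hom_ext _ _ fun n => ?_
    simp [← hl n]
  · simp

theorem pc_of_hocolim {E : ℕ → DCoh.D X} {K : DCoh.D X} (i : ∀ n, E n ⟶ K) (hE : ∀ n, DCoh.IsPerfect (E n))
    (hiso : ∀ (n : ℕ) (j : ℤ), -(n : ℤ) ≤ j → IsIso ((H j).map (i n))) (m : ℤ) :
    DCoh.IsPseudoCoherentD m K := by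
  obtain ⟨C, g, d, hT⟩ := distinguished_cocone_triangle (i (-m).toNat)
  have ha : Approx (i (-m).toNat) m := ⟨fun j hj => hiso _ j (by omega), by
    haveI := hiso (-m).toNat m (by omega); infer_instance⟩
  haveI : DerivedCategory.IsLE C (m - 1) := (approx_iff_triangle _ hT m).1 ha
  exact (pc_two_out_of_three hT m).2.1 (pc_of_perfect (hE _) m)
    (pc_of_isZero fun j hj => DerivedCategory.isZero_of_isLE C (m - 1) j (by omega))

/-- a system of perfect approximations supported away from `Ω` -/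
theorem exists_system [CompactSpace X] [QuasiSeparatedSpace X] {Ω : X.Opens} (hΩ : IsRetrocompact (Ω : Set X))
    {K : DCoh.D X} (hK : ∀ m, DCoh.IsPseudoCoherentD m K) (hKΩ : ZOn K Ω) :
    ∃ (E : ℕ → DCoh.D X) (f : ∀ n, E n ⟶ E (n + 1)) (i : ∀ n, E n ⟶ K),
      (∀ n, DCoh.IsPerfect (E n)) ∧ (∀ n, ZOn (E n) Ω) ∧ (∀ n, f n ≫ i (n + 1) = i n) ∧
      ∀ (n : ℕ) (j : ℤ), -(n : ℤ) ≤ j → IsIso ((H j).map (i n)) := by
  classical
  have hq := PCQCoh.isQCohD_of_pc hK
  obtain ⟨r, hr⟩ := approxHolds X Ω hΩ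
  have hex : ∀ m : ℤ, ∃ (P : DCoh.D X) (α : P ⟶ K), DCoh.IsPerfect P ∧ ZOn P Ω ∧ Approx α m := fun m =>
    hr m K hq (hK _) fun i _ => hKΩ i
  choose P α hP hPΩ hα using hex
  have hvan : ∀ m : ℤ, ∃ N : ℤ, ∀ F : DCoh.D X, DCoh.IsQCohD F → F.IsLE N → ∀ φ : P m ⟶ F, φ = 0 := fun m => by
    obtain ⟨a, b, ha, -, -⟩ := Cpt.exists_range (hP m)
    exact ⟨a, ha⟩
  choose N hN using hvan
  let μ : ℕ → ℤ := fun n => Nat.rec (-1) (fun k x => min (-((k : ℤ) + 1) - 1) (min x (N x))) n
  have hμ : ∀ n : ℕ, μ n < -(n : ℤ) := fun n => by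
    cases n with
    | zero => simp [μ]
    | succ k =>
      have : μ (k + 1) ≤ -((k : ℤ) + 1) - 1 := min_le_left _ _
      omega
  have hstep : ∀ n : ℕ, ∃ f : P (μ n) ⟶ P (μ (n + 1)), f ≫ α (μ (n + 1)) = α (μ n) := fun n => by
    obtain ⟨C, g, d, hT⟩ := distinguished_cocone_triangle (α (μ (n + 1)))
    have h1 : μ (n + 1) ≤ N (μ n) := by simp [μ]
    haveI := (approx_iff_triangle _ hT _).1 (hα (μ (n + 1)))
    haveI : DerivedCategory.IsLE C (μ (n + 1) - 1) := by assumption
    have hg : α (μ n) ≫ g = 0 := hN (μ n) C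
      (isQCohD_third _ hT (PCQCoh.isQCohD_of_perfect (hP _)) hq)
      (DerivedCategory.TStructure.t.isLE_of_le C (μ (n + 1) - 1) (N (μ n)) (by omega)) _
    obtain ⟨f, hf⟩ := Triangle.coyoneda_exact₂ _ hT (α (μ n)) hg
    exact ⟨f, hf.symm⟩
  choose f hf using hstep
  exact ⟨fun n => P (μ n), f, fun n => α (μ n), fun n => hP _, fun n => hPΩ _, hf,
    fun n j hj => (hα (μ n)).1 j (lt_of_lt_of_le (hμ n) hj)⟩

end Groth.L29.DC.Gen
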