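import Groth.Agent.L29.DCoh.Gen.Free
import Groth.Agent.L29.DCoh.Gen.Supp
import Groth.Agent.L29.DCoh.Cpt.Range

/-!
Perfect complexes on a quasi-compact open of an affine scheme: roofs and extension of `E ⊞ E⟦1⟧`.
-/

set_option autoImplicit false
set_option backward.defeqAttrib.useBackward true
set_option backward.isDefEq.respectTransparency false
set_option backward.isDefEq.respectTransparency.types false

universe u

open CategoryTheory CategoryTheory.Limits CategoryTheory.Pretriangulated AlgebraicGeometry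

attribute [local instance] HasDerivedCategory.standard

namespace Groth.L29.DC.Gen

section Idem

variable {C : Type*} [Category C] [Preadditive C] [HasZeroObject C] [HasShift C ℤ]
  [∀ n : ℤ, (shiftFunctor C n).Additive] [Pretriangulated C] [HasBinaryBiproducts C]

/-- the cone of the complementary idempotent of a retract -/
theorem nonempty_cone_idem {E X Z : C} (r : Retract E X) {α : X ⟶ X} (hα : α = 𝟙 X - r.r ≫ r.i)
    {a : X ⟶ Z} {d : Z ⟶ X⟦(1 : ℤ)⟧} (hT : Triangle.mk α a d ∈ distTriang _) :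
    Nonempty (Z ≅ E ⊞ E⟦(1 : ℤ)⟧) := by
  have hα1 : α ≫ r.r = 0 := by rw [hα]; simp [Preadditive.sub_comp]
  have hα2 : r.i ≫ α = 0 := by rw [hα]; simp [Preadditive.comp_sub]
  obtain ⟨u, hu⟩ := Triangle.yoneda_exact₂ _ hT r.r hα1
  change Z ⟶ E at u
  change r.r = a ≫ u at hu
  have h1 : α⟦(1 : ℤ)⟧' = 𝟙 _ - r.r⟦(1 : ℤ)⟧' ≫ r.i⟦(1 : ℤ)⟧' := by
    rw [hα, Functor.map_sub, CategoryTheory.Functor.map_id, Functor.map_comp]
  obtain ⟨w₀, hw₀⟩ := Triangle.coyoneda_exact₁ _ hT (r.i⟦(1 : ℤ)⟧') (by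
    change r.i⟦(1 : ℤ)⟧' ≫ α⟦(1 : ℤ)⟧' = 0
    rw [← Functor.map_comp, hα2, Functor.map_zero])
  change E⟦(1 : ℤ)⟧ ⟶ Z at w₀
  change r.i⟦(1 : ℤ)⟧' = w₀ ≫ d at hw₀
  have had : a ≫ d = 0 := comp_distTriang_mor_zero₂₃ _ hT
  have hαa : α ≫ a = 0 := comp_distTriang_mor_zero₁₂ _ hT
  let w := w₀ - w₀ ≫ u ≫ r.i ≫ a
  have hiau : r.i ≫ a ≫ u = 𝟙 E := by rw [← hu, r.retract]
  have hwu : w ≫ u = 0 := by
    simp only [w, Preadditive.sub_comp, Category.assoc, hiau, Category.comp_id, sub_self]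
  have hwd : w ≫ d = r.i⟦(1 : ℤ)⟧' := by
    simp only [w, Preadditive.sub_comp, Category.assoc, had, comp_zero, sub_zero, ← hw₀]
  have hri : r.i⟦(1 : ℤ)⟧' ≫ r.r⟦(1 : ℤ)⟧' = 𝟙 _ := by
    rw [← Functor.map_comp, r.retract, CategoryTheory.Functor.map_id]
  refine ⟨⟨biprod.lift u (d ≫ r.r⟦(1 : ℤ)⟧'), biprod.desc (r.i ≫ a) w, ?_, ?_⟩⟩
  · rw [biprod.lift_desc, Category.assoc]
    let Δ := 𝟙 Z - (u ≫ r.i ≫ a + d ≫ r.r⟦(1 : ℤ)⟧' ≫ w)
    have hΔu : Δ ≫ u = 0 := by
      simp only [Δ, Preadditive.sub_comp, Preadditive.add_comp, Category.assoc, hwu, hiau, comp_zero,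
        Category.comp_id, Category.id_comp, add_zero, sub_self]
    have hΔd : Δ ≫ d = 0 := by
      have h3 : d ≫ α⟦(1 : ℤ)⟧' = 0 := comp_distTriang_mor_zero₃₁ _ hT
      rw [h1, Preadditive.comp_sub, Category.comp_id] at h3
      simp only [Δ, Preadditive.sub_comp, Preadditive.add_comp, Category.assoc, had, hwd, comp_zero,
        Category.id_comp, zero_add]
      exact h3
    obtain ⟨x, hx⟩ := Triangle.coyoneda_exact₃ _ hT Δ hΔd
    change Z ⟶ X at x
    change Δ = x ≫ a at hx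
    have hxr : x ≫ r.r = 0 := by rw [hu, ← Category.assoc, ← hx, hΔu]
    have : Δ = 0 := by
      have hx' : x = x ≫ α := by rw [hα]; simp [Preadditive.comp_sub, reassoc_of% hxr]
      rw [hx, hx', Category.assoc, hαa, comp_zero]
    exact (sub_eq_zero.1 this).symm
  · refine biprod.hom_ext' _ _ (biprod.hom_ext _ _ ?_ ?_) (biprod.hom_ext _ _ ?_ ?_)
    · simpa using hiau
    · simp [reassoc_of% had]
    · simpa using hwu
    · simp [reassoc_of% hwd, hri]

end Idem

open Groth.L10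

variable {R : CommRingCat.{u}} [PreservesFiniteLimits (tilde.functor R)] {W : Scheme.{u}} (k : W ⟶ Spec R)
  [IsOpenImmersion k]

/-- tilde, restricted along an open immersion -/
noncomputable abbrev tres : Dual.D R ⥤ DCoh.D W := DCoh.tildeD R ⋙ DCoh.restrictD k

theorem isQCohD_tres (K : Dual.D R) : DCoh.IsQCohD ((tres k).obj K) :=
  isQCohD_restrictD k (isQCohD_tildeD K)

theorem exists_elements [CompactSpace W] :
    ∃ l : List R, (∀ f ∈ l, bo f ≤ k.opensRange) ∧ ∀ x ∈ k.opensRange, ∃ f ∈ l, x ∈ bo f := by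
  have hc : IsCompact (k.opensRange : Set (Spec R)) := isCompact_range k.continuous
  let ι := {f : R // bo f ≤ k.opensRange}
  obtain ⟨t, ht⟩ := hc.elim_finite_subcover (fun f : ι => (bo f.1 : Set (Spec R))) (fun f => (bo f.1).2) fun x hx => by
    obtain ⟨_, ⟨_, ⟨f, rfl⟩, rfl⟩, hxf, hsub⟩ := PrimeSpectrum.isBasis_basic_opens.exists_subset_of_mem_open hx k.opensRange.2
    exact Set.mem_iUnion.2 ⟨⟨f, fun y hy => hsub hy⟩, hxf⟩
  refine ⟨t.toList.map Subtype.val, fun f hf => ?_, fun x hx => ?_⟩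
  · obtain ⟨g, -, rfl⟩ := List.mem_map.1 hf
    exact g.2
  · obtain ⟨g, hg, hxg⟩ := Set.mem_iUnion₂.1 (ht hx)
    exact ⟨g.1, List.mem_map.2 ⟨g, Finset.mem_toList.2 hg, rfl⟩, hxg⟩

theorem isZero_tres_iff (l : List R) (hle : ∀ f ∈ l, bo f ≤ k.opensRange)
    (hcov : ∀ x ∈ k.opensRange, ∃ f ∈ l, x ∈ bo f) (F : Dual.D R) :
    IsZero ((tres k).obj F) ↔ ∀ f ∈ l, Tors f F := by
  constructor
  · intro h f hf
    rw [tors_iff]
    let g : ((bo f : (Spec R).Opens) : Scheme.{u}) ⟶ W := IsOpenImmersion.lift k (bo f).ι (by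
      rintro _ ⟨y, rfl⟩
      exact hle f hf y.2)
    haveI : IsOpenImmersion g := IsOpenImmersion.of_comp g k
    exact ((DCoh.restrictD g).map_isZero h).of_iso
      ((resTransD k g (bo f).ι (IsOpenImmersion.lift_fac _ _ _)).app _).symm
  · intro h
    refine isZero_of_cover fun y => ?_
    obtain ⟨f, hf, hy⟩ := hcov (k y) ⟨y, rfl⟩
    refine ⟨k ⁻¹ᵁ bo f, hy, ?_⟩
    exact ((DCoh.restrictD (k ∣_ bo f)).map_isZero ((tors_iff f F).1 (h f hf))).of_iso
      ((resTransD k (k ⁻¹ᵁ bo f).ι ((k ⁻¹ᵁ bo f).ι ≫ k) rfl).app _ ≪≫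
        ((resTransD (bo f).ι (k ∣_ bo f) ((k ⁻¹ᵁ bo f).ι ≫ k) (morphismRestrict_ι k (bo f))).app _).symm)

/-- roofs -/
theorem exists_roof_tres [CompactSpace W] {G G' : Dual.D R} (hG : DRing.IsPerfect R G)
    (α : (tres k).obj G ⟶ (tres k).obj G') :
    ∃ (G₁ : Dual.D R) (β : G₁ ⟶ G) (γ : G₁ ⟶ G'), DRing.IsPerfect R G₁ ∧ IsIso ((tres k).map β) ∧
      (tres k).map β ≫ α = (tres k).map γ ∧ ∀ f, Tors f G → Tors f G₁ := by
  haveI := RpushQC.hasRpush k
  obtain ⟨l, hle, hcov⟩ := exists_elements k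
  haveI := (TildeD.fullyFaithful (R := R)).1
  haveI := (TildeD.fullyFaithful (R := R)).2
  haveI : QuasiCompact k := (quasiCompact_iff_compactSpace k).2 inferInstance
  let T := DCoh.tildeD R
  let ad := Cpt.restrictRpushAdj k
  obtain ⟨L, ⟨e⟩⟩ := (TildeD.isQCohD_iff _).1 (RpushQC.isQCohD_Rpush k ((tres k).obj G') (isQCohD_tres k G'))
  let η : G' ⟶ L := T.preimage (ad.unit.app (T.obj G') ≫ e.inv)
  let a : G ⟶ L := T.preimage (ad.homEquiv (T.obj G) ((tres k).obj G') α ≫ e.inv)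
  obtain ⟨F, b, d, hT⟩ := distinguished_cocone_triangle η
  have hη : (tres k).map η = (DCoh.restrictD k).map (ad.unit.app (T.obj G')) ≫ (DCoh.restrictD k).map e.inv := by
    simp [η, T]
  haveI : IsIso ((DCoh.restrictD k).map (ad.unit.app (T.obj G'))) :=
    IsIso.of_isIso_fac_right (hh := IsIso.id _) (ad.left_triangle_components (T.obj G'))
  haveI : IsIso ((tres k).map η) := by rw [hη]; infer_instance
  have hF : ∀ f ∈ l, Tors f F := (isZero_tres_iff k l hle hcov F).1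
    ((Triangle.isZero₃_iff_isIso₁ _ ((tres k).map_distinguished _ hT)).2
      (inferInstanceAs (IsIso ((tres k).map η))))
  obtain ⟨G₁, β, Q, g, d', hT', hG₁, hQ, hβ, hkeep⟩ := exists_roof l hG hF (a ≫ b)
  obtain ⟨γ, hγ⟩ := Triangle.coyoneda_exact₂ _ hT (β ≫ a) ((Category.assoc β a b).trans hβ)
  change β ≫ a = γ ≫ η at hγ
  haveI hiso : IsIso ((tres k).map β) :=
    (Triangle.isZero₃_iff_isIso₁ _ ((tres k).map_distinguished _ hT')).1 ((isZero_tres_iff k l hle hcov Q).2 hQ)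
  refine ⟨G₁, β, γ, hG₁, hiso, ?_, hkeep⟩
  have h1 : T.map β ≫ ad.homEquiv (T.obj G) ((tres k).obj G') α = T.map γ ≫ ad.unit.app (T.obj G') := by
    rw [← cancel_mono e.inv, Category.assoc, Category.assoc]
    have := congrArg T.map hγ
    simpa [a, η, T] using this
  apply (ad.homEquiv (T.obj G₁) ((tres k).obj G')).injective
  refine (ad.homEquiv_naturality_left (T.map β) α).trans (h1.trans ?_)
  rw [ad.homEquiv_unit]
  exact ad.unit.naturality (T.map γ)

theorem compactFree_tres [CompactSpace W] {E : DCoh.D W} (hE : DCoh.IsPerfect E) :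
    CompactFree (tres k) E := by
  classical
  intro m M J b ψ
  haveI : QuasiSeparatedSpace W := k.isOpenEmbedding.quasiSeparatedSpace
  haveI := QRlim.enoughKInj W
  haveI := RpushQC.hasRpush k
  haveI : (DCoh.restrictD k).IsLeftAdjoint := (Cpt.restrictRpushAdj k).isLeftAdjoint
  haveI := Cpt.preservesCoproducts_tildeD R J
  haveI := Groth.L10.DTen.preservesCoproducts_Q (B := R) J
  haveI := Groth.L10.DTen.hasCoproducts (B := R) J
  let Gs := sgl (R : Type u) m ⋙ tres k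
  haveI : PreservesColimitsOfShape (Discrete J) (sgl (R : Type u) m) := comp_preservesColimitsOfShape _ _
  haveI : PreservesColimitsOfShape (Discrete J) (tres k) := comp_preservesColimitsOfShape _ _
  haveI : PreservesColimitsOfShape (Discrete J) Gs := comp_preservesColimitsOfShape _ _
  let inj : ∀ j : J, ModuleCat.of R R ⟶ M := fun j => ModuleCat.ofHom (LinearMap.toSpanSingleton R M (b j))
  let cM : IsColimit (Cofan.mk M inj) :=
    mkCofanColimit _ (fun s => ModuleCat.ofHom (b.constr R fun j => (s.inj j).hom 1))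
      (fun s j => ModuleCat.hom_ext (LinearMap.ext_ring (by simp [inj])))
      fun s g hg => ModuleCat.hom_ext (b.ext fun j => by
        have := congrArg (fun t : ModuleCat.of R R ⟶ s.pt => t.hom 1) (hg j)
        simpa [inj] using this)
  haveI : HasCoproductsOfShape J (DCoh.D W) :=
    haveI : HasCoproductsOfShape J (CochainComplex W.Modules ℤ) := inferInstance
    DerivedProd.hasCoproductsOfShape
  let Z : J → DCoh.D W := fun _ => Gs.obj (ModuleCat.of R R)
  let c := isColimitCofanMkObjOfIsColimit Gs _ _ cM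
  let θ : ∐ Z ⟶ Gs.obj M := Sigma.desc fun j => Gs.map (inj j)
  let θ' : Gs.obj M ⟶ ∐ Z := c.desc (Cofan.mk _ fun j => Sigma.ι Z j)
  have hθ : θ' ≫ θ = 𝟙 _ := Cofan.IsColimit.hom_ext c _ _ fun j => by
    change Gs.map (inj j) ≫ θ' ≫ θ = Gs.map (inj j) ≫ 𝟙 _
    rw [← Category.assoc, show Gs.map (inj j) ≫ θ' = Sigma.ι Z j from c.fac _ ⟨j⟩]
    simp [θ]
  have hq : ∀ j, DCoh.IsQCohD (Z j) := fun j => isQCohD_tres k _
  obtain ⟨x, hx⟩ := (Cpt.bijective_homSum_rel Z (fun {_} φ => Cpt.isFin_qcoh hE _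
    (fun i => isQCohD_of_iso (DerivedCategory.Q.objObjPreimageIso (Z i)).symm (hq i)) φ)).surjective (ψ ≫ θ')
  refine ⟨DFinsupp.support x, ?_⟩
  have hψ : ψ = ∑ j ∈ DFinsupp.support x, x j ≫ Gs.map (inj j) := by
    rw [show ψ = (ψ ≫ θ') ≫ θ from ((Category.assoc ψ θ' θ).trans ((congrArg (ψ ≫ ·) hθ).trans (Category.comp_id ψ))).symm,
      ← hx]
    conv_lhs => rw [← DirectSum.sum_support_of x, map_sum, Preadditive.sum_comp]
    refine Finset.sum_congr rfl fun j _ => ?_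
    change (DirectSum.toAddMonoid fun i => Preadditive.rightComp E (Sigma.ι Z i)) (DirectSum.of _ j (x j)) ≫ θ = _
    rw [DirectSum.toAddMonoid_of]
    exact (Category.assoc _ _ _).trans (congrArg (x j ≫ ·) (Sigma.ι_desc _ _))
  rw [hψ, Preadditive.sum_comp]
  refine Finset.sum_congr rfl fun j hj => ?_
  rw [Category.assoc]
  refine congrArg (x j ≫ ·) ?_
  change Gs.map (inj j) ≫ Gs.map (ModuleCat.ofHom (cutBasis b (DFinsupp.support x))) = Gs.map (inj j)
  rw [← Gs.map_comp]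
  refine congrArg Gs.map (ModuleCat.hom_ext (LinearMap.ext_ring ?_))
  simp only [inj, ModuleCat.hom_comp, ModuleCat.hom_ofHom, LinearMap.comp_apply, LinearMap.toSpanSingleton_apply, one_smul]
  exact cutBasis_eq_self b _ (Submodule.subset_span (Set.mem_image_of_mem b hj))

theorem isZero_hd_tres {K : Dual.D R} (i : ℤ) (h : IsZero ((Groth.L02.PC.HH i).obj K)) :
    IsZero (DCoh.HD ((tres k).obj K) i) :=
  ((Scheme.Modules.restrictFunctor k).map_isZero ((TildeAlg.isZero_hd_iff K i).2 h)).of_iso (HDResIso k _ i)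

/-- perfect complexes on quasi-compact opens are retracts of restrictions of perfect complexes -/
theorem exists_retract [CompactSpace W] {E : DCoh.D W} (hE : DCoh.IsPerfect E) :
    ∃ (G : Dual.D R), DRing.IsPerfect R G ∧ Nonempty (Retract E ((tres k).obj G)) := by
  haveI : QuasiSeparatedSpace W := k.isOpenEmbedding.quasiSeparatedSpace
  haveI : QuasiCompact k := (quasiCompact_iff_compactSpace k).2 inferInstance
  haveI := RpushQC.hasRpush k
  haveI := QRlim.enoughKInj W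
  let T := DCoh.tildeD R
  let ad := Cpt.restrictRpushAdj k
  have hEq := PCQCoh.isQCohD_of_perfect hE
  obtain ⟨L, ⟨e⟩⟩ := (TildeD.isQCohD_iff _).1 (RpushQC.isQCohD_Rpush k E hEq)
  let eE : (tres k).obj L ≅ E := (DCoh.restrictD k).mapIso e ≪≫ asIso (ad.counit.app E)
  obtain ⟨N, hN⟩ := TildeAlg.exists_isZero (pc_of_perfect hE 0)
  let t := DerivedCategory.TStructure.t (C := ModuleCat.{u} R)
  let K := (t.truncLT N).obj L
  have hLE : Groth.L02.PC.LEH K (N - 1) := fun i hi => Groth.L10.isZero_H_LT (A := ModuleCat.{u} R) N i (by omega) L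
  have hTL := (tres k).map_distinguished _ (t.triangleLTGE_distinguished N L)
  obtain ⟨s₀, hs₀⟩ := Triangle.coyoneda_exact₂ _ hTL eE.inv (by
    haveI hE' : E.IsLE (N - 1) := (DerivedCategory.isLE_iff _ _).2 fun i hi => hN i (by omega)
    haveI : ((tres k).obj ((t.truncGE N).obj L)).IsGE N := (DerivedCategory.isGE_iff _ _).2 fun i hi =>
      isZero_hd_tres k i (Groth.L10.isZero_H_GE (A := ModuleCat.{u} R) N i (by omega) L)
    haveI : (DerivedCategory.TStructure.t (C := W.Modules)).IsLE E (N - 1) := hE'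
    haveI : (DerivedCategory.TStructure.t (C := W.Modules)).IsGE ((tres k).obj ((t.truncGE N).obj L)) N := ‹_›
    change eE.inv ≫ (tres k).map ((t.truncGEπ N).app L) = 0
    exact (DerivedCategory.TStructure.t (C := W.Modules)).zero _ (N - 1) N (by omega))
  change E ⟶ (tres k).obj K at s₀
  let ρ : (tres k).obj K ⟶ E := (tres k).map ((t.truncLTι N).app L) ≫ eE.hom
  have hs : s₀ ≫ ρ = 𝟙 E := by
    change s₀ ≫ (tres k).map _ ≫ eE.hom = 𝟙 E
    rw [← Category.assoc]
    exact (congrArg (· ≫ eE.hom) hs₀.symm).trans eE.inv_hom_id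
  obtain ⟨P, hPv, hPf, hPK, ⟨eP⟩⟩ := Groth.L02.PC.exists_free_rep hLE
  obtain ⟨c, hc⟩ := Cpt.exists_hom_zero hE
  let m : ℤ := min (c + 1) (N - 1)
  let S : Sub P := ⟨fun i => if i < m then ⊥ else ⊤, fun i j => by
    intro x hx
    change (P.d i j).hom x ∈ (if j < m then ⊥ else ⊤ : Submodule R (P.X j))
    by_cases hj : j < m
    · by_cases hij : i + 1 = j
      · have hx' : x ∈ (⊥ : Submodule R (P.X i)) := by simpa [show i < m by omega] using hx
        simp [(Submodule.mem_bot R).1 hx']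
      · simp [P.shape i j hij]
    · simp [hj]⟩
  have hd := (tres k).map_distinguished _ (DerivedCategory.triangleOfSES_distinguished S.shortExact)
  obtain ⟨g₀, hg₀⟩ := Triangle.coyoneda_exact₂ _ hd (s₀ ≫ (tres k).map eP.inv) (by
    refine hc _ (isQCohD_tres k _) ((DerivedCategory.isLE_iff _ _).2 fun i hi => isZero_hd_tres k i ?_) _
    refine IsZero.of_iso ?_ ((DerivedCategory.homologyFunctorFactors _ i).app S.quo)
    refine ShortComplex.isZero_homology_of_isZero_X₂ _ ?_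
    change IsZero (ModuleCat.of R (P.X i ⧸ S.N i))
    haveI : Subsingleton (P.X i ⧸ S.N i) := Submodule.Quotient.subsingleton_iff.2 (if_neg (by omega))
    exact ModuleCat.isZero_of_subsingleton _)
  change E ⟶ (tres k).obj (DerivedCategory.Q.obj S.sub) at g₀
  change s₀ ≫ (tres k).map eP.inv = g₀ ≫ (tres k).map (DerivedCategory.Q.map S.incl) at hg₀
  obtain ⟨G, g, h, hG, hgh⟩ := exists_perfect_fac S.sub (compactFree_tres k hE) (a := m) (b := N - 1)
    (fun i hi => by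
      change IsZero (ModuleCat.of R (S.N i))
      haveI : Subsingleton (S.N i) := by
        rcases hi with hi | hi
        · rw [show S.N i = ⊥ from if_pos hi]
          infer_instance
        · haveI := ModuleCat.subsingleton_of_isZero (hPv i hi)
          infer_instance
      exact ModuleCat.isZero_of_subsingleton _)
    (fun i => by
      change Module.Free R (S.N i)
      by_cases hi : i < m
      · rw [show S.N i = ⊥ from if_pos hi]
        infer_instance
      · haveI := hPf i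
        exact Module.Free.of_equiv ((LinearEquiv.ofTop (S.N i) (if_neg hi)).symm)) g₀
  refine ⟨G, hG, ⟨⟨g, (tres k).map (h ≫ DerivedCategory.Q.map S.incl ≫ eP.hom) ≫ ρ, ?_⟩⟩⟩
  rw [Functor.map_comp, Functor.map_comp, ← Category.assoc, ← Category.assoc g, hgh, ← Category.assoc g₀,
    ← hg₀, Category.assoc s₀, ← Functor.map_comp, eP.inv_hom_id, CategoryTheory.Functor.map_id, Category.comp_id, hs]

/-- `E ⊞ E⟦1⟧` extends -/
theorem exists_extend [CompactSpace W] {E : DCoh.D W} (hE : DCoh.IsPerfect E) :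
    ∃ C : Dual.D R, DRing.IsPerfect R C ∧ Nonempty ((tres k).obj C ≅ E ⊞ E⟦(1 : ℤ)⟧) := by
  obtain ⟨G, hG, ⟨r⟩⟩ := exists_retract k hE
  let α : (tres k).obj G ⟶ (tres k).obj G := 𝟙 _ - r.r ≫ r.i
  obtain ⟨G₁, β, γ, hG₁, hβ, hγ, -⟩ := exists_roof_tres k hG α
  obtain ⟨C, a, d, hT⟩ := distinguished_cocone_triangle γ
  haveI := hβ
  refine ⟨C, Groth.L29.Perfect.third _ hT hG₁ hG, ?_⟩
  obtain ⟨Z, p, q, hZ⟩ := distinguished_cocone_triangle α
  obtain ⟨e⟩ := nonempty_cone_idem r rfl hZ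
  exact ⟨Triangle.π₃.mapIso (isoTriangleOfIso₁₂ _ _ ((tres k).map_distinguished _ hT) hZ
    (asIso ((tres k).map β)) (Iso.refl _) ((Category.comp_id _).trans hγ.symm)) ≪≫ e⟩

/-- retracts keeping torsion: if `E` vanishes on `k ⁻¹ bo f` for `f ∈ lT`, so does the perfect complex -/
theorem exists_retract_supp [CompactSpace W] {E : DCoh.D W} (hE : DCoh.IsPerfect E) (lT : List R)
    (hET : ∀ f ∈ lT, IsZero ((DCoh.restrictD (k ⁻¹ᵁ bo f).ι).obj E)) :
    ∃ G : Dual.D R, DRing.IsPerfect R G ∧ (∀ f ∈ lT, Tors f G) ∧ Nonempty (Retract E ((tres k).obj G)) := by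
  haveI : QuasiSeparatedSpace W := k.isOpenEmbedding.quasiSeparatedSpace
  haveI : QuasiCompact k := (quasiCompact_iff_compactSpace k).2 inferInstance
  haveI := RpushQC.hasRpush k
  haveI := (TildeD.fullyFaithful (R := R)).1
  haveI := (TildeD.fullyFaithful (R := R)).2
  obtain ⟨G, hG, ⟨r⟩⟩ := exists_retract k hE
  let T := DCoh.tildeD R
  let ad := Cpt.restrictRpushAdj k
  obtain ⟨L, ⟨e⟩⟩ := (TildeD.isQCohD_iff _).1 (RpushQC.isQCohD_Rpush k E (PCQCoh.isQCohD_of_perfect hE))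
  have hL : ∀ f ∈ lT, Tors f L := fun f hf => by
    rw [tors_iff]
    haveI := RpushQC.hasRpush (k ∣_ bo f)
    obtain ⟨i⟩ := RpushRes.nonempty_iso k (bo f).ι (k ⁻¹ᵁ bo f).ι (k ∣_ bo f) (by
      rw [Scheme.Opens.opensRange_ι, Scheme.Opens.opensRange_ι]) (morphismRestrict_ι k (bo f))
    haveI := (Cpt.restrictRpushAdj (k ∣_ bo f)).right_adjoint_additive
    exact ((DCoh.Rpush (k ∣_ bo f)).map_isZero (hET f hf)).of_iso ((res (bo f)).mapIso e ≪≫ i.app E)
  let a : G ⟶ L := T.preimage (ad.homEquiv (T.obj G) E r.r ≫ e.inv)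
  obtain ⟨Q, g, q, hQ, hgq, hl, -⟩ := exists_fac_kill lT hG hL a
  refine ⟨Q, hQ, fun f hf => tors_of_kill (hl f hf), ⟨⟨r.i ≫ (tres k).map g,
    (tres k).map q ≫ (DCoh.restrictD k).map e.hom ≫ ad.counit.app E, ?_⟩⟩⟩
  have h2 : (tres k).map g ≫ (tres k).map q ≫ (DCoh.restrictD k).map e.hom ≫ ad.counit.app E = r.r := by
    rw [← Category.assoc, ← Functor.map_comp, hgq]
    change (DCoh.restrictD k).map (T.map a) ≫ _ = _
    rw [← Category.assoc, ← Functor.map_comp]
    simp only [a, Functor.map_preimage, Category.assoc, e.inv_hom_id, Category.comp_id]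
    exact (ad.homEquiv_counit _ _ _).symm.trans ((ad.homEquiv _ _).symm_apply_apply r.r)
  rw [Category.assoc, h2, r.retract]

/-- `E ⊞ E⟦1⟧` extends with the same support -/
theorem exists_extend_supp [CompactSpace W] {E : DCoh.D W} (hE : DCoh.IsPerfect E) (lT : List R)
    (hET : ∀ f ∈ lT, IsZero ((DCoh.restrictD (k ⁻¹ᵁ bo f).ι).obj E)) :
    ∃ C : Dual.D R, DRing.IsPerfect R C ∧ (∀ f ∈ lT, Tors f C) ∧ Nonempty ((tres k).obj C ≅ E ⊞ E⟦(1 : ℤ)⟧) := by
  obtain ⟨G, hG, hGT, ⟨r⟩⟩ := exists_retract_supp k hE lT hET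
  let α : (tres k).obj G ⟶ (tres k).obj G := 𝟙 _ - r.r ≫ r.i
  obtain ⟨G₁, β, γ, hG₁, hβ, hγ, hkeep⟩ := exists_roof_tres k hG α
  obtain ⟨C, a, d, hT⟩ := distinguished_cocone_triangle γ
  haveI := hβ
  refine ⟨C, Groth.L29.Perfect.third _ hT hG₁ hG, fun f hf => tors_of_kill (kill_mid (rot_of_distTriang _ hT)
    (kill_of_tors hG (hGT f hf)) (kill_shift (kill_of_tors hG₁ (hkeep f (hGT f hf))) 1)), ?_⟩
  obtain ⟨Z, p, q, hZ⟩ := distinguished_cocone_triangle α
  obtain ⟨e⟩ := nonempty_cone_idem r rfl hZ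
  exact ⟨Triangle.π₃.mapIso (isoTriangleOfIso₁₂ _ _ ((tres k).map_distinguished _ hT) hZ
    (asIso ((tres k).map β)) (Iso.refl _) ((Category.comp_id _).trans hγ.symm)) ≪≫ e⟩

end Groth.L29.DC.Gen
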