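import Groth.Agent.L29.DCoh.Gen.ZOn
import Groth.Agent.L29.DCoh.EvalMain
import Groth.Agent.L29.DCoh.Approx

/-!
Extension by zero of objects supported in a closed subset of the ambient scheme, and approximations.
-/

set_option autoImplicit false
set_option backward.defeqAttrib.useBackward true
set_option backward.isDefEq.respectTransparency false
set_option backward.isDefEq.respectTransparency.types false

universe u

open CategoryTheory CategoryTheory.Limits CategoryTheory.Pretriangulated AlgebraicGeometry ZeroObject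

attribute [local instance] HasDerivedCategory.standard

namespace Groth.L29.DC.Gen

variable {X : Scheme.{u}} {U O : X.Opens} (hcov : ∀ x : X, x ∈ U ∨ x ∈ O)
  [PreservesFiniteLimits (CxOX.extZero U.ι)] {F : DCoh.D (U : Scheme.{u})}

instance isIso_extZeroD_unit (F : DCoh.D (U : Scheme.{u})) : IsIso ((ExtZero.adjD U.ι).unit.app F) := by
  let T : Adjunction.Triple (CxOX.extZeroD U.ι) (DCoh.restrictD U.ι) (push U) := ⟨ExtZero.adjD U.ι, adj U⟩
  let ff := T.fullyFaithfulEquiv.symm (adj U).fullyFaithfulROfIsIsoCounit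
  haveI := ff.full
  haveI := ff.faithful
  infer_instance

theorem isZero_res_extZero (hF : ZOn F (U.ι ⁻¹' O)) : IsZero ((res O).obj ((CxOX.extZeroD U.ι).obj F)) := by
  let L := (CxOX.extZeroD U.ι).obj F
  let M := (res O).obj L
  let k := X.homOfLE (inf_le_right : O ⊓ U ≤ U)
  have hr : IsZero ((DCoh.restrictD k).obj F) := (isZero_restrictD_iff_zOn _ F).2 (hF.mono (by
    rintro _ ⟨z, rfl⟩
    change U.ι _ ∈ O
    rw [← Scheme.Hom.comp_apply, X.homOfLE_ι]
    exact z.2.1))
  obtain ⟨e⟩ := RpushRes.nonempty_iso O.ι U.ι (X.homOfLE (inf_le_left : O ⊓ U ≤ O)) k (fun x hx => by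
      have hx' : O.ι x ∈ U.ι.opensRange := hx
      rw [Scheme.Opens.opensRange_ι] at hx'
      refine ⟨(⟨x.1, x.2, hx'⟩ : (O ⊓ U : X.Opens)), Subtype.ext ?_⟩
      exact congr($(X.homOfLE_ι (inf_le_left : O ⊓ U ≤ O)) (⟨x.1, x.2, hx'⟩ : (O ⊓ U : X.Opens))))
    (by rw [X.homOfLE_ι, X.homOfLE_ι])
  let N := (DCoh.restrictD (X.homOfLE (inf_le_left : O ⊓ U ≤ O))).obj M
  have h3 : Subsingleton (F ⟶ (DCoh.Rpush k).obj N) := ⟨fun a b =>
    ((Cpt.restrictRpushAdj k).homEquiv F N).symm.injective (hr.eq_of_src _ _)⟩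
  have h2 : Subsingleton (F ⟶ (res U).obj ((push O).obj M)) :=
    ⟨fun a b => (cancel_mono (e.app M).hom).1 (h3.elim _ _)⟩
  have h1 : Subsingleton (L ⟶ (push O).obj M) := ⟨fun a b => ((ExtZero.adjD U.ι).homEquiv F _).injective (h2.elim _ _)⟩
  rw [IsZero.iff_id_eq_zero]
  exact ((adj O).homEquiv L M).injective (h1.elim _ _)

/-- the extension by zero, restricted back -/
noncomputable def resExtZeroIso (F : DCoh.D (U : Scheme.{u})) : (res U).obj ((CxOX.extZeroD U.ι).obj F) ≅ F :=
  (asIso ((ExtZero.adjD U.ι).unit.app F)).symm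

include hcov in
theorem isPerfect_extZero (hP : DCoh.IsPerfect F) (hF : ZOn F (U.ι ⁻¹' O)) :
    DCoh.IsPerfect ((CxOX.extZeroD U.ι).obj F) :=
  isPerfect_of_cover fun x => (hcov x).elim (fun hx => ⟨U, hx, isPerfect_of_iso (resExtZeroIso F).symm hP⟩)
    fun hx => ⟨O, hx, EvalMain.isPerfect_of_isZero (isZero_res_extZero hF)⟩

include hcov in
/-- approximations extend from an open containing the support -/
theorem exists_approx_extend (E : DCoh.D X) (m : ℤ) (hP : DCoh.IsPerfect F) (hF : ZOn F (U.ι ⁻¹' O))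
    (α : F ⟶ (res U).obj E) (hα : Approx α m) (hsupp : ∀ i, m ≤ i → IsZero (DCoh.HD ((res O).obj E) i)) :
    ∃ (R : DCoh.D X) (β : R ⟶ E), DCoh.IsPerfect R ∧ ZOn R O ∧ Approx β m := by
  let R := (CxOX.extZeroD U.ι).obj F
  have hz := isZero_res_extZero hF
  let β : R ⟶ E := ((ExtZero.adjD U.ι).homEquiv F E).symm α
  refine ⟨R, β, isPerfect_extZero hcov hP hF, (isZero_res_iff O R).1 hz, ?_⟩
  have hβ : (ExtZero.adjD U.ι).unit.app F ≫ (res U).map β = α :=
    ((ExtZero.adjD U.ι).homEquiv_unit _ _ β).symm.trans (((ExtZero.adjD U.ι).homEquiv F E).apply_symm_apply α)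
  have hβU : Approx ((res U).map β) m := by
    have : (res U).map β = inv ((ExtZero.adjD U.ι).unit.app F) ≫ α := by rw [← hβ, IsIso.inv_hom_id_assoc]
    rw [this]
    exact (Approx.of_isIso _ m).comp hα
  obtain ⟨C, g, d, hT⟩ := distinguished_cocone_triangle β
  refine (approx_iff_triangle _ hT m).2 ((DerivedCategory.isLE_iff _ _).2 fun i hi => ?_)
  have hU := (DerivedCategory.isLE_iff _ _).1 ((approx_iff_triangle _ ((res U).map_distinguished _ hT) m).1 hβU) i hi
  haveI : IsIso ((res O).map g) := (Triangle.isZero₁_iff_isIso₂ _ ((res O).map_distinguished _ hT)).1 hz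
  refine Groth.L21.Mod.isZero_of_restrict (fun b : Bool => (if b then U else O).ι) (fun y => ?_) _ fun b => ?_
  · exact (hcov y).elim (fun h => ⟨true, ⟨y, h⟩, rfl⟩) fun h => ⟨false, ⟨y, h⟩, rfl⟩
  · cases b
    · exact ((hsupp i (by omega)).of_iso
        ((DerivedCategory.homologyFunctor _ i).mapIso (asIso ((res O).map g)).symm)).of_iso (HDResIso O.ι C i).symm
    · exact IsZero.of_iso hU (HDResIso U.ι C i).symm

omit hcov in
theorem isZero_hd_res_of_support {T : Set X} (hT : IsClosed T) {E : DCoh.D X} {i : ℤ}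
    (h : CohB1.support (DCoh.HD E i) ⊆ T) : IsZero (DCoh.HD ((res (compl hT)).obj E) i) :=
  IsZero.of_iso ((Groth.L00.Stk.isZero_iff _).2 fun y => (isZero_stalk_res_iff (compl hT).ι _ y).2
    ((isZero_stalk_iff _ _).2 fun hy => y.2 (h hy))) (HDResIso (compl hT).ι E i)

end Groth.L29.DC.Gen
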