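import Groth.Agent.L29.DCoh.Gen.ApproxAlg
import Groth.Agent.L29.DCoh.Gen.Main
import Groth.Agent.L29.DCoh.Gen.ExtSupp

/-!
Approximation by supported perfect complexes on affine schemes.
-/

set_option autoImplicit false
set_option backward.defeqAttrib.useBackward true
set_option backward.isDefEq.respectTransparency false
set_option backward.isDefEq.respectTransparency.types false

universe u

open CategoryTheory CategoryTheory.Limits CategoryTheory.Pretriangulated AlgebraicGeometry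

attribute [local instance] HasDerivedCategory.standard

namespace Groth.L29.DC.Gen

open Groth.L00

/-- approximation on an affine scheme with support off the basic opens of `l` -/
theorem exists_approx_affine {Y : Scheme.{u}} [IsAffine Y] (l : List Γ(Y, ⊤)) {E : DCoh.D Y} (hE : DCoh.IsQCohD E)
    (m : ℤ) (hpc : DCoh.IsPseudoCoherentD m E)
    (hsupp : ∀ f ∈ l, ∀ i, m - l.length + 1 ≤ i → ∀ x ∈ Y.basicOpen f, IsZero ((Stk.F Y x).obj (DCoh.HD E i))) :
    ∃ (P : DCoh.D Y) (α : P ⟶ E), DCoh.IsPerfect P ∧ (∀ f ∈ l, ZOn P (Y.basicOpen f)) ∧ Approx α m := by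
  let R : CommRingCat.{u} := Γ(Y, ⊤)
  haveI := Groth.L18.TildeF.tilde_preservesFiniteLimits (R := R)
  let s : Y ⟶ Spec R := Y.isoSpec.hom
  haveI := RpushQC.hasRpush s
  have hs : Function.Surjective s := s.surjective
  haveI := isIso_unit_of_surjective s hs
  let ad := Cpt.restrictRpushAdj s
  obtain ⟨K, ⟨e⟩⟩ := (TildeD.isQCohD_iff _).1 (RpushQC.isQCohD_Rpush s E hE)
  let eE : (DCoh.restrictD s).obj ((DCoh.tildeD R).obj K) ≅ E := (DCoh.restrictD s).mapIso e ≪≫ asIso (ad.counit.app E)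
  have hbo : ∀ (f : R), s ⁻¹ᵁ bo f = Y.basicOpen (U := ⊤) f := fun f => Scheme.toSpecΓ_preimage_basicOpen _ _
  have hpcK : DRing.IsPseudoCoherent R m K := TildeAlg.pc_of_tilde (by
    refine pc_of_on fun x => ?_
    obtain ⟨y, rfl⟩ := hs x
    obtain ⟨V, hV, hw⟩ := (isPC_iff_wit m E).1 hpc y
    refine ⟨(V : Scheme.{u}), V.ι ≫ s, inferInstance, ⟨⟨y, hV⟩, rfl⟩, ?_⟩
    exact wit_iso ((DCoh.restrictD V.ι).mapIso eE.symm ≪≫ (resTransD s V.ι (V.ι ≫ s) rfl).app _) hw)
  obtain ⟨P₀, α₀, hP₀, hPl, hα₀⟩ := exists_approx_alg l m hpcK fun f hf i hi => by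
    refine (forall_stalk_iff_tors f ((Groth.L02.PC.HH i).obj K)).1 fun z hz => ?_
    obtain ⟨y, rfl⟩ := hs z
    have h1 : IsZero ((Stk.F Y y).obj (DCoh.HD ((DCoh.restrictD s).obj ((DCoh.tildeD R).obj K)) i)) :=
      (hsupp f hf i hi y (by rw [← hbo f]; exact hz)).of_iso
        ((Stk.F Y y).mapIso ((DerivedCategory.homologyFunctor _ i).mapIso eE))
    exact ((isZero_stalk_res_iff s _ y).1 (h1.of_iso ((Stk.F Y y).mapIso (HDResIso s _ i)).symm)).of_iso
      ((Stk.F (Spec R) _).mapIso (TildeAlg.hdIso K i)).symm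
  refine ⟨(DCoh.restrictD s).obj ((DCoh.tildeD R).obj P₀), (DCoh.restrictD s).map ((DCoh.tildeD R).map α₀) ≫ eE.hom,
    isPerfect_restrictD s (TildeAlg.perfect_tilde hP₀), fun f hf => ?_, ?_⟩
  · rw [zOn_restrictD]
    refine ((isZero_res_iff (bo f) _).1 ((tors_iff f P₀).1 (tors_of_kill (hPl f hf)))).mono ?_
    rintro _ ⟨y, hy, rfl⟩
    rw [← hbo f] at hy
    exact hy
  · exact (Approx.map_exact (Scheme.Modules.restrictFunctor s)
      (Approx.map_exact (tilde.functor R) (f := α₀) ⟨hα₀.1, hα₀.2⟩)).comp (Approx.of_isIso eE.hom m)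

end Groth.L29.DC.Gen
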