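import Groth.Agent.L29.DCoh.Gen.Alg
import Groth.Agent.L02.PC.Finite
import Groth.Agent.L10.DerTrunc
import Mathlib.CategoryTheory.Triangulated.Triangulated

/-!
Approximation of pseudo-coherent complexes of modules by perfect complexes killed by given elements.
-/

set_option autoImplicit false
set_option backward.defeqAttrib.useBackward true
set_option backward.isDefEq.respectTransparency false
set_option backward.isDefEq.respectTransparency.types false

universe u

open CategoryTheory CategoryTheory.Limits CategoryTheory.Pretriangulated ZeroObject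

attribute [local instance] HasDerivedCategory.standard

namespace Groth.L29.DC.Gen

open Groth.L02.PC

variable {A : Type u} [CommRing A]

/-- no maps into objects living below degree `c` -/
def Van (c : ℤ) (Q : Dual.D A) : Prop := ∀ L : Dual.D A, LEH L (c - 1) → ∀ φ : Q ⟶ L, φ = 0

/-- torsion in one degree -/
def TorsAt (f : A) (F : Dual.D A) (i : ℤ) : Prop := ∀ x : Dual.HD A F i, ∃ N : ℕ, f ^ N • x = 0

theorem leh_shift {L : Dual.D A} {n : ℤ} (h : LEH L n) (k n' : ℤ) (hn : k + n' = n) : LEH (L⟦k⟧) n' :=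
  fun i hi => (h (k + i) (by omega)).of_iso (Groth.L10.hShiftIso (A := ModuleCat.{u} A) L k i (k + i) rfl)

theorem leh_cone {T : Triangle (Dual.D A)} (hT : T ∈ distTriang _) {n : ℤ} (h₂ : LEH T.obj₂ n)
    (h₁ : LEH T.obj₁ (n + 1)) : LEH T.obj₃ n := fun i hi =>
  (DerivedCategory.HomologySequence.exact₃ T hT i (i + 1) rfl).isZero_of_both_zeros
    ((h₂ i hi).eq_of_src _ _) ((h₁ (i + 1) (by omega)).eq_of_tgt _ _)

theorem torsAt_third {f : A} {T : Triangle (Dual.D A)} (hT : T ∈ distTriang _) {i : ℤ} (h₂ : TorsAt f T.obj₂ i)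
    (h₁ : TorsAt f T.obj₁ (i + 1)) : TorsAt f T.obj₃ i := fun x => by
  let δ := DerivedCategory.HomologySequence.δ T i (i + 1) rfl
  obtain ⟨N, hN⟩ := h₁ (δ x)
  have h0 : δ (f ^ N • x) = 0 := by rw [map_smul, hN]
  obtain ⟨y, hy⟩ := (ShortComplex.moduleCat_exact_iff _).1
    (DerivedCategory.HomologySequence.exact₃ T hT i (i + 1) rfl) _ h0
  obtain ⟨M, hM⟩ := h₂ y
  refine ⟨M + N, ?_⟩
  rw [pow_add, mul_smul, ← hy, ← map_smul, hM, map_zero]

/-- factorisation through killed perfect objects, with amplitude bounds -/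
theorem exists_fac_kill_amp (l : List A) : ∀ {G F : Dual.D A} {c b : ℤ}, DRing.IsPerfect A G → Van c G → LEH G b →
    (∀ f ∈ l, Tors f F) → ∀ h : G ⟶ F, ∃ (Q : Dual.D A) (g : G ⟶ Q) (k : Q ⟶ F), DRing.IsPerfect A Q ∧
      g ≫ k = h ∧ (∀ f ∈ l, Kill f Q) ∧ (∀ f, Kill f G → Kill f Q) ∧ Van (c - l.length) Q ∧ LEH Q b := by
  induction l with
  | nil => exact fun {G F c b} hG hc hb _ h => ⟨G, 𝟙 G, h, hG, Category.id_comp h, by simp, fun _ hf => hf,
      by simpa using hc, hb⟩
  | cons f l ih =>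
    intro G F c b hG hc hb hF h
    obtain ⟨N, hN⟩ := exists_kill hG (hF f (List.mem_cons_self)) h
    obtain ⟨G₁, a, d, hT⟩ := distinguished_cocone_triangle (f ^ N • 𝟙 G)
    obtain ⟨h₁, hh⟩ := Triangle.yoneda_exact₂ _ hT h (by
      change (f ^ N • 𝟙 G) ≫ h = 0
      rw [Linear.smul_comp, Category.id_comp, hN])
    have hc₁ : Van (c - 1) G₁ := fun L hL φ => by
      obtain ⟨g, hg⟩ := Triangle.yoneda_exact₃ _ hT φ (hc L (fun i hi => hL i (by omega)) _)
      change G⟦(1 : ℤ)⟧ ⟶ L at g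
      have hg0 : g = 0 := by
        refine (shiftFunctor (Dual.D A) (-1 : ℤ)).map_injective ?_
        rw [Functor.map_zero, ← cancel_epi ((shiftFunctorCompIsoId (Dual.D A) (1 : ℤ) (-1) (by omega)).inv.app G),
          comp_zero]
        exact hc _ (leh_shift hL (-1) (c - 1) (by omega)) _
      rw [hg, hg0, comp_zero]
    have hb₁ : LEH G₁ b := leh_cone hT hb (fun i hi => hb i (by omega))
    obtain ⟨Q, g, k, hQ, hgk, hl, hkeep, hcQ, hbQ⟩ := ih (Groth.L29.Perfect.third _ hT hG hG) hc₁ hb₁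
      (fun f' hf' => hF f' (List.mem_cons_of_mem _ hf')) h₁
    refine ⟨Q, a ≫ g, k, hQ, by rw [Category.assoc, hgk]; exact hh.symm, fun f' hf' => ?_,
      fun f' hf' => hkeep f' (kill_cone hT hf'), ?_, hbQ⟩
    · rcases List.mem_cons.1 hf' with rfl | hf'
      · exact hkeep _ ⟨N + N, by rw [pow_add]; exact kill_cone_self hT⟩
      · exact hl f' hf'
    · rw [List.length_cons, show c - ((l.length + 1 : ℕ) : ℤ) = c - 1 - (l.length : ℤ) by push_cast; omega]
      exact hcQ

theorem pc_of_perfect_ring {P : Dual.D A} (h : DRing.IsPerfect A P) (m : ℤ) : DRing.IsPseudoCoherent A m P := by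
  obtain ⟨E, b, hv, hff, ⟨e⟩⟩ := Groth.L29.PerfPC.isPseudoCoherent'_of_isPerfect h
  exact pc_of_approx (DerivedCategory.Q.map (truncι E m) ≫ e.hom)
    ((isApprox_truncι E m).comp (IsApprox.of_isIso _ m))
    (pc_of_bounded_free (trunc_vanishesOutside E m b hv) (trunc_finiteFree E m fun i _ => hff i) m)

theorem approx_step (l : List A) {K : Dual.D A} (j : ℤ) (hpc : DRing.IsPseudoCoherent A j K)
    (ht : ∀ f ∈ l, ∀ i, j - l.length + 1 ≤ i → TorsAt f K i) {P : Dual.D A} (α : P ⟶ K) (hP : DRing.IsPerfect A P)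
    (hPl : ∀ f ∈ l, Kill f P) (hα : IsApprox α (j + 1)) :
    ∃ (P' : Dual.D A) (α' : P' ⟶ K), DRing.IsPerfect A P' ∧ (∀ f ∈ l, Kill f P') ∧ IsApprox α' j := by
  obtain ⟨C, q₁, d₁, hC⟩ := distinguished_cocone_triangle α
  have hCle : LEH C j := fun i hi => (isApprox_iff _ hC (j + 1)).1 hα i (by omega)
  have hCpc : DRing.IsPseudoCoherent A j C := Groth.L02.PC.pc_third _ hC j (pc_of_perfect_ring hP (j + 1)) hpc
  obtain ⟨E, b, e, hv, hff, he⟩ := exists_witness_ge hCpc
  haveI := isKProjective_bounded hv hff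
  have hEle : LEH (DRing.toD E) j := fun i hi => by
    haveI := he.1 i hi
    exact (hCle i hi).of_iso (asIso ((HH i).map e))
  have hEvan : Van j (DRing.toD E) := fun L hL φ => hom_eq_zero (fun i hi => hv i (Or.inl hi)) hL φ
  have hEperf : DRing.IsPerfect A (DRing.toD E) := ⟨E, j, b, hv, fun i => by
    obtain ⟨h1, h2⟩ := hff i
    exact ⟨h1, inferInstance⟩, ⟨Iso.refl _⟩⟩
  let t := DerivedCategory.TStructure.t (C := ModuleCat.{u} A)
  let n : ℤ := j - max (l.length : ℤ) 1 + 1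
  let τ := (t.truncGE n).obj C
  let π : C ⟶ τ := (t.truncGEπ n).app C
  have hτ : ∀ f ∈ l, Tors f τ := fun f hf i => by
    by_cases hi : n ≤ i
    · intro x
      haveI := Groth.L10.isIso_H_π (A := ModuleCat.{u} A) n i hi C
      obtain ⟨y, rfl⟩ := ((ConcreteCategory.isIso_iff_bijective ((HH i).map π)).1 ‹_›).2 x
      obtain ⟨N, hN⟩ := torsAt_third hC (ht f hf i (by have := List.length_pos_of_mem hf; omega)) (fun z => tors_of_kill (hPl f hf) (i + 1) z) y
      exact ⟨N, by rw [← map_smul, hN, map_zero]⟩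
    · haveI : Subsingleton (Dual.HD A τ i) :=
        ModuleCat.subsingleton_of_isZero (Groth.L10.isZero_H_GE (A := ModuleCat.{u} A) n i (by omega) C)
      exact fun x => ⟨0, Subsingleton.elim _ _⟩
  obtain ⟨Q, g, k, hQ, hgk, hQl, -, hQvan, hQle⟩ := exists_fac_kill_amp l hEperf hEvan hEle hτ (e ≫ π)
  have hlt : LEH (((t.truncLT n).obj C)⟦(1 : ℤ)⟧) (j - l.length - 1) :=
    leh_shift (n := j - l.length) (fun i hi => Groth.L10.isZero_H_LT (A := ModuleCat.{u} A) n i (by omega) C) 1 _ (by omega)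
  obtain ⟨β, hβ⟩ := Triangle.coyoneda_exact₃ _ (t.triangleLTGE_distinguished n C) k (hQvan _ hlt _)
  change Q ⟶ C at β
  change k = β ≫ π at hβ
  have hn : n ≤ j + 1 := by omega
  have hβa : IsApprox β j := by
    refine ⟨fun i hi => isIso_of_source_target_iso_zero _ (hQle i hi).isoZero (hCle i hi).isoZero, ?_⟩
    have hnj : n ≤ j := by omega
    haveI := Groth.L10.isIso_H_π (A := ModuleCat.{u} A) n j hnj C
    have h1 : (HH j).map g ≫ (HH j).map β = (HH j).map e := by
      rw [← cancel_mono ((HH j).map π), Category.assoc, ← Functor.map_comp, ← hβ, ← Functor.map_comp, hgk,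
        Functor.map_comp]
    haveI : Epi ((HH j).map g ≫ (HH j).map β) := h1 ▸ he.2
    exact epi_of_epi ((HH j).map g) _
  obtain ⟨C', q₂, d₂, hC'⟩ := distinguished_cocone_triangle β
  obtain ⟨Z, d₃, z, hZ⟩ := distinguished_cocone_triangle (q₁ ≫ q₂)
  have oct := Triangulated.someOctahedron (u₁₂ := q₁) (u₂₃ := q₂) (u₁₃ := q₁ ≫ q₂) rfl
    (rot_of_distTriang _ hC) (rot_of_distTriang _ hC') hZ
  have hZperf : DRing.IsPerfect A Z := Groth.L29.Perfect.second _ oct.mem (Groth.L29.Perfect.shift hP 1)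
    (Groth.L29.Perfect.shift hQ 1)
  refine ⟨Z⟦(-1 : ℤ)⟧, (Triangle.mk (q₁ ≫ q₂) d₃ z).invRotate.mor₁, Groth.L29.Perfect.shift hZperf (-1),
    fun f hf => kill_shift (kill_mid oct.mem (kill_shift (hPl f hf) 1) (kill_shift (hQl f hf) 1)) (-1), ?_⟩
  exact (isApprox_iff _ (inv_rot_of_distTriang _ hZ) j).2 fun i hi => (isApprox_iff _ hC' j).1 hβa i hi

/-- approximation by killed perfect complexes -/
theorem exists_approx_alg (l : List A) {K : Dual.D A} (m : ℤ) (hpc : DRing.IsPseudoCoherent A m K)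
    (ht : ∀ f ∈ l, ∀ i, m - l.length + 1 ≤ i → TorsAt f K i) :
    ∃ (P : Dual.D A) (α : P ⟶ K), DRing.IsPerfect A P ∧ (∀ f ∈ l, Kill f P) ∧ IsApprox α m := by
  obtain ⟨b, hb⟩ := exists_LEH hpc
  suffices key : ∀ (k : ℕ), ∃ (P : Dual.D A) (α : P ⟶ K), DRing.IsPerfect A P ∧ (∀ f ∈ l, Kill f P) ∧
      IsApprox α (max m (b + 1 - k)) by
    obtain ⟨P, α, h1, h2, h3⟩ := key (b + 1 - m).toNat
    exact ⟨P, α, h1, h2, by rwa [max_eq_left (by omega)] at h3⟩
  intro k
  induction k with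
  | zero =>
    obtain ⟨Z, q, d, hT⟩ := distinguished_cocone_triangle (0 : (0 : Dual.D A) ⟶ K)
    refine ⟨0, 0, Groth.L29.Perfect.third _ (contractible_distinguished (Dual.inD A A)) Groth.L29.Perfect.self Groth.L29.Perfect.self, fun f _ => ⟨0, (isZero_zero _).eq_of_src _ _⟩, ?_⟩
    refine (isApprox_iff _ hT _).2 fun i hi => ?_
    refine leh_cone (n := b) hT hb (fun i _ => (HH i).map_isZero (isZero_zero _)) i ?_
    have := le_max_right m (b + 1 - ((0 : ℕ) : ℤ))
    omega
  | succ k ih =>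
    obtain ⟨P, α, hP, hPl, hα⟩ := ih
    by_cases hm : b + 1 - (k : ℤ) ≤ m
    · exact ⟨P, α, hP, hPl, by rwa [max_eq_left (by omega), ← max_eq_left hm]⟩
    · rw [max_eq_right (by omega)] at hα ⊢
      refine approx_step l _ (Groth.L02.PC.pc_mono (by omega) hpc) (fun f hf i hi => ht f hf i (by omega)) α hP hPl ?_
      convert hα using 1
      push_cast; omega

end Groth.L29.DC.Gen
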