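import Groth.Agent.L29.DCoh.Gen.Lift
import Groth.Agent.L29.DCoh.Gen.ApproxAffine
import Groth.Agent.L29.DCoh.Gen.ExtSupp

/-!
Approximation by perfect complexes with supports: the induction step and the theorem.
-/

set_option autoImplicit false
set_option backward.defeqAttrib.useBackward true
set_option backward.isDefEq.respectTransparency false
set_option backward.isDefEq.respectTransparency.types false

universe u

open CategoryTheory CategoryTheory.Limits CategoryTheory.Pretriangulated AlgebraicGeometry ZeroObject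

attribute [local instance] HasDerivedCategory.standard

namespace Groth.L29.DC.Gen

open Groth.L00

variable {X : Scheme.{u}}

theorem pc_restrictD {U : Scheme.{u}} (j : U ⟶ X) [IsOpenImmersion j] {m : ℤ} {K : DCoh.D X}
    (h : DCoh.IsPseudoCoherentD m K) : DCoh.IsPseudoCoherentD m ((DCoh.restrictD j).obj K) := by
  refine pc_of_on fun x => ?_
  obtain ⟨Z, hZ, hw⟩ := (isPC_iff_wit m K).1 h (j x)
  refine ⟨_, (j ⁻¹ᵁ Z).ι, inferInstance, by rw [Scheme.Opens.opensRange_ι]; exact hZ, ?_⟩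
  exact wit_iso ((resTransD Z.ι (j ∣_ Z) ((j ⁻¹ᵁ Z).ι ≫ j) (morphismRestrict_ι j Z)).app K ≪≫
    ((resTransD j (j ⁻¹ᵁ Z).ι ((j ⁻¹ᵁ Z).ι ≫ j) rfl).app K).symm) (hw.restrict (j ∣_ Z))

theorem pc_mono_D {m m' : ℤ} (hm : m ≤ m') {K : DCoh.D X} (h : DCoh.IsPseudoCoherentD m K) :
    DCoh.IsPseudoCoherentD m' K := by
  intro x
  obtain ⟨V, hx, hV⟩ := h x
  refine ⟨V, hx, fun F hF => ?_⟩
  obtain ⟨E, α, hE, h1, h2⟩ := hV F hF
  refine ⟨E, α, hE, fun i hi => h1 i (by omega), ?_⟩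
  rcases eq_or_lt_of_le hm with rfl | hlt
  · exact h2
  · haveI := h1 m' hlt
    infer_instance

/-- stalks of the `i`-th cohomology vanish on `S` -/
def ZAt (E : DCoh.D X) (S : Set X) (i : ℤ) : Prop := ∀ x ∈ S, IsZero ((Stk.F X x).obj (DCoh.HD E i))

theorem zAt_restrictD {U : Scheme.{u}} (j : U ⟶ X) [IsOpenImmersion j] {E : DCoh.D X} {S : Set U} {i : ℤ} :
    ZAt ((DCoh.restrictD j).obj E) S i ↔ ZAt E (j '' S) i := by
  simp only [ZAt, Set.forall_mem_image]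
  refine forall₂_congr fun y _ => ?_
  rw [← isZero_stalk_res_iff j]
  exact ((Stk.F U y).mapIso (HDResIso j E i)).isZero_iff

theorem isZero_hd_res_iff (V : X.Opens) (E : DCoh.D X) (i : ℤ) :
    IsZero (DCoh.HD ((res V).obj E) i) ↔ ZAt E V i := by
  rw [Stk.isZero_iff]
  have : ZAt ((DCoh.restrictD V.ι).obj E) Set.univ i ↔ ZAt E V i := by
    rw [zAt_restrictD, Set.image_univ, Scheme.Opens.range_ι]
  rw [← this]
  exact ⟨fun h y _ => h y, fun h y => h y trivial⟩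

/-- extendable across the affine open with support -/
def Extendable {V W : X.Opens} (hle : W ≤ V) (O : X.Opens) (E : DCoh.D (W : Scheme.{u})) : Prop :=
  ∃ b : DCoh.D (V : Scheme.{u}), DCoh.IsPerfect b ∧ ZOn b (V.ι ⁻¹' O) ∧
    Nonempty ((DCoh.restrictD (X.homOfLE hle)).obj b ≅ E)

variable {V W O : X.Opens} {hle : W ≤ V}

theorem Extendable.of_iso {E E' : DCoh.D (W : Scheme.{u})} (h : Extendable hle O E) (e : E ≅ E') :
    Extendable hle O E' := by
  obtain ⟨b, hb, hbO, ⟨eb⟩⟩ := h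
  exact ⟨b, hb, hbO, ⟨eb ≪≫ e⟩⟩

theorem Extendable.shift {E : DCoh.D (W : Scheme.{u})} (h : Extendable hle O E) (n : ℤ) :
    Extendable hle O (E⟦n⟧) := by
  obtain ⟨b, hb, hbO, ⟨eb⟩⟩ := h
  exact ⟨b⟦n⟧, perfect_shift hb n, zOn_shift (V.ι ⁻¹ᵁ O) hbO n,
    ⟨((DCoh.restrictD (X.homOfLE hle)).commShiftIso n).app b ≪≫ (shiftFunctor _ n).mapIso eb⟩⟩

theorem Extendable.cone (hV : IsAffineOpen V) (hW : IsCompact (W : Set X)) (hOV : O ≤ V) (hO : IsCompact (O : Set X))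
    {E₁ E₂ Z : DCoh.D (W : Scheme.{u})} (h₁ : Extendable hle O E₁) (h₂ : Extendable hle O E₂) {f : E₁ ⟶ E₂}
    {g : E₂ ⟶ Z} {d : Z ⟶ E₁⟦(1 : ℤ)⟧} (hT : Triangle.mk f g d ∈ distTriang _) : Extendable hle O Z := by
  obtain ⟨b₁, hb₁, hb₁O, ⟨e₁⟩⟩ := h₁
  obtain ⟨b₂, hb₂, hb₂O, ⟨e₂⟩⟩ := h₂
  haveI : IsAffine (V : Scheme.{u}) := hV
  haveI : CompactSpace (W : Scheme.{u}) := isCompact_iff_compactSpace.1 hW
  have hOc : IsCompact ((V.ι ⁻¹ᵁ O : (V : Scheme.{u}).Opens) : Set (V : Scheme.{u})) :=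
    V.ι.isOpenEmbedding.isInducing.isCompact_iff.2 (by
      change IsCompact (V.ι '' (V.ι ⁻¹' (O : Set X)))
      rw [Set.image_preimage_eq_inter_range, Scheme.Opens.range_ι, Set.inter_eq_left.2 hOV]
      exact hO)
  obtain ⟨b', β, γ, hb', hb'O, hβ, hγ⟩ := exists_affine_roof_supp (X.homOfLE hle) (V.ι ⁻¹ᵁ O) hOc hb₁ hb₁O
    (PCQCoh.isQCohD_of_perfect hb₂) (e₁.hom ≫ f ≫ e₂.inv)
  haveI := hβ
  obtain ⟨C, a, c, hC⟩ := distinguished_cocone_triangle γ
  refine ⟨C, (perfect_two_out_of_three hC).1 hb' hb₂, zOn_third hC (V.ι ⁻¹ᵁ O) hb'O hb₂O, ⟨?_⟩⟩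
  exact Triangle.π₃.mapIso (isoTriangleOfIso₁₂ _ _ ((DCoh.restrictD (X.homOfLE hle)).map_distinguished _ hC) hT
    (asIso ((DCoh.restrictD (X.homOfLE hle)).map β) ≪≫ e₁) e₂ (by
      change (DCoh.restrictD (X.homOfLE hle)).map γ ≫ e₂.hom = ((DCoh.restrictD (X.homOfLE hle)).map β ≫ e₁.hom) ≫ f
      rw [← hγ]
      simp))

/-- `P ⊞ P⟦2k+1⟧` extends -/
theorem extendable_odd (hV : IsAffineOpen V) (hW : IsCompact (W : Set X)) (hOV : O ≤ V) (hO : IsCompact (O : Set X))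
    (P : DCoh.D (W : Scheme.{u})) (hP : DCoh.IsPerfect P) (hPO : ZOn P (W.ι ⁻¹' O)) :
    ∀ k : ℕ, Extendable hle O (P ⊞ P⟦(2 * (k : ℤ) + 1)⟧)
  | 0 => by
    obtain ⟨b, hb, hbO, ⟨eb⟩⟩ := exists_affine_extension_supp hV hle hW hOV hO hP hPO
    exact ⟨b, hb, hbO, ⟨eb ≪≫ biprod.mapIso (Iso.refl _) (eqToIso (by norm_num))⟩⟩
  | k + 1 => by
    let A := P⟦(2 * (k : ℤ) + 1)⟧
    let C := P⟦(-1 : ℤ)⟧
    haveI : HasBinaryBiproducts (DCoh.D (W : Scheme.{u})) := inferInstance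
    haveI := preservesBinaryBiproducts_of_preservesBiproducts (shiftFunctor (DCoh.D (W : Scheme.{u})) (-1 : ℤ))
    haveI := preservesBinaryBiproducts_of_preservesBiproducts (shiftFunctor (DCoh.D (W : Scheme.{u})) (1 : ℤ))
    have hX₁ : Extendable hle O (A ⊞ P) :=
      (extendable_odd hV hW hOV hO P hP hPO k).of_iso (biprod.braiding _ _)
    have hX₂ : Extendable hle O (P ⊞ C) := by
      obtain ⟨b, hb, hbO, ⟨eb⟩⟩ := exists_affine_extension_supp hV hle hW hOV hO hP hPO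
      refine ((show Extendable hle O (P ⊞ P⟦(1 : ℤ)⟧) from ⟨b, hb, hbO, ⟨eb⟩⟩).shift (-1)).of_iso ?_
      exact (shiftFunctor _ (-1 : ℤ)).mapBiprod P _ ≪≫ biprod.braiding _ _ ≪≫
        biprod.mapIso ((shiftFunctorCompIsoId _ (1 : ℤ) (-1) (by omega)).app P) (Iso.refl _)
    let snd₁ : A ⊞ P ⟶ P := biprod.snd
    let inl₂ : P ⟶ P ⊞ C := biprod.inl
    obtain ⟨Z, g, d, hZ⟩ := distinguished_cocone_triangle (snd₁ ≫ inl₂)
    have h12 := rot_of_distTriang _ (binaryBiproductTriangle_distinguished A P)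
    have h23 := binaryBiproductTriangle_distinguished P C
    let oct := Triangulated.someOctahedron (u₁₂ := snd₁) (u₂₃ := inl₂) (u₁₃ := snd₁ ≫ inl₂) rfl h12 h23 hZ
    obtain ⟨e, -, -⟩ := exists_iso_binaryBiproduct_of_distTriang _ oct.mem (by simp [binaryBiproductTriangle])
    have hZe : Extendable hle O ((A⟦(1 : ℤ)⟧) ⊞ C) :=
      (Extendable.cone hV hW hOV hO hX₁ hX₂ hZ).of_iso e
    refine (hZe.shift 1).of_iso ?_
    exact (shiftFunctor _ (1 : ℤ)).mapBiprod _ _ ≪≫ biprod.braiding _ _ ≪≫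
      biprod.mapIso ((shiftFunctorCompIsoId _ (-1 : ℤ) 1 (by omega)).app P)
        (((shiftFunctorAdd' _ (1 : ℤ) 1 2 (by omega)).app A).symm ≪≫
          ((shiftFunctorAdd' _ (2 * (k : ℤ) + 1) 2 (2 * ((k + 1 : ℕ) : ℤ) + 1) (by push_cast; omega)).app P).symm)

/-- approximation with supports holds on `Y` -/
def ApproxHolds (Y : Scheme.{u}) : Prop :=
  ∀ Ω : Y.Opens, IsRetrocompact (Ω : Set Y) → ∃ r : ℤ, ∀ (m : ℤ) (E : DCoh.D Y), DCoh.IsQCohD E →
    DCoh.IsPseudoCoherentD (m - r) E → (∀ i, m - r ≤ i → ZAt E Ω i) →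
      ∃ (P : DCoh.D Y) (α : P ⟶ E), DCoh.IsPerfect P ∧ ZOn P Ω ∧ Approx α m

theorem approx_fst {Y : Scheme.{u}} {P Q : DCoh.D Y} {m : ℤ} (h : ∀ i, m ≤ i → IsZero (DCoh.HD Q i)) :
    Approx (biprod.fst : P ⊞ Q ⟶ P) m := by
  have hiso : ∀ i, m ≤ i → IsIso ((DerivedCategory.homologyFunctor _ i).map (biprod.fst : P ⊞ Q ⟶ P)) := fun i hi =>
    ⟨(DerivedCategory.homologyFunctor _ i).map biprod.inl, by
      have h1 : (DerivedCategory.homologyFunctor _ i).map ((biprod.snd : P ⊞ Q ⟶ Q) ≫ (biprod.inr : Q ⟶ P ⊞ Q)) = 0 := by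
        rw [Functor.map_comp, (h i hi).eq_of_tgt ((DerivedCategory.homologyFunctor _ i).map biprod.snd) 0, zero_comp]
      rw [← Functor.map_comp, ← CategoryTheory.Functor.map_id, ← biprod.total, Functor.map_add, h1, add_zero],
      by rw [← Functor.map_comp, biprod.inl_fst, CategoryTheory.Functor.map_id]⟩
  exact ⟨fun i hi => hiso i hi.le, by haveI := hiso m le_rfl; infer_instance⟩

theorem isRetrocompact_preimage {Y : Scheme.{u}} (U : Y.Opens) {Ω : Set Y} (hΩ : IsRetrocompact Ω) :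
    IsRetrocompact (U.ι ⁻¹' Ω) := fun S hS hSo => by
  refine U.ι.isOpenEmbedding.isInducing.isCompact_iff.2 ?_
  rw [Set.image_inter U.ι.isOpenEmbedding.injective, Set.image_preimage_eq_inter_range, Scheme.Opens.range_ι]
  have : (Ω ∩ (U : Set Y)) ∩ U.ι '' S = Ω ∩ U.ι '' S := by
    rw [Set.inter_assoc, Set.inter_eq_right.2 (show U.ι '' S ⊆ (U : Set Y) by
      rintro _ ⟨y, _, rfl⟩
      exact y.2)]
  rw [this]
  exact hΩ (hS.image U.ι.continuous) (U.ι.isOpenEmbedding.isOpenMap _ hSo)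

theorem approxHolds_union (U V : X.Opens) (hU : IsCompact (U : Set X)) (hV : IsAffineOpen V)
    (hW : IsCompact ((U ⊓ V : X.Opens) : Set X)) (hUV : U ⊔ V = ⊤) (h : ApproxHolds (U : Scheme.{u})) :
    ApproxHolds X := by
  intro Ω hΩ
  obtain ⟨rU, hrU⟩ := h (U.ι ⁻¹ᵁ Ω) (isRetrocompact_preimage U hΩ)
  let W := U ⊓ V
  let O := Ω ⊓ V
  have hO : IsCompact (O : Set X) := by
    rw [TopologicalSpace.Opens.coe_inf]
    exact hΩ hV.isCompact V.2
  haveI : IsAffine (V : Scheme.{u}) := hV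
  haveI : CompactSpace (U : Scheme.{u}) := isCompact_iff_compactSpace.1 hU
  let O' : X.Opens := W ⊔ O
  have hO' : IsCompact (O' : Set X) := by
    rw [TopologicalSpace.Opens.coe_sup]
    exact hW.union hO
  haveI : CompactSpace (O' : Scheme.{u}) := isCompact_iff_compactSpace.1 hO'
  let k : (O' : Scheme.{u}) ⟶ Spec Γ((V : Scheme.{u}), ⊤) :=
    X.homOfLE (sup_le inf_le_right inf_le_right : W ⊔ O ≤ V) ≫ (V : Scheme.{u}).isoSpec.hom
  obtain ⟨l, hl, hcov⟩ := exists_elements k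
  have hbo : ∀ f : Γ((V : Scheme.{u}), ⊤), (V : Scheme.{u}).isoSpec.hom ⁻¹ᵁ bo f = (V : Scheme.{u}).basicOpen f :=
    fun f => Scheme.toSpecΓ_preimage_basicOpen _ _
  have hsub : ∀ f ∈ l, ∀ y ∈ (V : Scheme.{u}).basicOpen f, V.ι y ∈ O' := fun f hf y hy => by
    rw [← hbo] at hy
    obtain ⟨z, hz⟩ := hl f hf hy
    have h1 : X.homOfLE (sup_le inf_le_right inf_le_right : W ⊔ O ≤ V) z = y :=
      (V : Scheme.{u}).isoSpec.hom.isOpenEmbedding.injective hz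
    rw [← h1, ← Scheme.Hom.comp_apply, X.homOfLE_ι]
    exact z.2
  have hsup : ∀ y : (V : Scheme.{u}), V.ι y ∈ O' → ∃ f ∈ l, y ∈ (V : Scheme.{u}).basicOpen f := fun y hy => by
    obtain ⟨f, hf, hyf⟩ := hcov ((V : Scheme.{u}).isoSpec.hom y) ⟨⟨V.ι y, hy⟩, congrArg (V : Scheme.{u}).isoSpec.hom
      (V.ι.isOpenEmbedding.injective (congr($(X.homOfLE_ι (sup_le inf_le_right inf_le_right : W ⊔ O ≤ V))
        (⟨V.ι y, hy⟩ : (O' : X.Opens)))))⟩
    exact ⟨f, hf, by rw [← hbo]; exact hyf⟩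
  refine ⟨max rU 0 + l.length + 1, fun m E hE hpc hsupp => ?_⟩
  let m' : ℤ := m - l.length
  obtain ⟨P, α, hP, hPΩ, hα⟩ := hrU m' ((res U).obj E) (isQCohD_restrictD U.ι hE)
    (pc_restrictD U.ι (pc_mono_D (by omega) hpc)) fun i hi => zAt_restrictD U.ι |>.2 fun x hx =>
      hsupp i (by omega) x (by obtain ⟨y, hy, rfl⟩ := hx; exact hy)
  obtain ⟨bP, hbP⟩ := TildeAlg.exists_isZero (m := 0) (pc_of_perfect hP 0)
  let n : ℕ := (bP - m' + 3).toNat
  let a := P ⊞ P⟦(2 * (n : ℤ) + 1)⟧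
  let r := DCoh.restrictD (X.homOfLE (inf_le_left : W ≤ U))
  haveI := preservesBinaryBiproducts_of_preservesBiproducts r
  have hPW : ZOn (r.obj P) (W.ι ⁻¹' O) := (zOn_restrictD _ P _).2 (hPΩ.mono (by
    rintro _ ⟨y, hy, rfl⟩
    have h1 : U.ι (X.homOfLE (inf_le_left : W ≤ U) y) = W.ι y := congr($(X.homOfLE_ι (inf_le_left : W ≤ U)) y)
    change U.ι _ ∈ Ω
    rw [h1]
    exact hy.1))
  obtain ⟨b, hb, hbO, ⟨eb⟩⟩ := extendable_odd (hle := (inf_le_right : W ≤ V)) hV hW (inf_le_right : O ≤ V) hO (r.obj P)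
    (isPerfect_restrictD _ hP) hPW n
  have ha : DCoh.IsPerfect a :=
    (perfect_two_out_of_three (binaryBiproductTriangle_distinguished _ _)).2.1 hP (perfect_shift hP _)
  obtain ⟨R, β, ψ, hR, hRΩ, hβ⟩ := exists_lift_glue hUV hW hV hO hE ha
    (zOn_biprod (U.ι ⁻¹ᵁ Ω) hPΩ (zOn_shift (U.ι ⁻¹ᵁ Ω) hPΩ _)) hb hbO
    (r.mapBiprod P _ ≪≫ biprod.mapIso (Iso.refl _) ((r.commShiftIso _).app P) ≪≫ eb.symm) (biprod.fst ≫ α)
  obtain ⟨C, q₁, d₁, hC⟩ := distinguished_cocone_triangle β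
  have hCq : DCoh.IsQCohD C := isQCohD_third _ hC (PCQCoh.isQCohD_of_perfect hR) hE
  have hCpc : DCoh.IsPseudoCoherentD m C :=
    (pc_two_out_of_three hC m).1 (pc_of_perfect hR _) (pc_mono_D (by omega) hpc)
  have hCU : ∀ i, m' ≤ i → ZAt C U i := fun i hi => by
    rw [← isZero_hd_res_iff]
    have h1 : Approx ((res U).map β) m' := by
      rw [hβ]
      refine (Approx.of_isIso _ m').comp ((approx_fst fun j hj => ?_).comp hα)
      exact (hbP (2 * (n : ℤ) + 1 + j) (by omega)).of_iso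
        (Groth.L10.hShiftIso (A := (U : Scheme.{u}).Modules) P (2 * (n : ℤ) + 1) j _ rfl)
    exact (DerivedCategory.isLE_iff _ _).1 ((approx_iff_triangle _ ((res U).map_distinguished _ hC) m').1 h1) i (by omega)
  have hCΩ : ∀ i, m' ≤ i → ZAt C Ω i := fun i hi => by
    rw [← isZero_hd_res_iff]
    haveI : IsIso ((res Ω).map q₁) :=
      (Triangle.isZero₁_iff_isIso₂ _ ((res Ω).map_distinguished _ hC)).1 ((isZero_res_iff Ω R).2 hRΩ)
    exact ((isZero_hd_res_iff Ω E i).2 (hsupp i (by omega))).of_iso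
      ((DerivedCategory.homologyFunctor _ i).mapIso (asIso ((res Ω).map q₁)).symm)
  have hCO : ∀ i, m' ≤ i → ZAt C ((U ⊔ Ω : X.Opens) : Set X) i := fun i hi x hx =>
    hx.elim (hCU i hi x) (hCΩ i hi x)
  obtain ⟨PV, αV, hPV, hPVl, hαV⟩ := exists_approx_affine l (E := (res V).obj C) (isQCohD_restrictD V.ι hCq) m
    (pc_restrictD V.ι hCpc) fun f hf i hi y hy => by
      refine (zAt_restrictD (S := ({y} : Set (V : Scheme.{u}))) V.ι).2 ?_ y rfl
      rintro _ ⟨y', rfl, rfl⟩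
      refine hCO i (by omega) _ ?_
      exact (hsub f hf _ hy).elim (fun h => Or.inl h.1) fun h => Or.inr h.1
  haveI := ExtZero.preservesFiniteLimits V.ι
  have hcov' : ∀ x : X, x ∈ V ∨ x ∈ U ⊔ Ω := fun x => by
    have : x ∈ U ⊔ V := hUV ▸ trivial
    exact this.elim (fun h => Or.inr (Or.inl h)) Or.inl
  obtain ⟨R', β', hR', hR'O, hβ'⟩ := exists_approx_extend hcov' C m hPV (fun i y hy => by
      obtain ⟨f, hf, hyf⟩ := hsup y (hy.elim (fun h => Or.inl ⟨h, y.2⟩) fun h => Or.inr ⟨h, y.2⟩)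
      exact hPVl f hf i y hyf) αV hαV fun i hi => (isZero_hd_res_iff _ C i).2 (hCO i (by omega))
  obtain ⟨C', q₂, d₂, hC'⟩ := distinguished_cocone_triangle β'
  obtain ⟨Z, d₃, z, hZ⟩ := distinguished_cocone_triangle (q₁ ≫ q₂)
  have oct := Triangulated.someOctahedron (u₁₂ := q₁) (u₂₃ := q₂) (u₁₃ := q₁ ≫ q₂) rfl
    (rot_of_distTriang _ hC) (rot_of_distTriang _ hC') hZ
  have hZperf : DCoh.IsPerfect Z := (perfect_two_out_of_three oct.mem).2.1 (perfect_shift hR 1) (perfect_shift hR' 1)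
  have hZΩ : ZOn Z Ω := by
    rw [← isZero_res_iff]
    exact Triangle.isZero₂_of_isZero₁₃ _ ((res Ω).map_distinguished _ oct.mem)
      ((isZero_res_iff Ω _).2 (zOn_shift Ω hRΩ 1))
      ((isZero_res_iff Ω _).2 (zOn_shift Ω (hR'O.mono fun x hx => Or.inr hx) 1))
  refine ⟨Z⟦(-1 : ℤ)⟧, (Triangle.mk (q₁ ≫ q₂) d₃ z).invRotate.mor₁, perfect_shift hZperf (-1),
    zOn_shift Ω hZΩ (-1), ?_⟩
  exact (approx_iff_triangle _ (inv_rot_of_distTriang _ hZ) m).2 ((approx_iff_triangle _ hC' m).1 hβ')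

theorem approxHolds_of_affines : ∀ (n : ℕ) (X : Scheme.{u}) [QuasiSeparatedSpace X] (A : Fin n → X.Opens),
    (∀ i, IsAffineOpen (A i)) → (⨆ i, A i) = ⊤ → ApproxHolds X
  | 0, X, _, A, _, h => fun Ω _ => ⟨0, fun m E _ _ _ => by
    have hz : ∀ K : DCoh.D X, IsZero K := fun K => isZero_of_cover fun x => by
      have : x ∈ (⨆ i, A i) := h ▸ trivial
      obtain ⟨i, -⟩ := TopologicalSpace.Opens.mem_iSup.1 this
      exact i.elim0
    haveI : IsIso (0 : (0 : DCoh.D X) ⟶ E) := isIso_of_source_target_iso_zero _ (hz _).isoZero (hz E).isoZero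
    exact ⟨0, 0, EvalMain.isPerfect_of_isZero (isZero_zero _), (isZero_res_iff Ω _).1 ((res Ω).map_isZero (isZero_zero _)),
      Approx.of_isIso _ m⟩⟩
  | n + 1, X, _, A, hA, h => by
    let U : X.Opens := ⨆ i : Fin n, A i.castSucc
    have hsub : ∀ i : Fin n, A i.castSucc ≤ U := fun i => le_iSup (fun i => A i.castSucc) i
    have hU : IsCompact (U : Set X) := by
      rw [TopologicalSpace.Opens.coe_iSup]
      exact isCompact_iUnion fun i => (hA _).isCompact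
    refine approxHolds_union U (A (Fin.last n)) hU (hA _) ?_ ?_ ?_
    · rw [TopologicalSpace.Opens.coe_inf]
      exact QuasiSeparatedSpace.inter_isCompact _ _ U.2 hU (A _).2 (hA _).isCompact
    · refine eq_top_iff.2 fun x _ => ?_
      have : x ∈ (⨆ i, A i) := h ▸ trivial
      obtain ⟨i, hi⟩ := TopologicalSpace.Opens.mem_iSup.1 this
      cases i using Fin.lastCases with
      | last => exact Or.inr hi
      | cast j => exact Or.inl (hsub j hi)
    · haveI : QuasiSeparatedSpace (U : Scheme.{u}) := U.ι.isOpenEmbedding.quasiSeparatedSpace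
      refine approxHolds_of_affines n U (fun i => U.ι ⁻¹ᵁ A i.castSucc)
        (fun i => (hA _).preimage_of_isOpenImmersion U.ι (by rw [Scheme.Opens.opensRange_ι]; exact hsub i))
        (eq_top_iff.2 fun x _ => ?_)
      obtain ⟨i, hi⟩ := TopologicalSpace.Opens.mem_iSup.1 (show U.ι x ∈ ⨆ i : Fin n, A i.castSucc from x.2)
      exact TopologicalSpace.Opens.mem_iSup.2 ⟨i, hi⟩

theorem approxHolds (X : Scheme.{u}) [CompactSpace X] [QuasiSeparatedSpace X] : ApproxHolds X := by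
  classical
  obtain ⟨t, ht⟩ := (isCompact_univ (X := X)).elim_finite_subcover (fun V : X.affineOpens => (V.1 : Set X))
    (fun V => V.1.2) fun x _ => by
      obtain ⟨_, ⟨V, hV, rfl⟩, hxV, -⟩ := X.isBasis_affineOpens.exists_subset_of_mem_open (Set.mem_univ x) isOpen_univ
      exact Set.mem_iUnion.2 ⟨⟨V, hV⟩, hxV⟩
  refine approxHolds_of_affines t.card X (fun i => (t.equivFin.symm i).1.1) (fun i => (t.equivFin.symm i).1.2)
    (eq_top_iff.2 fun x _ => ?_)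
  obtain ⟨V, hV, hx⟩ := Set.mem_iUnion₂.1 (ht (Set.mem_univ x))
  exact TopologicalSpace.Opens.mem_iSup.2 ⟨t.equivFin ⟨V, hV⟩, by simpa using hx⟩

end Groth.L29.DC.Gen
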