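import Groth.Agent.L29.DCoh.Gen.PerfBuilt
import Groth.Agent.L29.DCoh.Gen.Amp
import Groth.Agent.L29.DCoh.Cpt.Range

/-!
Boundedness of objects of `D_QCoh` is detected by maps from a perfect generator.
-/

set_option autoImplicit false
set_option backward.defeqAttrib.useBackward true
set_option backward.isDefEq.respectTransparency false
set_option backward.isDefEq.respectTransparency.types false

universe u

open CategoryTheory CategoryTheory.Limits CategoryTheory.Pretriangulated AlgebraicGeometry ZeroObject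

attribute [local instance] HasDerivedCategory.standard

namespace Groth.L29.DC.Gen

/-- degreewise form of orthogonality to the Koszul object -/
theorem isZero_H_of_kObj {A : Type u} [CommRing A] {F : Dual.D A} : ∀ (l : List A), (∀ f ∈ l, Tors f F) →
    ∀ n : ℤ, (∀ h : kObj l ⟶ F⟦n⟧, h = 0) → IsZero ((Groth.L02.PC.HH n).obj F)
  | [], _, n, ho => by
    let e : kObj ([] : List A) ≅ Dual.inD A A :=
      (((SingleFunctors.evaluation _ _ 0).mapIso
        (DerivedCategory.singleFunctorsPostcompQIso (ModuleCat.{u} A))).app (ModuleCat.of A A)).symm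
    haveI : Subsingleton (Dual.HD A F n) := ⟨fun x y => by
      obtain ⟨a, rfl⟩ := (Groth.L29.HomD.evalShiftEquiv (W := F) n).surjective x
      obtain ⟨b, rfl⟩ := (Groth.L29.HomD.evalShiftEquiv (W := F) n).surjective y
      rw [(cancel_epi e.hom).1 ((ho (e.hom ≫ a)).trans (ho (e.hom ≫ b)).symm)]⟩
    exact ModuleCat.isZero_of_subsingleton _
  | f :: l, hF, n, ho => by
    refine isZero_H_of_kObj l (fun f' hf' => hF f' (List.mem_cons_of_mem _ hf')) n fun h => ?_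
    obtain ⟨N, hN⟩ := exists_kill (isPerfect_kObj l) (tors_shift (hF f List.mem_cons_self) n) h
    obtain ⟨a, d, hT⟩ := exists_triangle_cons f l
    induction N generalizing h with
    | zero => simpa using hN
    | succ N ih =>
      refine ih h ?_
      obtain ⟨k, hk⟩ := Triangle.yoneda_exact₂ _ hT (f ^ N • h) (by
        change (f • 𝟙 (kObj l)) ≫ (f ^ N • h) = 0
        rw [Linear.smul_comp, Category.id_comp, ← mul_smul, ← pow_succ', hN])
      dsimp at k hk
      rw [hk, ho k, comp_zero]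

variable {X : Scheme.{u}}

/-- a perfect object on an affine open, supported off `W`, detecting each degree -/
theorem exists_affine_degree_detector [QuasiSeparatedSpace X] {V W : X.Opens} (hV : IsAffineOpen V) (hle : W ≤ V)
    (hW : IsCompact (W : Set X)) :
    ∃ K : DCoh.D (V : Scheme.{u}), DCoh.IsPerfect K ∧ IsZero ((DCoh.restrictD (X.homOfLE hle)).obj K) ∧
      ∀ F : DCoh.D (V : Scheme.{u}), DCoh.IsQCohD F → IsZero ((DCoh.restrictD (X.homOfLE hle)).obj F) →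
        ∀ n : ℤ, (∀ φ : K ⟶ F⟦n⟧, φ = 0) → IsZero (DCoh.HD F n) := by
  let R : CommRingCat.{u} := Γ(X, V)
  haveI := Groth.L18.TildeF.tilde_preservesFiniteLimits (R := R)
  haveI := (TildeD.fullyFaithful (R := R)).1
  haveI := (TildeD.fullyFaithful (R := R)).2
  haveI : CompactSpace (W : Scheme.{u}) := isCompact_iff_compactSpace.1 hW
  let s : (V : Scheme.{u}) ⟶ Spec R := hV.isoSpec.hom
  let k : (W : Scheme.{u}) ⟶ Spec R := X.homOfLE hle ≫ s
  let T := DCoh.tildeD R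
  obtain ⟨l, hl, hcov⟩ := exists_elements k
  let Φ := T ⋙ DCoh.restrictD s
  let eT : ∀ K₀ : Dual.D R, (DCoh.restrictD (X.homOfLE hle)).obj (Φ.obj K₀) ≅ (tres k).obj K₀ := fun K₀ =>
    (resTransD s (X.homOfLE hle) k rfl).app (T.obj K₀)
  have hs : Function.Surjective s := s.surjective
  haveI := isIso_unit_of_surjective s hs
  haveI : (DCoh.restrictD s).Faithful := (Cpt.restrictRpushAdj s).fullyFaithfulLOfIsIsoUnit.faithful
  refine ⟨Φ.obj (kObj l), isPerfect_restrictD s (TildeAlg.perfect_tilde (isPerfect_kObj l)), ?_, fun F hF hFW n ho => ?_⟩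
  · exact ((isZero_tres_iff k l hl hcov _).2 fun f hf => tors_of_kill (kill_kObj l f hf)).of_iso (eT _)
  · haveI : QuasiCompact s := inferInstance
    obtain ⟨K₀, ⟨e⟩⟩ := (TildeD.isQCohD_iff _).1 (RpushQC.isQCohD_Rpush s F hF)
    let eF : Φ.obj K₀ ≅ F := (DCoh.restrictD s).mapIso e ≪≫ asIso ((Cpt.restrictRpushAdj s).counit.app F)
    have ht := (isZero_tres_iff k l hl hcov K₀).1
      (hFW.of_iso ((eT K₀).symm ≪≫ (DCoh.restrictD (X.homOfLE hle)).mapIso eF))
    refine (isZero_hd_tres s n (isZero_H_of_kObj l ht n fun h => Φ.map_injective ?_)).of_iso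
      ((DerivedCategory.homologyFunctor _ n).mapIso eF.symm)
    rw [Functor.map_zero, ← cancel_mono (((Φ.commShiftIso n).app K₀).hom ≫ eF.hom⟦n⟧'), zero_comp]
    exact ho _

/-- maps from `P` to `E⟦n⟧` eventually vanish downwards -/
def VanLow (P E : DCoh.D X) : Prop := ∃ N : ℤ, ∀ n : ℤ, n ≤ N → ∀ φ : P ⟶ E⟦n⟧, φ = 0

/-- maps from `P` to `E⟦n⟧` eventually vanish upwards -/
def VanHigh (P E : DCoh.D X) : Prop := ∃ N : ℤ, ∀ n : ℤ, N ≤ n → ∀ φ : P ⟶ E⟦n⟧, φ = 0

theorem vanLow_of_isGE [CompactSpace X] [QuasiSeparatedSpace X] {P E : DCoh.D X} (hP : DCoh.IsPerfect P) {a : ℤ}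
    (h : E.IsGE a) : VanLow P E := by
  obtain ⟨a₀, b, -, -, hb⟩ := Cpt.exists_range hP
  refine ⟨a - b - 1, fun n hn φ => ?_⟩
  let t := DerivedCategory.TStructure.t (C := X.Modules)
  haveI : t.IsGE E a := h
  haveI : t.IsGE (E⟦n⟧) (a - n) := t.isGE_shift E a n (a - n) (by omega)
  exact hb _ (t.isGE_of_ge _ (b + 1) (a - n) (by omega)) φ

theorem vanHigh_of_isLE [CompactSpace X] [QuasiSeparatedSpace X] {P E : DCoh.D X} (hP : DCoh.IsPerfect P)
    (hE : DCoh.IsQCohD E) {b : ℤ} (h : E.IsLE b) : VanHigh P E := by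
  obtain ⟨a₀, b₀, ha, -, -⟩ := Cpt.exists_range hP
  refine ⟨b - a₀, fun n hn φ => ?_⟩
  let t := DerivedCategory.TStructure.t (C := X.Modules)
  haveI : t.IsLE E b := h
  haveI : t.IsLE (E⟦n⟧) (b - n) := t.isLE_shift E b n (b - n) (by omega)
  exact ha _ (isQCohD_shift hE n) (t.isLE_of_le _ (b - n) a₀ (by omega)) φ

theorem isGE_of_cover {E : DCoh.D X} {U V : X.Opens} (hUV : U ⊔ V = ⊤) {a : ℤ}
    (hU : ∀ i, i < a → IsZero (DCoh.HD ((res U).obj E) i)) (hV : ∀ i, i < a → IsZero (DCoh.HD ((res V).obj E) i))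
    (i : ℤ) (hi : i < a) : IsZero (DCoh.HD E i) := by
  refine Groth.L21.Mod.isZero_of_restrict (fun b : Bool => (if b then U else V).ι) (fun y => ?_) _ fun b => ?_
  · have : y ∈ U ⊔ V := hUV ▸ trivial
    rcases this with h | h
    · exact ⟨true, ⟨y, h⟩, rfl⟩
    · exact ⟨false, ⟨y, h⟩, rfl⟩
  · cases b
    · exact (hV i hi).of_iso (HDResIso V.ι E i).symm
    · exact (hU i hi).of_iso (HDResIso U.ι E i).symm

/-- perfect objects whose vanishing range detects boundedness -/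
def GenBdd (Y : Scheme.{u}) : Prop :=
  ∃ P : DCoh.D Y, DCoh.IsPerfect P ∧ ∀ E : DCoh.D Y, DCoh.IsQCohD E →
    (VanLow P E → ∃ a : ℤ, E.IsGE a) ∧ (VanHigh P E → ∃ b : ℤ, E.IsLE b)

theorem genBdd_of_union [QuasiSeparatedSpace X] [CompactSpace X] (U V : X.Opens) (hUV : U ⊔ V = ⊤)
    (hU : IsCompact (U : Set X)) (hV : IsAffineOpen V) (h : GenBdd (U : Scheme.{u})) : GenBdd X := by
  obtain ⟨P, hP, hgen⟩ := h
  have hW : IsCompact ((U ⊓ V : X.Opens) : Set X) := by
    rw [TopologicalSpace.Opens.coe_inf]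
    exact QuasiSeparatedSpace.inter_isCompact _ _ U.2 hU V.2 hV.isCompact
  let W := U ⊓ V
  have hcase : ∀ x : X, x ∈ U ∨ x ∈ V := fun x => by
    have : x ∈ U ⊔ V := hUV ▸ trivial
    exact this
  haveI : CompactSpace (U : Scheme.{u}) := isCompact_iff_compactSpace.1 hU
  haveI : QuasiSeparatedSpace (U : Scheme.{u}) := U.ι.isOpenEmbedding.quasiSeparatedSpace
  haveI : IsAffine (V : Scheme.{u}) := hV
  haveI : QuasiCompact U.ι := inferInstance
  haveI : QuasiCompact V.ι := haveI := isCompact_iff_compactSpace.1 hV.isCompact; inferInstance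
  let r := DCoh.restrictD (X.homOfLE (inf_le_left : W ≤ U))
  let r' := DCoh.restrictD (X.homOfLE (inf_le_right : W ≤ V))
  have hOb : IsCompact ((⊥ : X.Opens) : Set X) := by simp
  obtain ⟨b, hb, -, ⟨eb⟩⟩ := exists_affine_extension_supp hV (inf_le_right : W ≤ V) hW (bot_le : (⊥ : X.Opens) ≤ V) hOb
    (isPerfect_restrictD _ hP : DCoh.IsPerfect (r.obj P)) (fun i x hx => absurd hx (by simp))
  let a := P ⊞ P⟦(1 : ℤ)⟧
  have ha : DCoh.IsPerfect a := (perfect_two_out_of_three (binaryBiproductTriangle_distinguished _ _)).2.1 hP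
    (perfect_shift hP 1)
  haveI := preservesBinaryBiproducts_of_preservesBiproducts r
  obtain ⟨G, ⟨eU⟩, ⟨eV⟩, -⟩ := exists_glue U V a b
    (((resLE (inf_le_left : W ≤ U)).app _).symm ≪≫ r.mapIso (asIso ((adj U).counit.app a)) ≪≫
      r.mapBiprod P (P⟦(1 : ℤ)⟧) ≪≫ biprod.mapIso (Iso.refl _) ((r.commShiftIso (1 : ℤ)).app P) ≪≫ eb.symm ≪≫
      r'.mapIso (asIso ((adj V).counit.app b)).symm ≪≫ (resLE (inf_le_right : W ≤ V)).app _)
  obtain ⟨K, hK, hKW, hKgen⟩ := exists_affine_degree_detector hV (inf_le_right : W ≤ V) hW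
  obtain ⟨Q, ⟨qU⟩, ⟨qV⟩, -⟩ := exists_glue U V 0 K
    (IsZero.iso ((res W).map_isZero ((push U).map_isZero (isZero_zero _)))
      (hKW.of_iso (((resLE (inf_le_right : W ≤ V)).app _).symm ≪≫ r'.mapIso (asIso ((adj V).counit.app K)))))
  have hperf : ∀ {F : DCoh.D X}, DCoh.IsPerfect ((res U).obj F) → DCoh.IsPerfect ((res V).obj F) →
      DCoh.IsPerfect F := fun h1 h2 => isPerfect_of_cover fun x =>
    (hcase x).elim (fun hx => ⟨U, hx, h1⟩) (fun hx => ⟨V, hx, h2⟩)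
  have hG : DCoh.IsPerfect G := hperf (isPerfect_of_iso eU.symm ha) (isPerfect_of_iso eV.symm hb)
  have hQ : DCoh.IsPerfect Q :=
    hperf (EvalMain.isPerfect_of_isZero ((isZero_zero _).of_iso qU)) (isPerfect_of_iso qV.symm hK)
  refine ⟨G ⊞ Q, (perfect_two_out_of_three (binaryBiproductTriangle_distinguished _ _)).2.1 hG hQ, fun E hE => ?_⟩
  have hsG : ∀ n : ℤ, (∀ φ : G ⊞ Q ⟶ E⟦n⟧, φ = 0) → ∀ φ : G ⟶ E⟦n⟧, φ = 0 := fun n h φ => by
    have := (biprod.inl : G ⟶ G ⊞ Q) ≫= h (biprod.fst ≫ φ)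
    simpa using this
  have hsQ : ∀ n : ℤ, (∀ φ : G ⊞ Q ⟶ E⟦n⟧, φ = 0) → ∀ φ : Q ⟶ E⟦n⟧, φ = 0 := fun n h φ => by
    have := (biprod.inr : Q ⟶ G ⊞ Q) ≫= h (biprod.snd ≫ φ)
    simpa using this
  let L := (push U).obj ((res U).obj E)
  obtain ⟨F, p, d, hT⟩ := distinguished_cocone_triangle₁ ((adj U).unit.app E)
  have hFU : IsZero ((res U).obj F) :=
    (Triangle.isZero₁_iff_isIso₂ _ ((res U).map_distinguished _ hT)).2 (isIso_res_unit U E)
  have hQU : ∀ n : ℤ, IsZero ((res U).obj (Q⟦n⟧)) := fun n =>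
    ((shiftFunctor _ n).map_isZero ((isZero_zero _).of_iso qU)).of_iso (((res U).commShiftIso n).app Q)
  have hoL : Ortho Q L := fun m ψ => ((adj U).homEquiv _ _).symm.injective ((hQU m).eq_of_src _ _)
  have hQF : ∀ n : ℤ, (∀ φ : Q ⟶ E⟦n⟧, φ = 0) → ∀ φ : Q ⟶ F⟦n⟧, φ = 0 := fun n h φ => by
    have hTn := Triangle.shift_distinguished _ (inv_rot_of_distTriang _ hT) n
    obtain ⟨g, hg⟩ := Triangle.coyoneda_exact₂ _ hTn φ (by
      change φ ≫ (n.negOnePow • p⟦n⟧') = 0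
      rw [Linear.comp_units_smul, h (φ ≫ p⟦n⟧'), smul_zero])
    rw [hg, show g = 0 from hom_zero_of_ortho (ortho_shift hoL (-1)) n g, zero_comp]
  have hFq : DCoh.IsQCohD F := isQCohD_first _ hT hE
    (isQCohD_push hU (isQCohD_restrictD U.ι hE))
  let η := (adj V).unit.app F
  haveI hη : IsIso η := isLoc_of_zero (fun x => (hcase x).symm) hFU
  have hdet : ∀ n : ℤ, (∀ φ : Q ⟶ E⟦n⟧, φ = 0) → IsZero (DCoh.HD ((res V).obj F) n) := fun n h => by
    refine hKgen _ (isQCohD_restrictD V.ι hFq)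
      ((isZero_res_of_le inf_le_left hFU).of_iso ((resLE (inf_le_right : W ≤ V)).app F)) n fun φ => ?_
    let c := ((res V).commShiftIso n).app F
    rw [← cancel_epi qV.hom, comp_zero, ← cancel_mono c.inv, zero_comp]
    apply ((adj V).homEquiv _ _).injective
    haveI : IsIso ((adj V).unit.app (F⟦n⟧)) := isLoc_of_zero (fun x => (hcase x).symm)
      (((shiftFunctor _ n).map_isZero hFU).of_iso (((res U).commShiftIso n).app F))
    rw [← cancel_mono (inv ((adj V).unit.app (F⟦n⟧)))]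
    exact (hQF n h _).trans (hQF n h _).symm
  letI := commShiftRpush U.ι
  have hGU : ∀ n : ℤ, (∀ φ : G ⟶ E⟦n⟧, φ = 0) → (∀ φ : G ⟶ F⟦n + 1⟧, φ = 0) →
      ∀ ψ : P ⟶ ((res U).obj E)⟦n⟧, ψ = 0 := fun n h1 h2 ψ => by
    have hTn := Triangle.shift_distinguished _ hT n
    have h3 : ∀ φ : G ⟶ L⟦n⟧, φ = 0 := fun φ => by
      obtain ⟨g, hg⟩ := Triangle.coyoneda_exact₃ _ hTn φ (by
        rw [← cancel_mono ((shiftFunctorAdd (DCoh.D X) n 1).app F).inv, zero_comp]
        exact h2 _)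
      rw [hg, show g = 0 from h1 g, zero_comp]
    have h4 : (adj U).homEquiv G _ (eU.hom ≫ biprod.fst ≫ ψ) = 0 := by
      rw [← cancel_mono (((push U).commShiftIso n).hom.app ((res U).obj E)), zero_comp]
      exact h3 _
    have h5 : eU.hom ≫ biprod.fst ≫ ψ = 0 := by
      apply ((adj U).homEquiv _ _).injective
      haveI := (adj U).right_adjoint_additive
      rw [h4, Adjunction.homEquiv_unit, Functor.map_zero, comp_zero]
    calc ψ = (biprod.inl : P ⟶ a) ≫ eU.inv ≫ eU.hom ≫ biprod.fst ≫ ψ := by simp [a]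
      _ = 0 := by rw [h5, comp_zero, comp_zero]
  let t := DerivedCategory.TStructure.t (C := X.Modules)
  refine ⟨fun ⟨N, hN⟩ => ?_, fun ⟨N, hN⟩ => ?_⟩
  · have hFV : ((res V).obj F).IsGE (N + 1) := (DerivedCategory.isGE_iff _ _).2 fun i hi =>
      hdet i (hsQ i (hN i (by omega)))
    have hF : F.IsGE (N + 1) := by
      haveI := hFV
      haveI : t.IsGE ((res V ⋙ push V).obj F) (N + 1) := RpushQC.isGE_Rpush V.ι _ _
      exact t.isGE_of_iso (asIso η).symm (N + 1)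
    obtain ⟨M, hM⟩ := vanLow_of_isGE hG hF
    obtain ⟨a₁, ha₁⟩ := (hgen _ (isQCohD_restrictD U.ι hE)).1 ⟨min N (M - 1), fun n hn =>
      hGU n (hsG n (hN n (by omega))) (hM (n + 1) (by omega))⟩
    haveI : t.IsGE L a₁ := RpushQC.isGE_Rpush U.ι _ _
    haveI := hF
    haveI : t.IsGE F (N + 1) := hF
    have hFm : t.IsGE F (min (N + 1) a₁) := t.isGE_of_ge _ _ (N + 1) (min_le_left _ _)
    have hLm : t.IsGE L (min (N + 1) a₁) := t.isGE_of_ge _ _ a₁ (min_le_right _ _)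
    exact ⟨min (N + 1) a₁, t.isGE₂ _ hT (min (N + 1) a₁) hFm hLm⟩
  · obtain ⟨NV, hNV⟩ := exists_amp V.ι
    obtain ⟨NU, hNU⟩ := exists_amp U.ι
    have hFV : ((res V).obj F).IsLE (N - 1) := (DerivedCategory.isLE_iff _ _).2 fun i hi =>
      hdet i (hsQ i (hN i (by omega)))
    have hF : F.IsLE (N - 1 + NV) := by
      haveI : t.IsLE ((res V ⋙ push V).obj F) (N - 1 + NV) := hNV _ (isQCohD_restrictD V.ι hFq) _ hFV
      exact t.isLE_of_iso (asIso η).symm _
    obtain ⟨M, hM⟩ := vanHigh_of_isLE hG hFq hF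
    obtain ⟨b₁, hb₁⟩ := (hgen _ (isQCohD_restrictD U.ι hE)).2 ⟨max N M, fun n hn =>
      hGU n (hsG n (hN n (by omega))) (hM (n + 1) (by omega))⟩
    haveI : t.IsLE L (b₁ + NU) := hNU _ (isQCohD_restrictD U.ι hE) _ hb₁
    haveI : t.IsLE F (N - 1 + NV) := hF
    have hFm : t.IsLE F (max (N - 1 + NV) (b₁ + NU)) := t.isLE_of_le _ (N - 1 + NV) _ (le_max_left _ _)
    have hLm : t.IsLE L (max (N - 1 + NV) (b₁ + NU)) := t.isLE_of_le _ (b₁ + NU) _ (le_max_right _ _)
    exact ⟨max (N - 1 + NV) (b₁ + NU), t.isLE₂ _ hT _ hFm hLm⟩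

theorem genBdd_of_affines : ∀ (n : ℕ) (X : Scheme.{u}) [QuasiSeparatedSpace X] (A : Fin n → X.Opens),
    (∀ i, IsAffineOpen (A i)) → (⨆ i, A i) = ⊤ → GenBdd X
  | 0, X, _, A, _, h => by
    refine ⟨0, EvalMain.isPerfect_of_isZero (isZero_zero _), fun E _ => ?_⟩
    have hE : IsZero E := isZero_of_cover fun x => by
      have : x ∈ (⨆ i, A i) := h ▸ trivial
      obtain ⟨i, -⟩ := TopologicalSpace.Opens.mem_iSup.1 this
      exact i.elim0
    exact ⟨fun _ => ⟨0, (DerivedCategory.isGE_iff _ _).2 fun i _ =>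
        (DerivedCategory.homologyFunctor _ i).map_isZero hE⟩,
      fun _ => ⟨0, (DerivedCategory.isLE_iff _ _).2 fun i _ => (DerivedCategory.homologyFunctor _ i).map_isZero hE⟩⟩
  | n + 1, X, _, A, hA, h => by
    let U : X.Opens := ⨆ i : Fin n, A i.castSucc
    have hsub : ∀ i : Fin n, A i.castSucc ≤ U := fun i => le_iSup (fun i => A i.castSucc) i
    have hU : IsCompact (U : Set X) := by
      rw [TopologicalSpace.Opens.coe_iSup]
      exact isCompact_iUnion fun i => (hA _).isCompact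
    haveI : CompactSpace X := ⟨by
      rw [← TopologicalSpace.Opens.coe_top (α := X), ← h, TopologicalSpace.Opens.coe_iSup]
      exact isCompact_iUnion fun i => (hA i).isCompact⟩
    refine genBdd_of_union U (A (Fin.last n)) ?_ hU (hA _) ?_
    · refine eq_top_iff.2 fun x _ => ?_
      have : x ∈ (⨆ i, A i) := h ▸ trivial
      obtain ⟨i, hi⟩ := TopologicalSpace.Opens.mem_iSup.1 this
      cases i using Fin.lastCases with
      | last => exact Or.inr hi
      | cast j => exact Or.inl (hsub j hi)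
    · haveI : QuasiSeparatedSpace (U : Scheme.{u}) := U.ι.isOpenEmbedding.quasiSeparatedSpace
      refine genBdd_of_affines n U (fun i => U.ι ⁻¹ᵁ A i.castSucc)
        (fun i => (hA _).preimage_of_isOpenImmersion U.ι (by rw [Scheme.Opens.opensRange_ι]; exact hsub i))
        (eq_top_iff.2 fun x _ => ?_)
      obtain ⟨i, hi⟩ := TopologicalSpace.Opens.mem_iSup.1 (show U.ι x ∈ ⨆ i : Fin n, A i.castSucc from x.2)
      exact TopologicalSpace.Opens.mem_iSup.2 ⟨i, hi⟩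

theorem genBdd [CompactSpace X] [QuasiSeparatedSpace X] : GenBdd X := by
  classical
  obtain ⟨t, ht⟩ := (isCompact_univ (X := X)).elim_finite_subcover (fun V : X.affineOpens => (V.1 : Set X))
    (fun V => V.1.2) fun x _ => by
      obtain ⟨_, ⟨V, hV, rfl⟩, hxV, -⟩ := X.isBasis_affineOpens.exists_subset_of_mem_open (Set.mem_univ x) isOpen_univ
      exact Set.mem_iUnion.2 ⟨⟨V, hV⟩, hxV⟩
  refine genBdd_of_affines t.card X (fun i => (t.equivFin.symm i).1.1) (fun i => (t.equivFin.symm i).1.2)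
    (eq_top_iff.2 fun x _ => ?_)
  obtain ⟨V, hV, hx⟩ := Set.mem_iUnion₂.1 (ht (Set.mem_univ x))
  exact TopologicalSpace.Opens.mem_iSup.2 ⟨t.equivFin ⟨V, hV⟩, by simpa using hx⟩

open Groth.L29.Thick in
theorem vanLow_built {G E : DCoh.D X} (h : VanLow G E) {Y : DCoh.D X} (hY : Built G Y) : VanLow Y E := by
  induction hY with
  | gen m =>
    obtain ⟨N, hN⟩ := h
    refine ⟨N + m, fun n hn φ => ?_⟩
    refine (shiftFunctor (DCoh.D X) (-m)).map_injective ?_
    rw [Functor.map_zero, ← cancel_epi ((shiftFunctorCompIsoId (DCoh.D X) m (-m) (by omega)).inv.app G), comp_zero,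
      ← cancel_mono ((shiftFunctorAdd' (DCoh.D X) n (-m) (n - m) (by omega)).inv.app E), zero_comp]
    exact hN _ (by omega) _
  | zero hz => exact ⟨0, fun n _ φ => hz.eq_of_src _ _⟩
  | ext T hT _ _ h₁ h₃ =>
    obtain ⟨N₁, hN₁⟩ := h₁
    obtain ⟨N₃, hN₃⟩ := h₃
    refine ⟨min N₁ N₃, fun n hn φ => ?_⟩
    obtain ⟨g, hg⟩ := Triangle.yoneda_exact₂ T hT φ (hN₁ n (by omega) _)
    rw [hg, hN₃ n (by omega) g, comp_zero]
  | iso e _ h =>
    obtain ⟨N, hN⟩ := h
    exact ⟨N, fun n hn φ => (cancel_epi e.hom).1 ((hN n hn _).trans comp_zero.symm)⟩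

open Groth.L29.Thick in
theorem vanHigh_built {G E : DCoh.D X} (h : VanHigh G E) {Y : DCoh.D X} (hY : Built G Y) : VanHigh Y E := by
  induction hY with
  | gen m =>
    obtain ⟨N, hN⟩ := h
    refine ⟨N + m, fun n hn φ => ?_⟩
    refine (shiftFunctor (DCoh.D X) (-m)).map_injective ?_
    rw [Functor.map_zero, ← cancel_epi ((shiftFunctorCompIsoId (DCoh.D X) m (-m) (by omega)).inv.app G), comp_zero,
      ← cancel_mono ((shiftFunctorAdd' (DCoh.D X) n (-m) (n - m) (by omega)).inv.app E), zero_comp]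
    exact hN _ (by omega) _
  | zero hz => exact ⟨0, fun n _ φ => hz.eq_of_src _ _⟩
  | ext T hT _ _ h₁ h₃ =>
    obtain ⟨N₁, hN₁⟩ := h₁
    obtain ⟨N₃, hN₃⟩ := h₃
    refine ⟨max N₁ N₃, fun n hn φ => ?_⟩
    obtain ⟨g, hg⟩ := Triangle.yoneda_exact₂ T hT φ (hN₁ n (by omega) _)
    rw [hg, hN₃ n (by omega) g, comp_zero]
  | iso e _ h =>
    obtain ⟨N, hN⟩ := h
    exact ⟨N, fun n hn φ => (cancel_epi e.hom).1 ((hN n hn _).trans comp_zero.symm)⟩

variable [CompactSpace X] [QuasiSeparatedSpace X]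

theorem isGE_iff_vanLow {G : DCoh.D X} (hG : DCoh.IsPerfect G)
    (hgen : ∀ E : DCoh.D X, DCoh.IsQCohD E → Ortho G E → IsZero E) {E : DCoh.D X} (hE : DCoh.IsQCohD E) :
    (∃ a : ℤ, E.IsGE a) ↔ VanLow G E := by
  refine ⟨fun ⟨a, ha⟩ => vanLow_of_isGE hG ha, fun h => ?_⟩
  obtain ⟨P, hP, hPd⟩ := genBdd (X := X)
  obtain ⟨Y, hY, ⟨r⟩⟩ := exists_retract_of_generator hG hgen hP
  obtain ⟨N, hN⟩ := vanLow_built h hY
  refine (hPd E hE).1 ⟨N, fun n hn φ => ?_⟩
  rw [← Category.id_comp φ, ← r.retract, Category.assoc, hN n hn (r.r ≫ φ), comp_zero]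

theorem isLE_iff_vanHigh {G : DCoh.D X} (hG : DCoh.IsPerfect G)
    (hgen : ∀ E : DCoh.D X, DCoh.IsQCohD E → Ortho G E → IsZero E) {E : DCoh.D X} (hE : DCoh.IsQCohD E) :
    (∃ b : ℤ, E.IsLE b) ↔ VanHigh G E := by
  refine ⟨fun ⟨b, hb⟩ => vanHigh_of_isLE hG hE hb, fun h => ?_⟩
  obtain ⟨P, hP, hPd⟩ := genBdd (X := X)
  obtain ⟨Y, hY, ⟨r⟩⟩ := exists_retract_of_generator hG hgen hP
  obtain ⟨N, hN⟩ := vanHigh_built h hY
  refine (hPd E hE).2 ⟨N, fun n hn φ => ?_⟩
  rw [← Category.id_comp φ, ← r.retract, Category.assoc, hN n hn (r.r ≫ φ), comp_zero]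

end Groth.L29.DC.Gen
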