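import Groth.Agent.L29.K.Perfect
import Mathlib.Algebra.Homology.DerivedCategory.ShortExact
import Mathlib.Algebra.Homology.HomologicalComplexAbelian
import Mathlib.Algebra.Category.ModuleCat.Abelian

/-!
Maps from compact objects into bounded complexes of free modules factor through finite free subcomplexes.
-/

set_option autoImplicit false
set_option backward.defeqAttrib.useBackward true
set_option backward.isDefEq.respectTransparency false
set_option backward.isDefEq.respectTransparency.types false

universe u v w

open CategoryTheory CategoryTheory.Limits CategoryTheory.Pretriangulated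

attribute [local instance] HasDerivedCategory.standard

namespace Groth.L29.DC.Gen

variable {A : Type u} [CommRing A] (C : DRing.Cx A)

section Sub

/-- a `d`-stable family of submodules -/
structure Sub where
  N : ∀ i, Submodule A (C.X i)
  le : ∀ i j, N i ≤ (N j).comap (C.d i j).hom

variable {C}

/-- the quotient complex -/
noncomputable def Sub.quo (N : Sub C) : DRing.Cx A where
  X i := ModuleCat.of A (C.X i ⧸ N.N i)
  d i j := ModuleCat.ofHom ((N.N i).mapQ (N.N j) (C.d i j).hom (N.le i j))
  shape i j h := by
    refine ModuleCat.hom_ext (Submodule.linearMap_qext _ (LinearMap.ext fun x => ?_))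
    simp [C.shape i j h]
  d_comp_d' i j k _ _ := by
    refine ModuleCat.hom_ext (Submodule.linearMap_qext _ (LinearMap.ext fun x => ?_))
    change Submodule.Quotient.mk ((C.d j k).hom ((C.d i j).hom x)) = (0 : C.X k ⧸ N.N k)
    rw [show (C.d j k).hom ((C.d i j).hom x) = 0 from congr($(C.d_comp_d i j k) x)]
    rfl

/-- the subcomplex -/
noncomputable def Sub.sub (N : Sub C) : DRing.Cx A where
  X i := ModuleCat.of A (N.N i)
  d i j := ModuleCat.ofHom ((C.d i j).hom.restrict (N.le i j))
  shape i j h := by
    refine ModuleCat.hom_ext (LinearMap.ext fun x => Subtype.ext ?_)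
    simp [C.shape i j h]
  d_comp_d' i j k _ _ := by
    refine ModuleCat.hom_ext (LinearMap.ext fun x => Subtype.ext ?_)
    exact congr($(C.d_comp_d i j k) x.1)

/-- the inclusion -/
noncomputable def Sub.incl (N : Sub C) : N.sub ⟶ C where
  f i := ModuleCat.ofHom (N.N i).subtype
  comm' i j _ := rfl

/-- the projection -/
noncomputable def Sub.proj (N : Sub C) : C ⟶ N.quo where
  f i := ModuleCat.ofHom (N.N i).mkQ
  comm' i j _ := rfl

/-- projection between quotients -/
noncomputable def Sub.trans {N N' : Sub C} (h : ∀ i, N.N i ≤ N'.N i) : N.quo ⟶ N'.quo where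
  f i := ModuleCat.ofHom (Submodule.factor (h i))
  comm' i j _ := ModuleCat.hom_ext (Submodule.linearMap_qext _ rfl)

theorem Sub.proj_trans {N N' : Sub C} (h : ∀ i, N.N i ≤ N'.N i) : N.proj ≫ Sub.trans h = N'.proj :=
  HomologicalComplex.hom_ext _ _ fun i => rfl

theorem Sub.incl_proj (N : Sub C) : N.incl ≫ N.proj = 0 :=
  HomologicalComplex.hom_ext _ _ fun i => ModuleCat.hom_ext (LinearMap.ext fun x =>
    (Submodule.Quotient.mk_eq_zero _).2 x.2)

theorem Sub.shortExact (N : Sub C) : (ShortComplex.mk N.incl N.proj N.incl_proj).ShortExact := by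
  refine HomologicalComplex.shortExact_of_degreewise_shortExact _ fun i => ?_
  refine { exact := ?_, mono_f := ?_, epi_g := ?_ }
  · rw [ShortComplex.moduleCat_exact_iff]
    exact fun x hx => ⟨⟨x, (Submodule.Quotient.mk_eq_zero _).1 hx⟩, rfl⟩
  · exact (ModuleCat.mono_iff_injective _).2 Subtype.val_injective
  · exact (ModuleCat.epi_iff_surjective _).2 (Submodule.mkQ_surjective _)

end Sub

variable {D : Type v} [Category.{w} D] [Preadditive D] [HasZeroObject D] [HasShift D ℤ]
  [∀ n : ℤ, (shiftFunctor D n).Additive] [Pretriangulated D]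
  (Φ : Dual.D A ⥤ D) [Φ.CommShift ℤ] [Φ.IsTriangulated] (X : D)

/-- a module in one degree -/
noncomputable abbrev sgl (A : Type u) [CommRing A] (m : ℤ) : ModuleCat.{u} A ⥤ Dual.D A :=
  HomologicalComplex.single (ModuleCat.{u} A) (ComplexShape.up ℤ) m ⋙ DerivedCategory.Q

/-- projection of a based module to the span of finitely many basis vectors -/
noncomputable def cutBasis {J : Type u} {M : ModuleCat.{u} A} (b : Module.Basis J A M) (t : Finset J) : M →ₗ[A] M := by
  classical exact b.constr A fun j => if j ∈ t then b j else 0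

theorem cutBasis_mem {J : Type u} {M : ModuleCat.{u} A} (b : Module.Basis J A M) (t : Finset J) (x : M) :
    cutBasis b t x ∈ Submodule.span A (b '' (t : Set J)) := by
  classical
  rw [cutBasis, Module.Basis.constr_apply]
  refine Submodule.sum_mem _ fun j _ => Submodule.smul_mem _ _ ?_
  split
  · exact Submodule.subset_span (Set.mem_image_of_mem b (by assumption))
  · exact zero_mem _

theorem cutBasis_eq_self {J : Type u} {M : ModuleCat.{u} A} (b : Module.Basis J A M) (t : Finset J) {x : M}
    (hx : x ∈ Submodule.span A (b '' (t : Set J))) : cutBasis b t x = x := by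
  classical
  refine LinearMap.eqOn_span (f := cutBasis b t) (g := LinearMap.id) ?_ hx
  rintro _ ⟨j, hj, rfl⟩
  simp [cutBasis, Finset.mem_coe.1 hj]

/-- compactness for free modules in one degree -/
def CompactFree : Prop :=
  ∀ (m : ℤ) (M : ModuleCat.{u} A) (J : Type u) (b : Module.Basis J A M) (ψ : X ⟶ Φ.obj ((sgl A m).obj M)),
    ∃ t : Finset J, ψ ≫ Φ.map ((sgl A m).map (ModuleCat.ofHom (cutBasis b t))) = ψ

variable {Φ X}

theorem exists_kill_quotient (hX : CompactFree Φ X) (J : ℤ → Type u) (b : ∀ i, Module.Basis (J i) A (C.X i))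
    {a : ℤ} (ha : ∀ i, i < a → IsZero (C.X i)) (φ : X ⟶ Φ.obj (DerivedCategory.Q.obj C)) (k : ℕ) :
    ∃ (s : ∀ i, Finset (J i)) (N : Sub C),
      (∀ i, N.N i = if i < a + k then Submodule.span A (b i '' (s i : Set (J i))) else ⊤) ∧
        φ ≫ Φ.map (DerivedCategory.Q.map N.proj) = 0 := by
  classical
  induction k with
  | zero =>
    refine ⟨fun _ => ∅, ⟨fun i => if i < a then ⊥ else ⊤, fun i j => ?_⟩, fun i => by simp, ?_⟩
    · by_cases hi : i < a
      · simp [hi]
      · intro x _
        change (C.d i j).hom x ∈ (if j < a then ⊥ else ⊤ : Submodule A (C.X j))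
        by_cases hj : j < a
        · simp [(ha j hj).eq_of_tgt (C.d i j) 0]
        · simp [hj]
    · rw [show (Sub.proj (C := C) _) = 0 from HomologicalComplex.hom_ext _ _ fun i => ?_, Functor.map_zero,
        Functor.map_zero, comp_zero]
      by_cases hi : i < a
      · exact (ha i hi).eq_of_src _ _
      · exact ModuleCat.hom_ext (LinearMap.ext fun x => (Submodule.Quotient.mk_eq_zero _).2 (by simp [hi]))
  | succ k ih =>
    obtain ⟨s, N₀, hN₀, hφ⟩ := ih
    set m : ℤ := a + k with hm
    obtain ⟨s₁, hs₁⟩ : ∃ s₁ : Finset (J m), ∀ j ∈ s (m - 1),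
        (C.d (m - 1) m).hom (b (m - 1) j) ∈ Submodule.span A (b m '' (s₁ : Set (J m))) := by
      refine ⟨(s (m - 1)).biUnion fun j => ((b m).repr ((C.d (m - 1) m).hom (b (m - 1) j))).support, fun j hj => ?_⟩
      refine Submodule.span_mono (Set.image_mono ?_) ((b m).mem_span_repr_support _)
      intro x hx
      exact Finset.mem_coe.2 (Finset.mem_biUnion.2 ⟨j, hj, hx⟩)
    let fam : Finset (J m) → ∀ i, Submodule A (C.X i) := fun t i =>
      if h : i = m then Submodule.span A (b i '' ((h ▸ (s₁ ∪ t) : Finset (J i)) : Set (J i))) else N₀.N i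
    have fam_self : ∀ t, fam t m = Submodule.span A (b m '' ((s₁ ∪ t : Finset (J m)) : Set (J m))) := fun t => by
      simp [fam]
    have fam_ne : ∀ t i, i ≠ m → fam t i = N₀.N i := fun t i h => dif_neg h
    have fam_le : ∀ t i j, fam t i ≤ (fam t j).comap (C.d i j).hom := fun t i j => by
      by_cases hij : i + 1 = j
      · by_cases hj : j = m
        · subst hj
          have hi : i ≠ m := by omega
          rw [fam_ne t i hi, fam_self, hN₀ i, if_pos (by omega), Submodule.span_le]
          rintro _ ⟨q, hq, rfl⟩
          obtain rfl : i = m - 1 := by omega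
          exact Submodule.span_mono (Set.image_mono (Finset.coe_subset.2 Finset.subset_union_left)) (hs₁ q hq)
        · rw [fam_ne t j hj]
          by_cases hi : i = m
          · have : N₀.N j = ⊤ := by rw [hN₀, if_neg (by omega)]
            simp [this]
          · rw [fam_ne t i hi]
            exact N₀.le i j
      · rw [C.shape i j hij]
        intro x _
        simp
    let N : Finset (J m) → Sub C := fun t => ⟨fam t, fam_le t⟩
    have hle : ∀ t i, (N t).N i ≤ N₀.N i := fun t i => by
      by_cases hi : i = m
      · subst hi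
        have : N₀.N m = ⊤ := by rw [hN₀, if_neg (by omega)]
        rw [this]
        exact le_top
      · exact (fam_ne t i hi).le
    have hm' : ∀ t, (N t).N (m + 1) = ⊤ := fun t => by
      change fam t (m + 1) = ⊤
      rw [fam_ne t _ (by omega), hN₀, if_neg (by omega)]
    let ι : ∀ t, (HomologicalComplex.single (ModuleCat.{u} A) (ComplexShape.up ℤ) m).obj
        (ModuleCat.of A (C.X m ⧸ (N t).N m)) ⟶ (N t).quo := fun t =>
      HomologicalComplex.mkHomFromSingle (𝟙 _) fun j (hj : m + 1 = j) => by
        subst hj
        refine ModuleCat.hom_ext (Submodule.linearMap_qext _ (LinearMap.ext fun x => ?_))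
        exact (Submodule.Quotient.mk_eq_zero _).2 (by rw [hm']; exact Submodule.mem_top)
    have w : ι ∅ ≫ Sub.trans (hle ∅) = 0 := HomologicalComplex.from_single_hom_ext
      (ModuleCat.hom_ext (LinearMap.ext fun y => by
        haveI : Subsingleton (C.X m ⧸ N₀.N m) := Submodule.Quotient.subsingleton_iff.2 (by rw [hN₀, if_neg (by omega)])
        exact Subsingleton.elim (α := C.X m ⧸ N₀.N m) _ _))
    have hses : (ShortComplex.mk (ι ∅) (Sub.trans (hle ∅)) w).ShortExact := by
      refine HomologicalComplex.shortExact_of_degreewise_shortExact _ fun i => ?_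
      have hepi : Epi ((Sub.trans (hle ∅)).f i) :=
        (ModuleCat.epi_iff_surjective _).2 (Submodule.factor_surjective (hle ∅ i))
      by_cases hi : i = m
      · subst hi
        haveI : IsIso ((ι ∅).f m) := by
          simp [ι]
          infer_instance
        refine { exact := ?_, mono_f := ?_, epi_g := ?_ }
        · rw [ShortComplex.moduleCat_exact_iff]
          exact fun x _ => (ConcreteCategory.bijective_of_isIso ((ι ∅).f m)).surjective x
        · exact inferInstanceAs (Mono ((ι ∅).f m))
        · exact hepi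
      · refine { exact := ?_, mono_f := ?_, epi_g := ?_ }
        · rw [ShortComplex.moduleCat_exact_iff]
          intro x hx
          refine ⟨0, (map_zero _).trans ?_⟩
          obtain ⟨y, rfl⟩ := Submodule.Quotient.mk_surjective _ x
          refine ((Submodule.Quotient.mk_eq_zero _).2 ?_).symm
          rw [show (N ∅).N i = N₀.N i from fam_ne ∅ i hi]
          exact (Submodule.Quotient.mk_eq_zero _).1 hx
        · exact ⟨fun {Z} g h _ => (HomologicalComplex.isZero_single_obj_X (ComplexShape.up ℤ) m _ i hi).eq_of_tgt g h⟩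
        · exact hepi
    have hd := DerivedCategory.triangleOfSES_distinguished hses
    obtain ⟨ψ, hψ⟩ := Triangle.coyoneda_exact₂ _ (Φ.map_distinguished _ hd)
      (φ ≫ Φ.map (DerivedCategory.Q.map (N ∅).proj)) (by
        change (φ ≫ Φ.map _) ≫ Φ.map (DerivedCategory.Q.map (Sub.trans (hle ∅))) = 0
        rw [Category.assoc, ← Φ.map_comp, ← Functor.map_comp, Sub.proj_trans, hφ])
    change _ = ψ ≫ Φ.map (DerivedCategory.Q.map (ι ∅)) at hψ
    let σ : ModuleCat.of A (C.X m ⧸ (N ∅).N m) ⟶ C.X m := ModuleCat.ofHom
      (((N ∅).N m).liftQ (LinearMap.id - cutBasis (b m) (s₁ ∪ ∅)) fun x hx => by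
        change x - cutBasis (b m) (s₁ ∪ ∅) x = 0
        rw [cutBasis_eq_self (b m) _ (by rw [← fam_self]; exact hx), sub_self])
    obtain ⟨t, ht⟩ := hX m (C.X m) (J m) (b m) (ψ ≫ Φ.map ((sgl A m).map σ))
    refine ⟨fun i => if h : i = m then h ▸ (s₁ ∪ t) else s i, N t, fun i => ?_, ?_⟩
    · by_cases hi : i = m
      · subst hi
        simp only [↓reduceDIte]
        rw [if_pos (by omega)]
        exact fam_self t
      · simp only [dif_neg hi]
        change fam t i = _
        rw [fam_ne t i hi, hN₀]
        by_cases h : i < m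
        · rw [if_pos h, if_pos (by omega)]
        · rw [if_neg h, if_neg (by omega)]
    · have hle' : ∀ i, (N ∅).N i ≤ (N t).N i := fun i => by
        by_cases hi : i = m
        · subst hi
          change fam ∅ m ≤ fam t m
          rw [fam_self, fam_self]
          exact Submodule.span_mono (Set.image_mono (by simp))
        · exact ((fam_ne ∅ i hi).trans (fam_ne t i hi).symm).le
      let q : C.X m ⟶ ModuleCat.of A (C.X m ⧸ (N ∅).N m) := ModuleCat.ofHom ((N ∅).N m).mkQ
      let r := (HomologicalComplex.single (ModuleCat.{u} A) (ComplexShape.up ℤ) m).map q ≫ ι ∅ ≫ Sub.trans hle'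
      have h1 : (HomologicalComplex.single (ModuleCat.{u} A) (ComplexShape.up ℤ) m).map σ ≫ r = ι ∅ ≫ Sub.trans hle' := by
        rw [← Category.assoc, ← Functor.map_comp, show σ ≫ q = 𝟙 _ from ModuleCat.hom_ext
          (Submodule.linearMap_qext _ (LinearMap.ext fun x => by
            change Submodule.Quotient.mk (x - cutBasis (b m) (s₁ ∪ ∅) x) = Submodule.Quotient.mk x
            rw [Submodule.Quotient.eq]
            simp only [sub_sub_cancel_left, neg_mem_iff]
            change _ ∈ fam ∅ m
            rw [fam_self]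
            exact cutBasis_mem _ _ _)), CategoryTheory.Functor.map_id, Category.id_comp]
      have h2 : (HomologicalComplex.single (ModuleCat.{u} A) (ComplexShape.up ℤ) m).map
          (ModuleCat.ofHom (cutBasis (b m) t)) ≫ r = 0 := HomologicalComplex.from_single_hom_ext
        (ModuleCat.hom_ext (LinearMap.ext fun y => by
          simp [r, ι, q, Sub.trans, HomologicalComplex.single_map_f_self]
          refine (Submodule.Quotient.mk_eq_zero _).2 ?_
          change _ ∈ fam t m
          rw [fam_self]
          exact Submodule.span_mono (Set.image_mono (Finset.coe_subset.2 Finset.subset_union_right)) (cutBasis_mem _ _ _)))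
      rw [← Sub.proj_trans hle', Functor.map_comp, Functor.map_comp, ← Category.assoc, hψ, Category.assoc,
        ← Φ.map_comp, ← Functor.map_comp, ← h1, Functor.map_comp, Φ.map_comp, ← Category.assoc]
      change (ψ ≫ Φ.map ((sgl A m).map σ)) ≫ _ = 0
      rw [← ht, Category.assoc, ← Φ.map_comp]
      change _ ≫ Φ.map (DerivedCategory.Q.map _ ≫ DerivedCategory.Q.map r) = 0
      rw [← Functor.map_comp, h2, Functor.map_zero, Functor.map_zero, comp_zero]

/-- maps into bounded free complexes factor through perfect complexes -/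
theorem exists_perfect_fac (hX : CompactFree Φ X) {a b : ℤ} (hv : DRing.VanishesOutside C a b)
    (hf : ∀ i, Module.Free A (C.X i)) (φ : X ⟶ Φ.obj (DerivedCategory.Q.obj C)) :
    ∃ (G : Dual.D A) (g : X ⟶ Φ.obj G) (h : G ⟶ DerivedCategory.Q.obj C),
      DRing.IsPerfect A G ∧ g ≫ Φ.map h = φ := by
  classical
  let J : ℤ → Type u := fun i => haveI := hf i; Module.Free.ChooseBasisIndex A (C.X i)
  let B : ∀ i, Module.Basis (J i) A (C.X i) := fun i => haveI := hf i; Module.Free.chooseBasis A (C.X i)
  obtain ⟨s, N, hN, hφ⟩ := exists_kill_quotient C hX J B (fun i hi => hv i (Or.inl hi)) φ (b + 1 - a).toNat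
  obtain ⟨g, hg⟩ := Triangle.coyoneda_exact₂ _
    (Φ.map_distinguished _ (DerivedCategory.triangleOfSES_distinguished N.shortExact)) φ hφ
  refine ⟨DerivedCategory.Q.obj N.sub, g, DerivedCategory.Q.map N.incl,
    ⟨N.sub, a, b, fun i hi => ?_, fun i => ?_, ⟨Iso.refl _⟩⟩, hg.symm⟩
  · haveI := ModuleCat.subsingleton_of_isZero (hv i hi)
    haveI : Subsingleton (N.N i) := inferInstance
    exact ModuleCat.isZero_of_subsingleton (ModuleCat.of A (N.N i))
  · change Module.Finite A (N.N i) ∧ Module.Projective A (N.N i)
    by_cases h : i < a + ((b + 1 - a).toNat : ℤ)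
    · have e : N.N i = Submodule.span A (B i '' (s i : Set (J i))) := (hN i).trans (if_pos h)
      refine ⟨Module.Finite.iff_fg.2 (e ▸ Submodule.fg_span ((s i).finite_toSet.image _)), ?_⟩
      rw [e]
      haveI := hf i
      refine Module.Projective.of_split (M := C.X i) (Submodule.subtype _)
        (LinearMap.codRestrict _ (cutBasis (B i) (s i)) (cutBasis_mem _ _))
        (LinearMap.ext fun x => Subtype.ext (cutBasis_eq_self _ _ x.2))
    · haveI := ModuleCat.subsingleton_of_isZero (hv i (Or.inr (by omega)))
      exact ⟨inferInstance, inferInstance⟩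

end Groth.L29.DC.Gen
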