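import Groth.Agent.L29.DCoh.Gen.Main
import Groth.Prelude.Def_Wider

/-!
The Koszul complex on an affine scheme and the open complement of its zero locus.
-/

set_option autoImplicit false
set_option backward.defeqAttrib.useBackward true
set_option backward.isDefEq.respectTransparency false
set_option backward.isDefEq.respectTransparency.types false

universe u

open CategoryTheory CategoryTheory.Limits CategoryTheory.Pretriangulated AlgebraicGeometry

attribute [local instance] HasDerivedCategory.standard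

namespace Groth.L29.DC.Gen

section Degrees

variable {A : Type u} [CommRing A]

theorem kill_unit {f : A} {F : Dual.D A} (hF : ∀ x : Dual.HD A F 0, ∃ N : ℕ, f ^ N • x = 0)
    (h : kObj ([] : List A) ⟶ F) : ∃ N : ℕ, f ^ N • h = 0 := by
  let e : kObj ([] : List A) ≅ Dual.inD A A :=
    (((SingleFunctors.evaluation _ _ 0).mapIso
      (DerivedCategory.singleFunctorsPostcompQIso (ModuleCat.{u} A))).app (ModuleCat.of A A)).symm
  obtain ⟨N, hN⟩ := hF (Groth.L29.HomD.evalEquiv F (e.inv ≫ h))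
  refine ⟨N, (cancel_epi e.inv).1 ?_⟩
  rw [Linear.comp_smul, comp_zero]
  exact (Groth.L29.HomD.evalEquiv F).injective (by rw [map_smul, hN, map_zero])

/-- maps from the Koszul object are killed when cohomology is torsion in the degrees it sees -/
theorem kill_kObj_hom {f : A} : ∀ (l : List A) (F : Dual.D A),
    (∀ i : ℤ, -(l.length : ℤ) ≤ i → i ≤ 0 → ∀ x : Dual.HD A F i, ∃ N : ℕ, f ^ N • x = 0) →
    ∀ h : kObj l ⟶ F, ∃ N : ℕ, f ^ N • h = 0
  | [], _, hF, h => kill_unit (hF 0 (by simp) le_rfl) h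
  | a :: l, F, hF, h => by
    simp only [List.length_cons, Nat.cast_add, Nat.cast_one] at hF
    obtain ⟨u, d, hT⟩ := exists_triangle_cons a l
    obtain ⟨N, hN⟩ := kill_kObj_hom l F (fun i h1 h2 => hF i (by omega) h2) (u ≫ h)
    obtain ⟨t, ht⟩ := Triangle.yoneda_exact₃ _ hT (f ^ N • h)
      (by
        change u ≫ (f ^ N • h) = 0
        rw [Linear.comp_smul, hN])
    change (kObj l)⟦(1 : ℤ)⟧ ⟶ F at t
    let G := shiftFunctor (Dual.D A) (-1 : ℤ)
    let c := (shiftFunctorCompIsoId (Dual.D A) (1 : ℤ) (-1) (by omega)).app (kObj l)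
    obtain ⟨M, hM⟩ := kill_kObj_hom l (F⟦(-1 : ℤ)⟧) (fun i h1 h2 x => by
      let e := (Groth.L10.hShiftIso (A := ModuleCat.{u} A) F (-1) i (i - 1) (by omega)).toLinearEquiv
      obtain ⟨M, hM⟩ := hF (i - 1) (by omega) (by omega) (e x)
      exact ⟨M, e.injective (by rw [map_smul, map_zero]; exact hM)⟩) (c.inv ≫ G.map t)
    have ht0 : f ^ M • t = 0 := by
      refine G.map_injective ?_
      rw [Functor.map_smul, Functor.map_zero, ← cancel_epi c.inv, comp_zero, Linear.comp_smul]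
      exact hM
    exact ⟨M + N, by rw [pow_add, mul_smul, ht, ← Linear.comp_smul, ht0, comp_zero]⟩

/-- the bottom map of the Koszul object -/
theorem exists_bottom (f : A) (l : List A) :
    ∃ (a : kObj l ⟶ kObj (f :: l)), (f • 𝟙 (kObj l)) ≫ a = 0 ∧
      (∀ {F : Dual.D A} (h : kObj l ⟶ F), f • h = 0 → ∃ k, a ≫ k = h) := by
  obtain ⟨a, d, hT⟩ := exists_triangle_cons f l
  refine ⟨a, comp_distTriang_mor_zero₁₂ _ hT, fun h h0 => ?_⟩
  obtain ⟨k, hk⟩ := Triangle.yoneda_exact₂ _ hT h (by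
    change (f • 𝟙 (kObj l) : kObj l ⟶ kObj l) ≫ h = 0
    rw [Linear.smul_comp, Category.id_comp, h0])
  exact ⟨k, hk.symm⟩

/-- factorisation of a class through Koszul objects of high powers -/
theorem exists_fac_powers : ∀ (l : List A) (F : Dual.D A),
    (∀ f ∈ l, ∀ i : ℤ, -(l.length : ℤ) < i → i ≤ 0 → ∀ x : Dual.HD A F i, ∃ N : ℕ, f ^ N • x = 0) →
    ∀ h : kObj ([] : List A) ⟶ F, ∃ N : ℕ, ∀ e, N ≤ e →
      ∃ (t : kObj ([] : List A) ⟶ kObj (l.map (· ^ e))) (ψ : kObj (l.map (· ^ e)) ⟶ F), t ≫ ψ = h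
  | [], F, _, h => ⟨0, fun e _ => ⟨𝟙 _, h, Category.id_comp h⟩⟩
  | f :: l, F, hF, h => by
    simp only [List.length_cons, Nat.cast_add, Nat.cast_one] at hF
    obtain ⟨N, hN⟩ := exists_fac_powers l F
      (fun g hg i h1 h2 => hF g (List.mem_cons_of_mem _ hg) i (by omega) h2) h
    obtain ⟨t, ψ, hψ⟩ := hN N le_rfl
    obtain ⟨M, hM⟩ := kill_kObj_hom (l.map (· ^ N)) F (fun i h1 h2 => hF f List.mem_cons_self i
      (by simp only [List.length_map] at h1; omega) h2) ψ
    refine ⟨max N M, fun e he => ?_⟩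
    -- compare the exponent `e` with the exponent `N`
    have hc : ∀ l' : List A, ∃ (c : kObj (l'.map (· ^ e)) ⟶ kObj (l'.map (· ^ N))),
        ∀ s : kObj ([] : List A) ⟶ kObj (l'.map (· ^ N)), ∃ s', s' ≫ c = s := by
      intro l'
      induction l' with
      | nil => exact ⟨𝟙 _, fun s => ⟨s, Category.comp_id s⟩⟩
      | cons g l' ih =>
        obtain ⟨c, hc⟩ := ih
        obtain ⟨a₁, d₁, h₁⟩ := exists_triangle_cons (g ^ e) (l'.map (· ^ e))
        obtain ⟨a₂, d₂, h₂⟩ := exists_triangle_cons (g ^ N) (l'.map (· ^ N))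
        obtain ⟨c', hc', hd'⟩ := complete_distinguished_triangle_morphism _ _ h₁ h₂ (g ^ (e - N) • c) c (by
          change (g ^ e • 𝟙 _) ≫ c = (g ^ (e - N) • c) ≫ (g ^ N • 𝟙 _)
          rw [Linear.smul_comp, Category.id_comp, Linear.comp_smul, Category.comp_id, ← mul_smul, ← pow_add]
          congr 2
          omega)
        change a₁ ≫ c' = c ≫ a₂ at hc'
        refine ⟨c', fun s => ?_⟩
        -- classes of degree zero lift along the bottom map
        obtain ⟨s₀, hs₀⟩ := Triangle.coyoneda_exact₃ _ h₂ s (hom_unit_shift_zero (l'.map (· ^ N)) _)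
        change kObj ([] : List A) ⟶ kObj (l'.map (· ^ N)) at s₀
        change s = s₀ ≫ a₂ at hs₀
        obtain ⟨s₁, hs₁⟩ := hc s₀
        exact ⟨s₁ ≫ a₁, by rw [Category.assoc, hc', ← Category.assoc, hs₁, hs₀]⟩
    obtain ⟨c, hc⟩ := hc l
    obtain ⟨t', ht'⟩ := hc t
    obtain ⟨a, -, ha⟩ := exists_bottom (f ^ e) (l.map (· ^ e))
    obtain ⟨k, hk⟩ := ha (c ≫ ψ) (by
      rw [← Linear.comp_smul, smul_eq_zero_of_le ψ hM (le_trans (le_max_right N M) he), comp_zero])
    exact ⟨t' ≫ a, k, by rw [Category.assoc, hk, ← Category.assoc, ht', hψ]⟩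
where
  hom_unit_shift_zero (l : List A) (φ : kObj ([] : List A) ⟶ (kObj l)⟦(1 : ℤ)⟧) : φ = 0 := by
    let e : kObj ([] : List A) ≅ Dual.inD A A :=
      (((SingleFunctors.evaluation _ _ 0).mapIso
        (DerivedCategory.singleFunctorsPostcompQIso (ModuleCat.{u} A))).app (ModuleCat.of A A)).symm
    haveI : Subsingleton (Dual.HD A (kObj l) 1) := ModuleCat.subsingleton_of_isZero (isZero_kObj_pos l 1 (by omega))
    rw [← cancel_epi e.inv, comp_zero]
    exact (Groth.L29.HomD.evalShiftEquiv (W := kObj l) 1).injective (Subsingleton.elim _ _)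
  isZero_kObj_pos : ∀ (l : List A) (i : ℤ), 0 < i →
      IsZero ((DerivedCategory.homologyFunctor (ModuleCat.{u} A) i).obj (kObj l))
    | [], i, hi => by
      refine IsZero.of_iso ?_ ((DerivedCategory.homologyFunctorFactors _ i).app _)
      refine ShortComplex.isZero_homology_of_isZero_X₂ _ ?_
      exact HomologicalComplex.isZero_single_obj_X (ComplexShape.up ℤ) 0 _ i (by omega)
    | g :: l, i, hi => by
      obtain ⟨a, d, hT⟩ := exists_triangle_cons g l
      refine ShortComplex.Exact.isZero_X₂ ((DerivedCategory.homologyFunctor (ModuleCat.{u} A) i).map_distinguished_exact _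
        (rot_of_distTriang _ hT)) ((isZero_kObj_pos l i hi).eq_of_src _ _) ?_
      refine IsZero.eq_of_tgt ?_ _ _
      exact (isZero_kObj_pos l (i + 1) (by omega)).of_iso
        (Groth.L10.hShiftIso (A := ModuleCat.{u} A) (kObj l) 1 i (i + 1) (by omega))

end Degrees

variable {A : Type u} [CommRing A] (fs : List A)

/-- the open complement of the common zeros -/
abbrev Wp (fs : List A) : (Spec (CommRingCat.of A)).Opens := LocCoh.puncturedOpen A (Ideal.span {a | a ∈ fs})

theorem bo_le {f : A} (hf : f ∈ fs) : (bo (R := (CommRingCat.of A)) f) ≤ (Wp fs) := fun x hx h =>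
  hx (h (Ideal.subset_span hf))

theorem exists_mem_bo {x : Spec (CommRingCat.of A)} (hx : x ∈ (Wp fs)) : ∃ f ∈ fs, x ∈ bo (R := (CommRingCat.of A)) f := by
  by_contra h
  push Not at h
  refine hx ((PrimeSpectrum.mem_zeroLocus _ _).2 (Ideal.span_le.2 fun f hf => ?_))
  by_contra hfx
  exact h f hf hfx

variable [PreservesFiniteLimits (tilde.functor (CommRingCat.of A))]

theorem isZero_res_punctured (F : Dual.D A) :
    IsZero ((res (Wp fs)).obj ((DCoh.tildeD (CommRingCat.of A)).obj F)) ↔ ∀ f ∈ fs, Tors f F := by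
  refine (isZero_tres_iff (R := (CommRingCat.of A)) (Wp fs).ι fs (fun f hf => ?_) (fun x hx => ?_) F)
  · rw [Scheme.Opens.opensRange_ι]; exact bo_le fs hf
  · rw [Scheme.Opens.opensRange_ι] at hx; exact exists_mem_bo fs hx

theorem tors_at_of_restrict {F : Dual.D A} {i : ℤ}
    (h : IsZero ((DCoh.HD ((DCoh.tildeD (CommRingCat.of A)).obj F) i).restrict (Wp fs).ι)) {f : A} (hf : f ∈ fs)
    (x : Dual.HD A F i) : ∃ N : ℕ, f ^ N • x = 0 := by
  refine (forall_stalk_iff_tors (R := (CommRingCat.of A)) f ((Groth.L02.PC.HH i).obj F)).1 (fun y hy => ?_) x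
  exact (Cpt.isZero_stalk_of_res (Wp fs).ι _ h ⟨y, bo_le fs hf hy⟩).of_iso
    ((Groth.L00.Stk.F (Spec (CommRingCat.of A)) _).mapIso (TildeAlg.hdIso (R := CommRingCat.of A) F i)).symm

theorem orthogonal_iff {E : DCoh.D (Spec (CommRingCat.of A))} (hE : DCoh.IsQCohD E) :
    (∃ M : DCoh.D (((Wp fs) : (Spec (CommRingCat.of A)).Opens) : Scheme.{u}), DCoh.IsQCohD M ∧ Nonempty (E ≅ (push (Wp fs)).obj M)) ↔
      Ortho ((DCoh.tildeD (CommRingCat.of A)).obj (kObj fs)) E := by
  haveI := (TildeD.fullyFaithful (R := (CommRingCat.of A))).1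
  haveI := (TildeD.fullyFaithful (R := (CommRingCat.of A))).2
  let T := DCoh.tildeD (CommRingCat.of A)
  have hK : IsZero ((res (Wp fs)).obj (T.obj (kObj fs))) :=
    (isZero_res_punctured fs _).2 fun f hf => tors_of_kill (kill_kObj fs f hf)
  have hKn : ∀ n : ℤ, IsZero ((res (Wp fs)).obj ((T.obj (kObj fs))⟦n⟧)) := fun n =>
    ((shiftFunctor _ n).map_isZero hK).of_iso (((res (Wp fs)).commShiftIso n).app _)
  have hpush : ∀ M, Ortho (T.obj (kObj fs)) ((push (Wp fs)).obj M) := fun M n φ =>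
    ((adj (Wp fs)).homEquiv _ _).symm.injective ((hKn n).eq_of_src _ _)
  constructor
  · rintro ⟨M, -, ⟨e⟩⟩
    exact ortho_of_iso (Iso.refl _) e.symm (hpush M)
  · intro ho
    refine ⟨(res (Wp fs)).obj E, isQCohD_restrictD _ hE, ?_⟩
    obtain ⟨F, p, d, hT⟩ := distinguished_cocone_triangle₁ ((adj (Wp fs)).unit.app E)
    have hFW : IsZero ((res (Wp fs)).obj F) :=
      (Triangle.isZero₁_iff_isIso₂ _ ((res (Wp fs)).map_distinguished _ hT)).2 (isIso_res_unit _ E)
    have hq : QuasiCompact (Wp fs).ι := by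
      classical
      haveI : CompactSpace (((Wp fs) : (Spec (CommRingCat.of A)).Opens) : Scheme.{u}) := isCompact_iff_compactSpace.1 (by
        have hW : ((Wp fs) : Set (Spec (CommRingCat.of A))) = ⋃ f ∈ fs.toFinset, (bo (R := (CommRingCat.of A)) f : Set (Spec (CommRingCat.of A))) := by
          ext x
          simp only [Set.mem_iUnion, List.mem_toFinset, SetLike.mem_coe]
          exact ⟨fun hx => let ⟨f, hf, h⟩ := exists_mem_bo fs hx; ⟨f, hf, h⟩, fun ⟨f, hf, h⟩ => bo_le fs hf h⟩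
        rw [hW]
        exact fs.toFinset.finite_toSet.isCompact_biUnion fun f _ => PrimeSpectrum.isCompact_basicOpen f)
      infer_instance
    have hFq : DCoh.IsQCohD F := isQCohD_first _ hT hE
      (RpushQC.isQCohD_Rpush (Wp fs).ι _ (isQCohD_restrictD _ hE))
    obtain ⟨F₀, ⟨eF⟩⟩ := (TildeD.isQCohD_iff F).1 hFq
    have hF0 : IsZero F := by
      refine (T.map_isZero (isZero_of_kObj_orthogonal fs ((isZero_res_punctured fs F₀).1
        (hFW.of_iso ((res (Wp fs)).mapIso eF))) fun n h => T.map_injective ?_)).of_iso eF.symm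
      rw [Functor.map_zero, ← cancel_mono (((T.commShiftIso n).app F₀).hom ≫ eF.hom⟦n⟧'), zero_comp]
      have hoF : Ortho (T.obj (kObj fs)) F := fun m φ => by
        obtain ⟨g, hg⟩ := Triangle.coyoneda_exact₂ _ (inv_rot_of_distTriang _ hT) φ (ho m (φ ≫ p))
        rw [hg, show g = 0 from ortho_shift (hpush _) (-1) m g, zero_comp]
      exact hom_zero_of_ortho hoF n _
    haveI : IsIso ((adj (Wp fs)).unit.app E) := (Triangle.isZero₁_iff_isIso₂ _ hT).1 hF0
    exact ⟨asIso ((adj (Wp fs)).unit.app E)⟩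

theorem exists_section_fac {E : DCoh.D (Spec (CommRingCat.of A))} (hE : DCoh.IsQCohD E)
    (hU : ∀ i : ℤ, -(fs.length : ℤ) < i → i ≤ 0 → IsZero ((DCoh.HD E i).restrict (Wp fs).ι))
    {O : DCoh.D (Spec (CommRingCat.of A))} (eO : (DCoh.tildeD (CommRingCat.of A)).obj (kObj ([] : List A)) ≅ O) (s : O ⟶ E) :
    ∃ (e : ℕ) (ψ : (DCoh.tildeD (CommRingCat.of A)).obj (kObj (fs.map (fun a => a ^ e))) ⟶ E)
      (t : O ⟶ (DCoh.tildeD (CommRingCat.of A)).obj (kObj (fs.map (fun a => a ^ e)))), t ≫ ψ = s := by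
  haveI := (TildeD.fullyFaithful (R := (CommRingCat.of A))).1
  let T := DCoh.tildeD (CommRingCat.of A)
  obtain ⟨E₀, ⟨eE⟩⟩ := (TildeD.isQCohD_iff E).1 hE
  obtain ⟨N, hN⟩ := exists_fac_powers fs E₀ (fun f hf i h1 h2 => tors_at_of_restrict fs
    ((hU i h1 h2).of_iso ((Scheme.Modules.restrictFunctor _).mapIso
      ((DerivedCategory.homologyFunctor _ i).mapIso eE))) hf) (T.preimage (eO.hom ≫ s ≫ eE.inv))
  obtain ⟨t, ψ, h⟩ := hN N le_rfl
  refine ⟨N, T.map ψ ≫ eE.hom, eO.inv ≫ T.map t, ?_⟩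
  rw [Category.assoc, ← Category.assoc (T.map t), ← T.map_comp, h, T.map_preimage]
  simp

end Groth.L29.DC.Gen
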