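import Groth.Agent.L29.DCoh.Gen.Main
import Groth.Agent.L29.DCoh.QCohColim

/-!
Compactness among objects with supports gives compactness in `D_QCoh`.
-/

set_option autoImplicit false
set_option backward.defeqAttrib.useBackward true
set_option backward.isDefEq.respectTransparency false
set_option backward.isDefEq.respectTransparency.types false

universe u

open CategoryTheory CategoryTheory.Limits CategoryTheory.Pretriangulated AlgebraicGeometry ZeroObject

attribute [local instance] HasDerivedCategory.standard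

namespace Groth.L29.DC.Gen

/-- the direct sum map is injective -/
theorem injective_homSum {D : Type*} [Category D] [Preadditive D] (K : D) {ι : Type*} (M : ι → D) [HasCoproduct M] :
    Function.Injective (PerfAux.homSumToHomCoprod K M) := by
  classical
  let Φ := PerfAux.homSumToHomCoprod K M
  have hof : ∀ i (g : K ⟶ M i), Φ (DirectSum.of _ i g) = g ≫ Sigma.ι M i := fun i g => by
    change (DirectSum.toAddMonoid fun i => Preadditive.rightComp K (Sigma.ι M i)) (DirectSum.of _ i g) = _
    exact DirectSum.toAddMonoid_of _ _ _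
  refine (injective_iff_map_eq_zero Φ).2 fun x hx => DFinsupp.ext fun j => ?_
  let p : ∐ M ⟶ M j := Sigma.desc fun i => if h : i = j then eqToHom (congrArg M h) else 0
  have hp : ∀ y, Φ y ≫ p = y j := fun y => by
    induction y using DirectSum.induction_on with
    | zero => simp
    | of i g =>
      rw [hof, Category.assoc, Sigma.ι_desc]
      by_cases hij : i = j
      · subst hij
        simp
      · simp [hij, DirectSum.of_eq_of_ne _ _ _ (Ne.symm hij)]
    | add y z hy hz => simp [hy, hz]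
  simpa [hx] using (hp x).symm

variable {X : Scheme.{u}}

theorem isCompact_of_supp [QuasiSeparatedSpace X] (Ω : X.Opens) (hΩ : IsCompact (Ω : Set X)) {K : DCoh.D X}
    (hKΩ : ZOn K Ω) (h : PerfAux.IsCompactObjRel.{u} (fun L : DCoh.D X => DCoh.IsQCohD L ∧ ZOn L Ω) K) :
    PerfAux.IsCompactObjRel.{u} (fun L : DCoh.D X => DCoh.IsQCohD L) K := by
  intro ι M _ hM
  classical
  haveI : CompactSpace (Ω : Scheme.{u}) := isCompact_iff_compactSpace.1 hΩ
  haveI : QuasiCompact Ω.ι := inferInstance
  haveI : HasCoproductsOfShape ι (DCoh.D X) :=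
    haveI : HasCoproductsOfShape ι (CochainComplex X.Modules ℤ) := inferInstance
    haveI := QRlim.enoughKInj X
    haveI := QRlim.enoughKInj (Ω : Scheme.{u})
    Groth.L10.DerivedProd.hasCoproductsOfShape
  haveI : HasCoproductsOfShape ι (DCoh.D (Ω : Scheme.{u})) :=
    haveI : HasCoproductsOfShape ι (CochainComplex (Ω : Scheme.{u}).Modules ℤ) := inferInstance
    haveI := QRlim.enoughKInj X
    haveI := QRlim.enoughKInj (Ω : Scheme.{u})
    Groth.L10.DerivedProd.hasCoproductsOfShape
  refine ⟨injective_homSum K M, fun f => ?_⟩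
  let r : ι → DCoh.D (Ω : Scheme.{u}) := fun i => (res Ω).obj (M i)
  let L : ι → DCoh.D X := fun i => (push Ω).obj (r i)
  let q : ∀ i, M i ⟶ L i := fun i => (adj Ω).unit.app (M i)
  choose G p d hT using fun i => distinguished_cocone_triangle₁ (q i)
  have hG : ∀ i, DCoh.IsQCohD (G i) ∧ ZOn (G i) Ω := fun i => by
    refine ⟨isQCohD_first _ (hT i) (hM i) (isQCohD_push hΩ (isQCohD_restrictD Ω.ι (hM i))),
      (isZero_res_iff Ω _).1 ?_⟩
    exact (Triangle.isZero₁_iff_isIso₂ _ ((res Ω).map_distinguished _ (hT i))).2 (isIso_res_unit Ω (M i))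
  let a : ∐ G ⟶ ∐ M := Limits.Sigma.map p
  obtain ⟨C, b, d', hC⟩ := distinguished_cocone_triangle a
  have hψ : ∀ i, ∃ ψ : L i ⟶ C, Sigma.ι M i ≫ b = q i ≫ ψ := fun i =>
    Triangle.yoneda_exact₂ _ (hT i) (Sigma.ι M i ≫ b) (by
      have hab : a ≫ b = 0 := comp_distTriang_mor_zero₁₂ _ hC
      have h1 : p i ≫ Sigma.ι M i = Sigma.ι G i ≫ a := by simp [a]
      change p i ≫ Sigma.ι M i ≫ b = 0
      rw [← Category.assoc, h1, Category.assoc, hab, comp_zero])
  choose ψ hψ using hψ
  have hb : b = Limits.Sigma.map q ≫ Sigma.desc ψ := Sigma.hom_ext _ _ fun i => by simp [hψ i]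
  haveI := QCohColim.isIso_sigma_desc Ω.ι r (fun i => isQCohD_restrictD Ω.ι (hM i))
  let θ : ∐ L ⟶ (push Ω).obj (∐ r) := Sigma.desc fun i => (push Ω).map (Sigma.ι r i)
  haveI : IsIso θ := ‹_›
  have hfq : f ≫ Limits.Sigma.map q = 0 := by
    rw [← cancel_mono θ, zero_comp]
    exact ((adj Ω).homEquiv K (∐ r)).symm.injective (((isZero_res_iff Ω K).2 hKΩ).eq_of_src _ _)
  obtain ⟨g, hg⟩ := Triangle.coyoneda_exact₂ _ hC f (by
    change f ≫ b = 0
    rw [hb, ← Category.assoc, hfq, zero_comp])
  change K ⟶ ∐ G at g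
  change f = g ≫ a at hg
  obtain ⟨c, hc⟩ := (h ι G hG).surjective g
  refine ⟨∑ i ∈ DFinsupp.support c, DirectSum.of (fun i => K ⟶ M i) i (c i ≫ p i), ?_⟩
  rw [hg, ← hc, map_sum]
  conv_rhs => rw [← DirectSum.sum_support_of c, map_sum, Preadditive.sum_comp]
  refine Finset.sum_congr rfl fun i _ => ?_
  change (DirectSum.toAddMonoid fun i => Preadditive.rightComp K (Sigma.ι M i)) (DirectSum.of _ i (c i ≫ p i)) =
    (DirectSum.toAddMonoid fun i => Preadditive.rightComp K (Sigma.ι G i)) (DirectSum.of _ i (c i)) ≫ a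
  rw [DirectSum.toAddMonoid_of, DirectSum.toAddMonoid_of]
  change (c i ≫ p i) ≫ Sigma.ι M i = (c i ≫ Sigma.ι G i) ≫ a
  simp [a]

end Groth.L29.DC.Gen
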