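import Groth.Agent.L29.DCoh.Gen.Loc
import Groth.Prelude.Def_CohB1

/-!
Support conditions as vanishing on an open; Mayer–Vietoris; objects supported inside an open.
-/

set_option autoImplicit false
set_option backward.defeqAttrib.useBackward true
set_option backward.isDefEq.respectTransparency false
set_option backward.isDefEq.respectTransparency.types false

universe u

open CategoryTheory CategoryTheory.Limits CategoryTheory.Pretriangulated AlgebraicGeometry ZeroObject

attribute [local instance] HasDerivedCategory.standard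

namespace Groth.L29.DC.Gen

open Groth.L00

variable {X : Scheme.{u}}

theorem isZero_stalk_iff (M : X.Modules) (x : X) :
    IsZero ((Stk.F X x).obj M) ↔ x ∉ CohB1.support M := by
  rw [ModuleCat.isZero_iff_subsingleton]
  exact not_not.symm

/-- support off `j` means the restriction vanishes -/
theorem isZero_restrictD_iff {U : Scheme.{u}} (j : U ⟶ X) [IsOpenImmersion j] (K : DCoh.D X) :
    IsZero ((DCoh.restrictD j).obj K) ↔ ∀ i : ℤ, CohB1.support (DCoh.HD K i) ⊆ (Set.range j)ᶜ := by
  constructor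
  · rintro h i _ hx ⟨y, rfl⟩
    have h1 : IsZero ((ExtZero.res j).obj (DCoh.HD K i)) :=
      ((DerivedCategory.homologyFunctor _ i).map_isZero h).of_iso (HDResIso j K i).symm
    exact (isZero_stalk_iff _ _).1 (Cpt.isZero_stalk_of_res j _ h1 y) hx
  · intro h
    refine isZero_of_hd fun i => IsZero.of_iso ?_ (HDResIso j K i)
    refine (Stk.isZero_iff _).2 fun y => ?_
    have hz : IsZero ((Stk.F X (j y)).obj (DCoh.HD K i)) :=
      (isZero_stalk_iff _ _).2 fun hx => h i hx ⟨y, rfl⟩
    exact (((ModuleCat.extendScalars (PullStalk.φ j y)).map_isZero hz).of_iso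
      ((PullStalk.stalkIso j y).app _)).of_iso
        ((Stk.F _ y).mapIso ((Scheme.Modules.restrictFunctorIsoPullback j).app _))

/-- the complement of a closed set -/
abbrev compl {T : Set X} (hT : IsClosed T) : X.Opens := ⟨Tᶜ, hT.isOpen_compl⟩

theorem supp_iff {T : Set X} (hT : IsClosed T) (K : DCoh.D X) :
    (∀ i : ℤ, CohB1.support (DCoh.HD K i) ⊆ T) ↔ IsZero ((res (compl hT)).obj K) := by
  rw [isZero_restrictD_iff]
  have : (Set.range (compl hT).ι)ᶜ = T := by
    rw [Scheme.Opens.range_ι]
    exact compl_compl T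
  rw [this]

/-- direct images vanish where the object does -/
theorem isZero_res_push_of {V U : X.Opens} (M : DCoh.D (V : Scheme.{u}))
    (h : IsZero ((DCoh.restrictD (X.homOfLE (inf_le_right : U ⊓ V ≤ V))).obj M)) :
    IsZero ((res U).obj ((push V).obj M)) := by
  obtain ⟨e⟩ := RpushRes.nonempty_iso V.ι U.ι (X.homOfLE (inf_le_right : U ⊓ V ≤ V))
    (X.homOfLE (inf_le_left : U ⊓ V ≤ U)) (preimage_le U V)
    (by rw [X.homOfLE_ι, X.homOfLE_ι])
  haveI := (Cpt.restrictRpushAdj (X.homOfLE (inf_le_left : U ⊓ V ≤ U))).right_adjoint_additive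
  exact ((DCoh.Rpush _).map_isZero h).of_iso (e.app M)

theorem isZero_res_push_res {V U : X.Opens} {K : DCoh.D X} (h : IsZero ((res (U ⊓ V)).obj K)) :
    IsZero ((res U).obj ((push V).obj ((res V).obj K))) :=
  isZero_res_push_of _ (h.of_iso ((resLE (inf_le_right : U ⊓ V ≤ V)).app K))

/-- objects vanishing on `Ω` are local on `U` when `U ∪ Ω` is everything -/
theorem isLoc_of_zero {U Ω : X.Opens} (h : ∀ x : X, x ∈ U ∨ x ∈ Ω) {K : DCoh.D X}
    (hK : IsZero ((res Ω).obj K)) : IsLoc U K :=
  isIso_of_cover _ fun x => (h x).elim (fun hx => ⟨U, hx, isIso_res_unit U K⟩) fun hx =>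
    ⟨Ω, hx, isIso_of_source_target_iso_zero _ hK.isoZero
      (isZero_res_push_res (isZero_res_of_le inf_le_left hK)).isoZero⟩

theorem isIso_res_inf_unit (U V : X.Opens) (E : DCoh.D X) :
    IsIso ((res (U ⊓ V)).map ((adj U).unit.app E)) ∧ IsIso ((res (U ⊓ V)).map ((adj V).unit.app E)) :=
  ⟨haveI := isIso_res_unit U E; isIso_res_of_le inf_le_left _,
    haveI := isIso_res_unit V E; isIso_res_of_le inf_le_right _⟩

/-- first map to the overlap -/
noncomputable def mvMap (U W : X.Opens) (E : DCoh.D X) (h : IsIso ((res W).map ((adj U).unit.app E))) :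
    (push U).obj ((res U).obj E) ⟶ (push W).obj ((res W).obj E) :=
  haveI := h
  (adj W).unit.app _ ≫ (push W).map (inv ((res W).map ((adj U).unit.app E)))

theorem unit_mvMap (U W : X.Opens) (E : DCoh.D X) (h : IsIso ((res W).map ((adj U).unit.app E))) :
    (adj U).unit.app E ≫ mvMap U W E h = (adj W).unit.app E := by
  haveI := h
  have h1 : (adj U).unit.app E ≫ (adj W).unit.app ((push U).obj ((res U).obj E)) =
      (adj W).unit.app E ≫ (push W).map ((res W).map ((adj U).unit.app E)) := (adj W).unit.naturality _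
  rw [mvMap, ← Category.assoc]
  refine (congrArg (· ≫ _) h1).trans ?_
  rw [Category.assoc, ← Functor.map_comp, IsIso.hom_inv_id, CategoryTheory.Functor.map_id]
  exact Category.comp_id _

/-- Mayer–Vietoris -/
theorem exists_mv {U V : X.Opens} (hUV : U ⊔ V = ⊤) (E : DCoh.D X) :
    ∃ (d : (push (U ⊓ V)).obj ((res (U ⊓ V)).obj E) ⟶ E⟦(1 : ℤ)⟧),
      Triangle.mk (biprod.lift ((adj U).unit.app E) (-((adj V).unit.app E)))
        (biprod.desc (mvMap U (U ⊓ V) E (isIso_res_inf_unit U V E).1)
          (mvMap V (U ⊓ V) E (isIso_res_inf_unit U V E).2)) d ∈ distTriang _ := by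
  let W := U ⊓ V
  let uU := (adj U).unit.app E
  let uV := (adj V).unit.app E
  obtain ⟨hU', hV'⟩ := isIso_res_inf_unit U V E
  let qU := mvMap U W E hU'
  let qV := mvMap V W E hV'
  obtain ⟨F, m, d, hT⟩ := distinguished_cocone_triangle₁ (biprod.desc qU qV)
  haveI : IsIso ((res W).map qU) := by
    haveI := hU'
    haveI := isIso_res_unit W ((push U).obj ((res U).obj E))
    simp only [qU, mvMap, Functor.map_comp]
    infer_instance
  haveI : IsIso ((res W).map qV) := by
    haveI := hV'
    haveI := isIso_res_unit W ((push V).obj ((res V).obj E))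
    simp only [qV, mvMap, Functor.map_comp]
    infer_instance
  haveI : IsIso ((res U).map qV) := isIso_res_of_inter U (isLoc_push V _) (isLoc_of_le inf_le_right _) qV
  haveI : IsIso ((res V).map qU) := by
    haveI : IsIso ((res (V ⊓ U)).map qU) := isIso_res_of_le (inf_comm V U).le qU
    exact isIso_res_of_inter V (isLoc_push U _) (isLoc_of_le inf_le_left _) qU
  haveI := isIso_fib_fst (res U) hT
  have hT' : Triangle.mk (m ≫ (biprod.braiding _ _).hom) (biprod.desc qV qU) d ∈ distTriang _ := by
    refine isomorphic_distinguished _ hT _ ?_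
    refine Triangle.isoMk _ _ (Iso.refl _) (biprod.braiding _ _).symm (Iso.refl _) ?_ ?_ (by simp)
    · change (m ≫ (biprod.braiding _ _).hom) ≫ (biprod.braiding _ _).inv = 𝟙 _ ≫ m
      simp
    · change biprod.desc qV qU ≫ 𝟙 _ = (biprod.braiding _ _).inv ≫ biprod.desc qU qV
      simp only [Category.comp_id]
      ext <;> simp
  haveI := isIso_fib_fst (res V) hT'
  have hzero : biprod.lift uU (-uV) ≫ biprod.desc qU qV = 0 := by
    rw [biprod.lift_desc]
    exact (congrArg₂ (· + ·) (unit_mvMap U W E hU')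
      ((Preadditive.neg_comp _ _).trans (congrArg Neg.neg (unit_mvMap V W E hV')))).trans (add_neg_cancel _)
  obtain ⟨ψ, hψ⟩ := Triangle.coyoneda_exact₂ _ hT (biprod.lift uU (-uV)) hzero
  change E ⟶ F at ψ
  change biprod.lift uU (-uV) = ψ ≫ m at hψ
  haveI : IsIso ψ := isIso_of_cover ψ fun x => by
    have hx : x ∈ U ⊔ V := hUV ▸ trivial
    rcases hx with hx | hx
    · refine ⟨U, hx, ?_⟩
      haveI := isIso_res_unit U E
      have he : (res U).map ψ ≫ (res U).map (m ≫ biprod.fst) = (res U).map uU := by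
        rw [← Functor.map_comp, ← Category.assoc, ← hψ]
        exact congrArg (res U).map (biprod.lift_fst _ _)
      exact IsIso.of_isIso_fac_right he
    · refine ⟨V, hx, ?_⟩
      haveI := isIso_res_unit V E
      have he : (res V).map ψ ≫ (res V).map ((m ≫ (biprod.braiding _ _).hom) ≫ biprod.fst) = -(res V).map uV := by
        rw [← Functor.map_comp, ← Functor.map_neg, Category.assoc, ← Category.assoc ψ, ← hψ]
        simp
      haveI : IsIso (-(res V).map uV) := ⟨-inv ((res V).map uV), by simp, by simp⟩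
      exact IsIso.of_isIso_fac_right he
  refine ⟨d ≫ (inv ψ)⟦(1 : ℤ)⟧', isomorphic_distinguished _ hT _ ?_⟩
  refine Triangle.isoMk _ _ (asIso ψ) (Iso.refl _) (Iso.refl _) ?_ ?_ ?_
  · change biprod.lift uU (-uV) ≫ 𝟙 _ = ψ ≫ m
    rw [Category.comp_id, hψ]
  · change biprod.desc qU qV ≫ 𝟙 _ = 𝟙 _ ≫ biprod.desc qU qV
    simp
  · change (d ≫ (inv ψ)⟦(1 : ℤ)⟧') ≫ ψ⟦(1 : ℤ)⟧' = 𝟙 _ ≫ d
    rw [Category.assoc, ← Functor.map_comp, IsIso.inv_hom_id, CategoryTheory.Functor.map_id, Category.comp_id,
      Category.id_comp]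

end Groth.L29.DC.Gen
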